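import Mathlib
import Cfsg.Agent.Lib.Helper10.BR0
import Cfsg.Prelude.Def_Perm

/-!
# S0999 (Brauer–Reynolds), piece BR-G6c: a simple non-cyclic group does not embed in the
one-dimensional semi-affine group of a finite field (which is solvable)
-/

set_option autoImplicit false

namespace Cfsg.Agent.Lib.Helper10.BR

open Cfsg

/-- ring automorphisms of a finite field commute -/
theorem h55_ringAut_comm {F : Type*} [Field F] [Finite F] (φ ψ : F ≃+* F) (x : F) :
    φ (ψ x) = ψ (φ x) := by
  by_cases hx : x = 0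
  · subst hx; simp
  · obtain ⟨m, hm⟩ := MonoidHom.map_cyclic (Units.map (φ : F →* F))
    obtain ⟨n, hn⟩ := MonoidHom.map_cyclic (Units.map (ψ : F →* F))
    have h1 : Units.map (φ : F →* F) (Units.map (ψ : F →* F) (Units.mk0 x hx)) =
        Units.map (ψ : F →* F) (Units.map (φ : F →* F) (Units.mk0 x hx)) := by
      rw [hn, hm, hm, hn, ← zpow_mul, ← zpow_mul, mul_comm]
    have h2 := congrArg Units.val h1
    simpa using h2

theorem h55_unique {F : Type*} [Field F] {a a' : Fˣ} {b b' : F} {φ φ' : F ≃+* F}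
    (h : ∀ x, (a : F) * φ x + b = (a' : F) * φ' x + b') : a = a' ∧ b = b' ∧ φ = φ' := by
  have hb : b = b' := by simpa using h 0
  have ha : a = a' := by
    have := h 1
    rw [map_one, map_one, mul_one, mul_one, hb] at this
    exact Units.ext (add_right_cancel this)
  refine ⟨ha, hb, RingEquiv.ext fun x => ?_⟩
  have := h x
  rw [hb, ha] at this
  exact (Units.mul_right_inj a').mp (add_right_cancel this)

theorem h55_mem {F : Type*} [Field F] (σ : ↥(semiaffineGroup F)) :
    ∃ a : Fˣ, ∃ b : F, ∃ φ : F ≃+* F, ∀ x, (σ : Equiv.Perm F) x = (a : F) * φ x + b := σ.2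

/-- the data `(a, b, φ)` of a semi-affine map `x ↦ a * φ x + b` -/
noncomputable def h55_dat {F : Type*} [Field F] (σ : ↥(semiaffineGroup F)) :
    Fˣ × F × (F ≃+* F) :=
  ⟨Classical.choose (h55_mem σ), Classical.choose (Classical.choose_spec (h55_mem σ)),
    Classical.choose (Classical.choose_spec (Classical.choose_spec (h55_mem σ)))⟩

theorem h55_dat_spec {F : Type*} [Field F] (σ : ↥(semiaffineGroup F)) (x : F) :
    (σ : Equiv.Perm F) x = ((h55_dat σ).1 : F) * (h55_dat σ).2.2 x + (h55_dat σ).2.1 :=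
  Classical.choose_spec (Classical.choose_spec (Classical.choose_spec (h55_mem σ))) x

theorem h55_dat_eq {F : Type*} [Field F] (σ : ↥(semiaffineGroup F)) (a : Fˣ) (b : F)
    (φ : F ≃+* F) (h : ∀ x, (σ : Equiv.Perm F) x = (a : F) * φ x + b) :
    h55_dat σ = (a, b, φ) := by
  obtain ⟨h1, h2, h3⟩ := h55_unique (fun x => (h55_dat_spec σ x).symm.trans (h x))
  exact Prod.ext h1 (Prod.ext h2 h3)

theorem h55_dat_mul {F : Type*} [Field F] (σ τ : ↥(semiaffineGroup F)) :
    h55_dat (σ * τ) = ((h55_dat σ).1 * Units.map ((h55_dat σ).2.2 : F →* F) (h55_dat τ).1,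
      ((h55_dat σ).1 : F) * (h55_dat σ).2.2 (h55_dat τ).2.1 + (h55_dat σ).2.1,
      (h55_dat τ).2.2.trans (h55_dat σ).2.2) := by
  apply h55_dat_eq
  intro x
  show (σ : Equiv.Perm F) ((τ : Equiv.Perm F) x) = _
  rw [h55_dat_spec τ x, h55_dat_spec σ]
  simp only [Units.val_mul, Units.coe_map, MonoidHom.coe_coe, RingEquiv.coe_trans,
    Function.comp_apply, map_add, map_mul]
  ring

theorem h55_dat_one {F : Type*} [Field F] :
    h55_dat (1 : ↥(semiaffineGroup F)) = (1, 0, RingEquiv.refl F) := by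
  apply h55_dat_eq
  intro x
  simp

/-- the automorphism part, as a homomorphism -/
noncomputable def h55_pi (F : Type*) [Field F] : ↥(semiaffineGroup F) →* RingAut F where
  toFun σ := (h55_dat σ).2.2
  map_one' := by rw [h55_dat_one]; rfl
  map_mul' σ τ := by rw [h55_dat_mul]; rfl

theorem h55_pi_apply {F : Type*} [Field F] (σ : ↥(semiaffineGroup F)) :
    h55_pi F σ = (h55_dat σ).2.2 := rfl

theorem h55_ker_phi {F : Type*} [Field F] (σ : ↥(h55_pi F).ker) :
    (h55_dat σ.1).2.2 = RingEquiv.refl F := σ.2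

/-- the multiplier, as a homomorphism on the affine maps -/
noncomputable def h55_al (F : Type*) [Field F] : ↥(h55_pi F).ker →* Fˣ where
  toFun σ := (h55_dat σ.1).1
  map_one' := by
    show (h55_dat (1 : ↥(semiaffineGroup F))).1 = 1
    rw [h55_dat_one]
  map_mul' σ τ := by
    show (h55_dat (σ.1 * τ.1)).1 = (h55_dat σ.1).1 * (h55_dat τ.1).1
    rw [h55_dat_mul, h55_ker_phi σ]
    congr 1

theorem h55_ker_al {F : Type*} [Field F] (σ : ↥(h55_al F).ker) (x : F) :
    (σ.1.1 : Equiv.Perm F) x = x + (h55_dat σ.1.1).2.1 := by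
  have h1 : (h55_dat σ.1.1).1 = 1 := σ.2
  have h2 := h55_ker_phi σ.1
  rw [h55_dat_spec σ.1.1 x, h1, h2]
  simp

theorem h55_semiaffine_solvable (F : Type*) [Field F] [Finite F] :
    Group.IsSolvable ↥(semiaffineGroup F) := by
  have h1 : Group.IsSolvable (RingAut F) :=
    Group.isSolvable_of_comm (fun φ ψ => RingEquiv.ext (fun x => h55_ringAut_comm φ ψ x))
  have h2 : Group.IsSolvable ↥(h55_al F).ker := by
    refine Group.isSolvable_of_comm (fun σ τ => ?_)
    apply Subtype.ext
    apply Subtype.ext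
    apply Subtype.ext
    apply Equiv.ext
    intro x
    show (σ.1.1 : Equiv.Perm F) ((τ.1.1 : Equiv.Perm F) x) =
      (τ.1.1 : Equiv.Perm F) ((σ.1.1 : Equiv.Perm F) x)
    rw [h55_ker_al τ x, h55_ker_al σ, h55_ker_al σ x, h55_ker_al τ]
    ring
  have h3 : Group.IsSolvable ↥(h55_pi F).ker :=
    Group.isSolvable_of_ker_le_range (h55_al F).ker.subtype (h55_al F) (by rw [Subgroup.range_subtype])
  exact Group.isSolvable_of_ker_le_range (h55_pi F).ker.subtype (h55_pi F)
    (by rw [Subgroup.range_subtype])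

/-- BR-G6c -/
theorem not_semiaffine {G : Type*} [Group G] [Finite G] [IsSimpleGroup G] (hG : ¬ IsCyclic G)
    (q : ℕ) (hq : q.Prime) (Γ : Subgroup (Equiv.Perm (GaloisField 2 q)))
    (hΓ : Γ ≤ Cfsg.semiaffineGroup (GaloisField 2 q)) (f : G ≃* Γ) : False := by
  have hS := h55_semiaffine_solvable (GaloisField 2 q)
  have hsol : Group.IsSolvable G :=
    Group.isSolvable_of_isSolvable_injective (f := (Subgroup.inclusion hΓ).comp f.toMonoidHom)
      ((Subgroup.inclusion_injective hΓ).comp f.injective)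
  have hcomm : ∀ a b : G, a * b = b * a := IsSimpleGroup.comm_iff_isSolvable.mpr hsol
  let _ : CommGroup G := { (inferInstance : Group G) with mul_comm := hcomm }
  exact hG IsSimpleGroup.isCyclic

end Cfsg.Agent.Lib.Helper10.BR
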