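import Cfsg.Agent.Lib.Helper55.TF
import Cfsg.Agent.Lib.Helper56.Asym
import Cfsg.Agent.Lib.Helper56.LLemma
import Mathlib

set_option autoImplicit false
open Cfsg
open scoped commutatorElement

namespace Cfsg.Agent.Lib.Helper55

variable {G : Type*} [Group G] {p : ℕ}

/-! ### subgroups between `D` and a characteristic `p` group -/

/-- the elements `g` of `P` with `[K, g] ⊆ R`, for `R` normalized by `P` -/
def commInto (P K R : Subgroup G) (hR : P ≤ Subgroup.normalizer (R : Set G)) : Subgroup G where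
  carrier := {g | g ∈ P ∧ ∀ k ∈ K, k * g * k⁻¹ * g⁻¹ ∈ R}
  one_mem' := ⟨P.one_mem, fun k _ => by simp⟩
  mul_mem' := by
    rintro g h ⟨hg, hg'⟩ ⟨hh, hh'⟩
    refine ⟨P.mul_mem hg hh, fun k hk => ?_⟩
    have e : k * (g * h) * k⁻¹ * (g * h)⁻¹ =
        (k * g * k⁻¹ * g⁻¹) * (g * (k * h * k⁻¹ * h⁻¹) * g⁻¹) := by group
    rw [e]
    exact R.mul_mem (hg' k hk) ((Subgroup.mem_normalizer_iff.mp (hR hg) _).mp (hh' k hk))
  inv_mem' := by
    rintro g ⟨hg, hg'⟩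
    refine ⟨P.inv_mem hg, fun k hk => ?_⟩
    have e : k * g⁻¹ * k⁻¹ * g⁻¹⁻¹ = g⁻¹ * (k * g * k⁻¹ * g⁻¹)⁻¹ * g⁻¹⁻¹ := by group
    rw [e]
    exact (Subgroup.mem_normalizer_iff.mp (hR (P.inv_mem hg)) _).mp (R.inv_mem (hg' k hk))

theorem mem_commInto {P K R : Subgroup G} {hR : P ≤ Subgroup.normalizer (R : Set G)} {g : G} :
    g ∈ commInto P K R hR ↔ g ∈ P ∧ ∀ k ∈ K, k * g * k⁻¹ * g⁻¹ ∈ R := Iff.rfl

theorem commInto_conj {P K R : Subgroup G} (hR : P ≤ Subgroup.normalizer (R : Set G))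
    (hK : P ≤ Subgroup.normalizer (K : Set G)) {g y : G} (hg : g ∈ commInto P K R hR)
    (hy : y ∈ P) : y * g * y⁻¹ ∈ commInto P K R hR := by
  refine ⟨P.mul_mem (P.mul_mem hy hg.1) (P.inv_mem hy), fun k hk => ?_⟩
  have e : k * (y * g * y⁻¹) * k⁻¹ * (y * g * y⁻¹)⁻¹ =
      y * ((y⁻¹ * k * y⁻¹⁻¹) * g * (y⁻¹ * k * y⁻¹⁻¹)⁻¹ * g⁻¹) * y⁻¹ := by group
  rw [e]
  have hk' : y⁻¹ * k * y⁻¹⁻¹ ∈ K :=
    (Subgroup.mem_normalizer_iff.mp (hK (P.inv_mem hy)) k).mp hk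
  exact (Subgroup.mem_normalizer_iff.mp (hR hy) _).mp (hg.2 _ hk')

/-- If `H` has characteristic `p`, `D` is a `p`-subgroup of `H` with `C_H(D) ≤ D` normalized by
`O_p(H)`, then every subgroup `P` with `D ≤ P ≤ H` has characteristic `p`. -/
theorem charP_of_between [Finite G] [Fact p.Prime] {H P D : Subgroup G}
    (hH : H ⊓ Subgroup.centralizer ((Cfsg.pCoreOf p H : Subgroup G) : Set G) ≤ Cfsg.pCoreOf p H)
    (hDp : IsPGroup p D) (hCD : H ⊓ Subgroup.centralizer (D : Set G) ≤ D)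
    (hDP : D ≤ P) (hPH : P ≤ H)
    (hKD : Cfsg.pCoreOf p H ≤ Subgroup.normalizer (D : Set G)) :
    P ⊓ Subgroup.centralizer ((Cfsg.pCoreOf p P : Subgroup G) : Set G) ≤ Cfsg.pCoreOf p P := by
  obtain ⟨K, hK⟩ : ∃ K, K = Cfsg.pCoreOf p H := ⟨_, rfl⟩
  rw [← hK] at hH hKD
  have hKp : IsPGroup p K := by rw [hK]; exact pCoreOf_isPGroup H
  have hHK : H ≤ Subgroup.normalizer (K : Set G) := by rw [hK]; exact le_normalizer_pCoreOf H
  have hPK : P ≤ Subgroup.normalizer (K : Set G) := hPH.trans hHK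
  obtain ⟨O, hO⟩ : ∃ O, O = Cfsg.pCoreOf p P := ⟨_, rfl⟩
  rw [← hO]
  have hOp : IsPGroup p O := by rw [hO]; exact pCoreOf_isPGroup P
  have hPO : P ≤ Subgroup.normalizer (O : Set G) := by rw [hO]; exact le_normalizer_pCoreOf P
  -- R = P ∩ K
  have hPR : P ≤ Subgroup.normalizer ((P ⊓ K : Subgroup G) : Set G) :=
    le_trans (le_inf Subgroup.le_normalizer hPK) (Helper56.normalizer_inf_le _ _)
  have hRO : P ⊓ K ≤ O := by
    rw [hO]; exact le_pCoreOf inf_le_left hPR (hKp.to_le inf_le_right)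
  -- C = C_P(O)
  have hPC : P ≤ Subgroup.normalizer ((P ⊓ Subgroup.centralizer (O : Set G) : Subgroup G) : Set G) :=
    le_trans (le_inf Subgroup.le_normalizer
      (hPO.trans (Helper56.normalizer_le_normalizer_centralizer _))) (Helper56.normalizer_inf_le _ _)
  -- N
  have hDN : D ≤ commInto P K (P ⊓ K) hPR := by
    intro d hd
    refine ⟨hDP hd, fun k hk => ?_⟩
    have h1 : k * d * k⁻¹ ∈ D := (Subgroup.mem_normalizer_iff.mp (hKD hk) d).mp hd
    have h2 : d * k⁻¹ * d⁻¹ ∈ K :=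
      (Subgroup.mem_normalizer_iff.mp (hPK (hDP hd)) _).mp (K.inv_mem hk)
    refine Subgroup.mem_inf.mpr ⟨hDP (D.mul_mem h1 (D.inv_mem hd)), ?_⟩
    have e : k * d * k⁻¹ * d⁻¹ = k * (d * k⁻¹ * d⁻¹) := by group
    rw [e]; exact K.mul_mem hk h2
  -- claim A
  have hA : ∀ z ∈ (P ⊓ Subgroup.centralizer (O : Set G)) ⊓ commInto P K (P ⊓ K) hPR,
      (orderOf z).Coprime p → z = 1 := by
    intro z hz hcop
    obtain ⟨⟨hzP, hzC⟩, -, hzN⟩ := hz
    have hzK : z ∈ Subgroup.centralizer (K : Set G) := by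
      rw [Subgroup.mem_centralizer_iff]
      intro k hk
      have hr : k * z * k⁻¹ * z⁻¹ ∈ P ⊓ K := hzN k hk
      obtain ⟨e, he⟩ := (hKp.to_le (inf_le_right : P ⊓ K ≤ K)) ⟨_, hr⟩
      have he' : (k * z * k⁻¹ * z⁻¹) ^ (p ^ e) = 1 := by
        have := congrArg Subtype.val he
        simpa using this
      have hcomm : z * (k * z * k⁻¹ * z⁻¹) = (k * z * k⁻¹ * z⁻¹) * z :=
        ((Subgroup.mem_centralizer_iff.mp hzC) _ (hRO hr)).symm
      have h1 := Helper56.coprime_conj_eq z k⁻¹ (k * z * k⁻¹ * z⁻¹) (orderOf z) e hcop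
        (pow_orderOf_eq_one z) he' hcomm (by group)
      have : k * z = z * k := by
        have e2 : k * z = (k * z * k⁻¹ * z⁻¹) * (z * k) := by group
        rw [e2, h1, one_mul]
      exact this
    have hzKK : z ∈ K := hH (Subgroup.mem_inf.mpr ⟨hPH hzP, hzK⟩)
    exact Helper56.eq_one_of_coprime_of_mem_pgroup hKp hzKK hcop
  have hBp : IsPGroup p ↥((P ⊓ Subgroup.centralizer (O : Set G)) ⊓ commInto P K (P ⊓ K) hPR) :=
    Helper56.isPGroup_of_coprime_eq_one _ hA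
  have hPNn : P ≤ Subgroup.normalizer ((commInto P K (P ⊓ K) hPR : Subgroup G) : Set G) :=
    le_normalizer_of_conj_mem (fun l hl x hx => commInto_conj hPR hPK hx hl)
  have hBO : (P ⊓ Subgroup.centralizer (O : Set G)) ⊓ commInto P K (P ⊓ K) hPR ≤ O := by
    rw [hO]
    refine le_pCoreOf (inf_le_left.trans inf_le_left) ?_ (by rw [← hO]; exact hBp)
    rw [← hO]
    exact le_trans (le_inf hPC hPNn) (Helper56.normalizer_inf_le _ _)
  -- main
  have hCp : IsPGroup p ↥(P ⊓ Subgroup.centralizer (O : Set G)) := by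
    apply Helper56.isPGroup_of_coprime_eq_one
    intro x hx hcop
    obtain ⟨hxP, hxC⟩ := hx
    have hxD : x ∈ Subgroup.centralizer (D : Set G) := by
      rw [Subgroup.mem_centralizer_iff]
      intro d hd
      have hdP := hDP hd
      have hzB : d⁻¹ * (x * d * x⁻¹) ∈
          (P ⊓ Subgroup.centralizer (O : Set G)) ⊓ commInto P K (P ⊓ K) hPR := by
        refine Subgroup.mem_inf.mpr ⟨?_, ?_⟩
        · have h1 : d⁻¹ * x * d⁻¹⁻¹ ∈ P ⊓ Subgroup.centralizer (O : Set G) :=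
            (Subgroup.mem_normalizer_iff.mp (hPC (P.inv_mem hdP)) x).mp ⟨hxP, hxC⟩
          have e : d⁻¹ * (x * d * x⁻¹) = (d⁻¹ * x * d⁻¹⁻¹) * x⁻¹ := by group
          rw [e]
          exact Subgroup.mul_mem _ h1 (Subgroup.inv_mem _ ⟨hxP, hxC⟩)
        · exact Subgroup.mul_mem _ (Subgroup.inv_mem _ (hDN hd))
            (commInto_conj hPR hPK (hDN hd) hxP)
      have hzO := hBO hzB
      obtain ⟨e, he⟩ := hOp ⟨_, hzO⟩
      have he' : (d⁻¹ * (x * d * x⁻¹)) ^ (p ^ e) = 1 := by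
        have := congrArg Subtype.val he
        simpa using this
      have hcomm : x * (d⁻¹ * (x * d * x⁻¹)) = (d⁻¹ * (x * d * x⁻¹)) * x :=
        ((Subgroup.mem_centralizer_iff.mp hxC) _ hzO).symm
      have h1 := Helper56.coprime_conj_eq x d (d⁻¹ * (x * d * x⁻¹)) (orderOf x) e hcop
        (pow_orderOf_eq_one x) he' hcomm (by group)
      have e2 : d * x = d * (d⁻¹ * (x * d * x⁻¹)) * x := by rw [h1, mul_one]
      rw [e2]; group
    have hxDD : x ∈ D := hCD (Subgroup.mem_inf.mpr ⟨hPH hxP, hxD⟩)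
    exact Helper56.eq_one_of_coprime_of_mem_pgroup hDp hxDD hcop
  rw [hO]
  refine le_pCoreOf inf_le_left ?_ (by rw [← hO]; exact hCp)
  rw [← hO]; exact hPC

/-! ### `ℌ_G(O_p(M))` is nonempty -/

/-- In the asymmetric, char-`p`-tall case, `ℌ_G(O_p(M))` is nonempty. -/
theorem frakH_nonempty [Finite G] [Fact p.Prime] (S : Sylow p G) (Q : Subgroup G)
    (hQp : IsPGroup p Q) (hQS : Q ≤ (S : Subgroup G)) (hQ : Cfsg.IsLarge Q)
    (M : Subgroup G) (hSM : (S : Subgroup G) ≤ M) (hM : Cfsg.IsInFrakM p M)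
    (htall : Cfsg.IsCharPTall p (Cfsg.largestPReducedOf p M))
    (hasym : ¬ Cfsg.IsSymmetricIn (Cfsg.largestPReducedOf p M)) :
    ∃ H : Subgroup G, Cfsg.IsInFrakH p M H := by
  classical
  have hwc := Helper56.asym_wc S Q hQp hQS hQ M hSM hM hasym
  have hpred := pred_largestPReducedOf (p := p) M
  have hYD : Cfsg.largestPReducedOf p M ≤ Cfsg.pCoreOf p M := hpred.le_pCoreOf
  have hDY : Cfsg.pCoreOf p M ≤
      Subgroup.centralizer ((Cfsg.largestPReducedOf p M : Subgroup G) : Set G) :=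
    hpred.pCoreOf_le_centralizer
  have hDp : IsPGroup p (Cfsg.pCoreOf p M) := pCoreOf_isPGroup M
  have hCD : Subgroup.centralizer ((Cfsg.pCoreOf p M : Subgroup G) : Set G) ≤ Cfsg.pCoreOf p M :=
    hM.1.2
  obtain ⟨T, L, hTL, hLc, hYL⟩ := htall
  obtain ⟨k, hk, hkT⟩ := Helper56.exists_conj_into_sylow_of _ T (Cfsg.pCoreOf p M) hDY hDp
  have hc : Cfsg.pCoreOf p (cj k L) = cj k (Cfsg.pCoreOf p L) := Helper56.pCoreOf_conj L k
  have hex : ∃ n, ∃ H : Subgroup G, (Cfsg.pCoreOf p M ≤ H ∧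
      H ⊓ Subgroup.centralizer ((Cfsg.pCoreOf p H : Subgroup G) : Set G) ≤ Cfsg.pCoreOf p H ∧
      ¬ Cfsg.largestPReducedOf p M ≤ Cfsg.pCoreOf p H) ∧ Nat.card H = n := by
    refine ⟨_, cj k L, ⟨?_, ?_, ?_⟩, rfl⟩
    · intro x hx
      rw [mem_cj]
      exact hTL (hkT x hx)
    · rw [hc]
      intro x hx
      obtain ⟨hxL, hxC⟩ := Subgroup.mem_inf.mp hx
      rw [mem_cj] at hxL ⊢
      apply (charP_iff L).mp hLc
      refine Subgroup.mem_inf.mpr ⟨hxL, ?_⟩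
      rw [Subgroup.mem_centralizer_iff]
      intro y hy
      have hy' : k * y * k⁻¹ ∈ cj k (Cfsg.pCoreOf p L) := by
        rw [mem_cj]
        have e : k⁻¹ * (k * y * k⁻¹) * k = y := by group
        rw [e]; exact hy
      have h1 := (Subgroup.mem_centralizer_iff.mp hxC) _ hy'
      calc y * (k⁻¹ * x * k) = k⁻¹ * ((k * y * k⁻¹) * x) * k := by group
        _ = k⁻¹ * (x * (k * y * k⁻¹)) * k := by rw [h1]
        _ = k⁻¹ * x * k * y := by group
    · intro hle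
      apply hYL
      rw [hc] at hle
      intro y hy
      have h1 := hle hy
      rw [mem_cj] at h1
      have h2 : k⁻¹ * y * k = y := by
        have h3 := (Subgroup.mem_centralizer_iff.mp hk) y hy
        rw [mul_assoc, h3, ← mul_assoc, inv_mul_cancel, one_mul]
      rw [h2] at h1
      exact h1
  obtain ⟨H, ⟨hDH, hHc, hYH⟩, hcard⟩ := Nat.find_spec hex
  have hmin : ∀ H' : Subgroup G, (Cfsg.pCoreOf p M ≤ H' ∧
      H' ⊓ Subgroup.centralizer ((Cfsg.pCoreOf p H' : Subgroup G) : Set G) ≤ Cfsg.pCoreOf p H' ∧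
      ¬ Cfsg.largestPReducedOf p M ≤ Cfsg.pCoreOf p H') → Nat.card H ≤ Nat.card H' := by
    intro H' h'
    rw [hcard]
    exact Nat.find_min' hex ⟨H', h', rfl⟩
  refine ⟨H, (charP_iff H).mpr hHc, hDH, hYH, fun P hDP hPH => ?_⟩
  by_contra hYP
  have hKD : Cfsg.pCoreOf p H ≤ Subgroup.normalizer ((Cfsg.pCoreOf p M : Subgroup G) : Set G) := by
    have hp2 : IsPGroup p ↥(Cfsg.pCoreOf p M ⊔ Cfsg.pCoreOf p H) :=
      IsPGroup.to_sup_of_normal_right' hDp (pCoreOf_isPGroup H)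
        (hDH.trans (le_normalizer_pCoreOf H))
    exact le_sup_right.trans (Helper56.wc_le_normalizer hwc _ hp2 le_sup_left)
  have hPc := charP_of_between hHc hDp (inf_le_right.trans hCD) hDP hPH.le hKD
  have h1 := hmin P ⟨hDP, hPc, hYP⟩
  exact hPH.ne (Subgroup.eq_of_le_of_card_ge hPH.le h1)

end Cfsg.Agent.Lib.Helper55
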