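import Cfsg.Agent.Lib.Helper55.Fus
import Cfsg.Agent.Lib.Helper30.Coprime
import Cfsg.Agent.Lib.Helper66.Cores

set_option autoImplicit false
open Cfsg
open scoped commutatorElement

namespace Cfsg.Agent.Lib.Helper55

open Cfsg.Agent.Lib.Helper30

universe u

variable {G : Type u} [Group G] {p : ℕ}

theorem commutator_le_of_le_normalizer {F Y : Subgroup G}
    (hYF : Y ≤ Subgroup.normalizer (F : Set G)) : ⁅F, Y⁆ ≤ F := by
  rw [Subgroup.commutator_le]
  intro k hk x hx
  have h1 : x * k⁻¹ * x⁻¹ ∈ F := (Subgroup.mem_normalizer_iff.mp (hYF hx) _).mp (F.inv_mem hk)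
  have e : ⁅k, x⁆ = k * (x * k⁻¹ * x⁻¹) := by rw [commutatorElement_def]; group
  rw [e]
  exact F.mul_mem hk h1

theorem qs_perfect {K : Subgroup G} (hq : IsQuasisimple ↥K) : ⁅K, K⁆ = K := by
  have := hq.1
  exact Subgroup.commutator_eq_self

/-- For a quasisimple subgroup `K` and a subgroup `X` normalizing it: `[K, X] = K` or `X`
centralizes `K`. -/
theorem qs_commutator_eq_or_le_centralizer' {K : Subgroup G} (hq : IsQuasisimple ↥K)
    (X : Subgroup G) (hX : X ≤ Subgroup.normalizer (K : Set G)) :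
    ⁅K, X⁆ = K ∨ X ≤ Subgroup.centralizer (K : Set G) := by
  have hle : ⁅K, X⁆ ≤ K := commutator_le_of_le_normalizer hX
  have hn : (⁅K, X⁆.subgroupOf K).Normal :=
    Subgroup.normal_subgroupOf_of_le_normalizer (Subgroup.normalizer_commutator_ge_left K X)
  rcases qs_normal_eq_top_or_le_center hq (⁅K, X⁆.subgroupOf K) with h | h
  · left
    exact le_antisymm hle (Subgroup.subgroupOf_eq_top.mp h)
  · right
    have h1 : ⁅⁅K, X⁆, K⁆ = ⊥ := by
      rw [Subgroup.commutator_eq_bot_iff_le_centralizer]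
      intro n hn
      rw [Subgroup.mem_centralizer_iff]
      intro k hk
      have h2 : (⟨n, hle hn⟩ : K) ∈ Subgroup.center K := h (Subgroup.mem_subgroupOf.mpr hn)
      have h3 := (Subgroup.mem_center_iff.mp h2) ⟨k, hk⟩
      exact congrArg Subtype.val h3
    have h2 : ⁅⁅X, K⁆, K⁆ = ⊥ := by rw [Subgroup.commutator_comm X K]; exact h1
    have h3 : ⁅⁅K, K⁆, X⁆ = ⊥ := Subgroup.commutator_commutator_eq_bot_of_rotate h1 h2
    rw [qs_perfect hq, Subgroup.commutator_comm] at h3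
    exact Subgroup.commutator_eq_bot_iff_le_centralizer.mp h3

/-- A quasisimple subgroup `K` whose `Y`-conjugates are `K` or commute with `K`: either `K ≤ [K, Y]`
or `K` is centralized by `Y`. -/
theorem comp_le_commutator_or_le_centralizer {K Y : Subgroup G} (hq : IsQuasisimple ↥K)
    (hperm : ∀ y ∈ Y, cj y K = K ∨ ⁅K, cj y K⁆ = ⊥) :
    K ≤ ⁅K, Y⁆ ∨ K ≤ Subgroup.centralizer (Y : Set G) := by
  by_cases hN : Y ≤ Subgroup.normalizer (K : Set G)
  · rcases qs_commutator_eq_or_le_centralizer' hq Y hN with h | h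
    · exact Or.inl h.ge
    · exact Or.inr (Subgroup.le_centralizer_iff.mp h)
  · left
    obtain ⟨y, hy, hyN⟩ := SetLike.not_le_iff_exists.mp hN
    have hcomm : ⁅K, cj y K⁆ = ⊥ :=
      (hperm y hy).resolve_left (fun h => hyN (mem_normalizer_of_cj_eq h))
    have hcomm' := commute_of_commutator_eq_bot hcomm
    have hKN : K ≤ Subgroup.normalizer ((⁅K, Y⁆ : Subgroup G) : Set G) :=
      Subgroup.normalizer_commutator_ge_left K Y
    have h1 : ⁅K, K⁆ ≤ ⁅K, Y⁆ := by
      rw [Subgroup.commutator_le]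
      intro k₁ hk₁ k₂ hk₂
      have hc : y * k₁⁻¹ * y⁻¹ ∈ cj y K :=
        mem_cj.mpr (by simpa [mul_assoc] using K.inv_mem hk₁)
      have h2 := hcomm' k₂ hk₂ _ hc
      have e : ⁅k₁, k₂⁆ = ⁅⁅k₁, y⁆, k₂⁆ := by
        calc ⁅k₁, k₂⁆ = k₁ * k₂ * k₁⁻¹ * k₂⁻¹ := commutatorElement_def _ _
          _ = k₁ * (k₂ * (y * k₁⁻¹ * y⁻¹) * (y * k₁⁻¹ * y⁻¹)⁻¹) * k₁⁻¹ * k₂⁻¹ := by group
          _ = k₁ * ((y * k₁⁻¹ * y⁻¹) * k₂ * (y * k₁⁻¹ * y⁻¹)⁻¹) * k₁⁻¹ * k₂⁻¹ := by rw [h2]
          _ = ⁅⁅k₁, y⁆, k₂⁆ := by simp only [commutatorElement_def]; group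
      rw [e]
      have hm : ⁅k₁, y⁆ ∈ ⁅K, Y⁆ := Subgroup.commutator_mem_commutator hk₁ hy
      have h4 : k₂ * ⁅k₁, y⁆⁻¹ * k₂⁻¹ ∈ ⁅K, Y⁆ :=
        (Subgroup.mem_normalizer_iff.mp (hKN hk₂) _).mp (Subgroup.inv_mem _ hm)
      have e2 : ⁅⁅k₁, y⁆, k₂⁆ = ⁅k₁, y⁆ * (k₂ * ⁅k₁, y⁆⁻¹ * k₂⁻¹) := by
        rw [commutatorElement_def ⁅k₁, y⁆ k₂]; group
      rw [e2]
      exact Subgroup.mul_mem _ hm h4
    rwa [qs_perfect hq] at h1

/-- Coprime action of a `p`-group on a `p'`-group: `F = [F, Y] C_F(Y)`. -/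
theorem coprime_le_commutator_sup_centralizer [Finite G] [Fact p.Prime] {F Y : Subgroup G}
    (hF : ¬ p ∣ Nat.card F) (hY : IsPGroup p Y) (hYF : Y ≤ Subgroup.normalizer (F : Set G)) :
    F ≤ ⁅F, Y⁆ ⊔ (F ⊓ Subgroup.centralizer (Y : Set G)) := by
  have hle : ⁅F, Y⁆ ≤ F := commutator_le_of_le_normalizer hYF
  have hM : ¬ p ∣ Nat.card ↥⁅F, Y⁆ := fun h => hF (h.trans (Subgroup.card_dvd_of_le hle))
  have hYM : Y ≤ Subgroup.normalizer ((⁅F, Y⁆ : Subgroup G) : Set G) :=
    Subgroup.normalizer_commutator_ge_right F Y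
  intro f hf
  obtain ⟨n, hn, hfix⟩ := coset_fixed p hY hYM hM f (by
    intro a ha
    have h1 := Subgroup.commutator_mem_commutator (F.inv_mem hf) ha
    have e : ⁅f⁻¹, a⁆ = f⁻¹ * (a * f * a⁻¹) := by rw [commutatorElement_def]; group
    rwa [e] at h1)
  have h2 : f * n ∈ F ⊓ Subgroup.centralizer (Y : Set G) :=
    ⟨F.mul_mem hf (hle hn), mem_centralizer_of_conj_fixed hfix⟩
  have e : f = (f * n) * n⁻¹ := by group
  rw [e]
  exact Subgroup.mul_mem _ (Subgroup.mem_sup_right h2)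
    (Subgroup.mem_sup_left (Subgroup.inv_mem _ hn))

/-- If `X = [X, Y] C_X(Y)` then `[X, Y] = [X, Y, Y]`. -/
theorem commutator_eq_commutator_commutator {X Y : Subgroup G}
    (hYX : Y ≤ Subgroup.normalizer (X : Set G))
    (h : X ≤ ⁅X, Y⁆ ⊔ (X ⊓ Subgroup.centralizer (Y : Set G))) : ⁅X, Y⁆ = ⁅⁅X, Y⁆, Y⁆ := by
  have hle : ⁅X, Y⁆ ≤ X := commutator_le_of_le_normalizer hYX
  apply le_antisymm
  · rw [Subgroup.commutator_le]
    intro x hx y hy
    have hx' : x ∈ ((⁅X, Y⁆ ⊔ (X ⊓ Subgroup.centralizer (Y : Set G)) : Subgroup G) : Set G) := h hx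
    rw [Subgroup.coe_mul_of_right_le_normalizer_left _ _
      (inf_le_left.trans (Subgroup.normalizer_commutator_ge_left X Y))] at hx'
    obtain ⟨m, hm, c, hc, rfl⟩ := Set.mem_mul.mp hx'
    have hcy : y * c = c * y := (Subgroup.mem_centralizer_iff.mp hc.2) y hy
    have e : ⁅m * c, y⁆ = ⁅m, y⁆ := by
      rw [commutatorElement_def, commutatorElement_def]
      calc m * c * y * (m * c)⁻¹ * y⁻¹ = m * (c * y) * c⁻¹ * m⁻¹ * y⁻¹ := by group
        _ = m * (y * c) * c⁻¹ * m⁻¹ * y⁻¹ := by rw [hcy]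
        _ = m * y * m⁻¹ * y⁻¹ := by group
    rw [e]
    exact Subgroup.commutator_mem_commutator hm hy
  · exact Subgroup.commutator_mono hle le_rfl

/-- Action of a `p`-group `Y` on a group `X` generated by a `p'`-subgroup `F` and quasisimple
subgroups permuted by `Y` in the sense that distinct conjugates commute. -/
theorem fstar_action [Finite G] [Fact p.Prime] {X Y F : Subgroup G} {𝒦 : Set (Subgroup G)}
    (hY : IsPGroup p Y) (hYX : Y ≤ Subgroup.normalizer (X : Set G))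
    (hFX : F ≤ X) (hF : ¬ p ∣ Nat.card F) (hYF : Y ≤ Subgroup.normalizer (F : Set G))
    (hK : ∀ K ∈ 𝒦, K ≤ X ∧ IsQuasisimple ↥K ∧ ∀ y ∈ Y, cj y K = K ∨ ⁅K, cj y K⁆ = ⊥)
    (hX : X ≤ F ⊔ sSup 𝒦) :
    ⁅X, Y⁆ ⊔ (X ⊓ Subgroup.centralizer (Y : Set G)) = X ∧ ⁅X, Y⁆ = ⁅⁅X, Y⁆, Y⁆ := by
  have hle : ⁅X, Y⁆ ≤ X := commutator_le_of_le_normalizer hYX
  have key : X ≤ ⁅X, Y⁆ ⊔ (X ⊓ Subgroup.centralizer (Y : Set G)) := by
    refine hX.trans (sup_le ?_ (sSup_le fun K hKm => ?_))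
    · exact (coprime_le_commutator_sup_centralizer hF hY hYF).trans
        (sup_le_sup (Subgroup.commutator_mono hFX le_rfl) (inf_le_inf_right _ hFX))
    · obtain ⟨hKX, hq, hperm⟩ := hK K hKm
      rcases comp_le_commutator_or_le_centralizer hq hperm with h | h
      · exact h.trans ((Subgroup.commutator_mono hKX le_rfl).trans le_sup_left)
      · exact (le_inf hKX h).trans le_sup_right
  exact ⟨le_antisymm (sup_le hle inf_le_left) key, commutator_eq_commutator_commutator hYX key⟩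

/-- Components of the ambient group are permuted by conjugation; distinct ones commute. -/
theorem component_perm [Finite G] {K : Subgroup G} (hK : IsComponent K) (y : G) :
    cj y K = K ∨ ⁅K, cj y K⁆ = ⊥ := by
  by_cases h : cj y K = K
  · exact Or.inl h
  · exact Or.inr (components_commute hK (isComponent_map_equiv (MulAut.conj y) hK) (Ne.symm h))

/-- Version of `fstar_action` for components of the ambient group. -/
theorem fstar_action_components [Finite G] [Fact p.Prime] {X Y F : Subgroup G}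
    {𝒦 : Set (Subgroup G)}
    (hY : IsPGroup p Y) (hYX : Y ≤ Subgroup.normalizer (X : Set G))
    (hFX : F ≤ X) (hF : ¬ p ∣ Nat.card F) (hYF : Y ≤ Subgroup.normalizer (F : Set G))
    (hK : ∀ K ∈ 𝒦, K ≤ X ∧ IsComponent K) (hX : X ≤ F ⊔ sSup 𝒦) :
    ⁅X, Y⁆ ⊔ (X ⊓ Subgroup.centralizer (Y : Set G)) = X ∧ ⁅X, Y⁆ = ⁅⁅X, Y⁆, Y⁆ :=
  fstar_action hY hYX hFX hF hYF
    (fun K hKm => ⟨(hK K hKm).1, (hK K hKm).2.2, fun y _ => component_perm (hK K hKm).2 y⟩) hX

/-- If `O_p(G) = 1` then `F(G)` has order prime to `p`. -/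
theorem fitting_not_dvd [Finite G] [Fact p.Prime] (hO : pCore p G = ⊥) :
    ¬ p ∣ Nat.card (fittingSubgroup G) := by
  intro hd
  obtain ⟨x, hx⟩ := exists_prime_orderOf_dvd_card' p hd
  have h1 : (x : G) ∈ pCore p G :=
    Cfsg.Agent.Lib.Helper66.mem_pCore_of_mem_fitting x.2 (k := 1)
      (by rw [Subgroup.orderOf_coe, hx, pow_one])
  rw [hO, Subgroup.mem_bot] at h1
  have h2 : x = 1 := Subtype.ext h1
  rw [h2, orderOf_one] at hx
  exact (Fact.out : p.Prime).one_lt.ne' hx.symm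

/-- A subgroup `M ≤ [M, Y]` lies in every subnormal subgroup containing `Y`. -/
theorem le_subnormal_of_le_commutator {K M Y : Subgroup G} (hK : K.IsSubnormal)
    (hM : M ≤ ⁅M, Y⁆) : Y ≤ K → M ≤ K := by
  induction hK with
  | top => exact fun _ => le_top
  | step H K h_le hSubn hN ih =>
    intro hYH
    have h1 : M ≤ K := ih (hYH.trans h_le)
    have hKH : K ≤ Subgroup.normalizer (H : Set G) :=
      (Subgroup.normal_subgroupOf_iff_le_normalizer h_le).mp hN
    have h2 : ⁅M, Y⁆ ≤ H := by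
      rw [Subgroup.commutator_comm]
      exact (Subgroup.commutator_mono hYH h1).trans (commutator_le_of_le_normalizer hKH)
    exact hM.trans h2

/-- `p`-group action on `F*(G)` when `O_p(G) = 1`. -/
theorem genFitting_action [Finite G] [Fact p.Prime] (hO : pCore p G = ⊥) {Y : Subgroup G}
    (hY : IsPGroup p Y) :
    ⁅generalizedFittingSubgroup G, Y⁆ ⊔
        (generalizedFittingSubgroup G ⊓ Subgroup.centralizer (Y : Set G)) =
      generalizedFittingSubgroup G ∧
    ⁅generalizedFittingSubgroup G, Y⁆ = ⁅⁅generalizedFittingSubgroup G, Y⁆, Y⁆ := by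
  have hXn : (generalizedFittingSubgroup G).Normal := genFitting_normal
  have hFn : (fittingSubgroup G).Normal := fitting_normal
  refine fstar_action_components (F := fittingSubgroup G) (𝒦 := {K | IsComponent K}) hY ?_
    le_sup_right (fitting_not_dvd hO) ?_ (fun K hK => ⟨(comp_le_layer hK).trans le_sup_left, hK⟩) ?_
  · rw [Subgroup.normalizer_eq_top]; exact le_top
  · rw [Subgroup.normalizer_eq_top]; exact le_top
  · exact (sup_comm _ _).le

/-- `N ∩ C(N) ≤ F(G)` for a normal subgroup `N`. -/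
theorem normal_inf_centralizer_le_fitting {N : Subgroup G} (hN : N.Normal) :
    N ⊓ Subgroup.centralizer (N : Set G) ≤ fittingSubgroup G := by
  apply le_sSup
  refine ⟨inferInstance, ?_⟩
  let _ : CommGroup ↥(N ⊓ Subgroup.centralizer (N : Set G)) :=
    { (inferInstance : Group ↥(N ⊓ Subgroup.centralizer (N : Set G))) with
      mul_comm := fun a b => Subtype.ext
        ((Subgroup.mem_centralizer_iff.mp a.2.2 b.1 b.2.1).symm) }
  infer_instance

/-- If `O_p(G) = 1`, a `p`-subgroup centralizing `F*(G)` is trivial. -/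
theorem pgroup_centralizing_genFitting [Finite G] [Fact p.Prime] (hO : pCore p G = ⊥)
    {Y : Subgroup G} (hY : IsPGroup p Y)
    (h : Y ≤ Subgroup.centralizer (generalizedFittingSubgroup G : Set G)) : Y = ⊥ := by
  have hXn : (generalizedFittingSubgroup G).Normal := genFitting_normal
  have h4 : Y ≤ generalizedFittingSubgroup G ⊓
      Subgroup.centralizer (generalizedFittingSubgroup G : Set G) :=
    le_inf (h.trans centralizer_genFitting_le) h
  by_contra hne
  exact fitting_not_dvd hO ((dvd_card_of_isPGroup_ne_bot hY hne).trans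
    (Subgroup.card_dvd_of_le (h4.trans (normal_inf_centralizer_le_fitting hXn))))

end Cfsg.Agent.Lib.Helper55
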