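import Cfsg.Agent.Lib.Helper55.FS

set_option autoImplicit false
open Cfsg
open scoped commutatorElement

namespace Cfsg.Agent.Lib.Helper55

open Cfsg.Agent.Lib.Helper30

universe u

variable {G : Type u} [Group G] {p : ℕ}

/-- A `p`-group normalizing a subnormal subgroup `D ≤ F*(G)`, when `O_p(G) = 1`. -/
theorem subnormal_genFitting_action [Finite G] [Fact p.Prime] (hO : pCore p G = ⊥)
    {D Y : Subgroup G} (hD : D.IsSubnormal) (hDX : D ≤ generalizedFittingSubgroup G)
    (hY : IsPGroup p Y) (hYD : Y ≤ Subgroup.normalizer (D : Set G)) :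
    ⁅D, Y⁆ ⊔ (D ⊓ Subgroup.centralizer (Y : Set G)) = D ∧ ⁅D, Y⁆ = ⁅⁅D, Y⁆, Y⁆ := by
  have hFn : (fittingSubgroup G).Normal := fitting_normal
  refine fstar_action_components (F := fittingSubgroup G ⊓ D)
    (𝒦 := {K | IsComponent K ∧ K ≤ D}) hY hYD inf_le_right ?_ ?_ (fun K hK => ⟨hK.2, hK.1⟩) ?_
  · exact fun hd => fitting_not_dvd hO (hd.trans (Subgroup.card_dvd_of_le inf_le_left))
  · refine (le_inf ?_ hYD).trans Subgroup.inf_normalizer_le_normalizer_inf
    rw [Subgroup.normalizer_eq_top]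
    exact le_top
  · rw [sup_comm]
    exact subnormal_genFitting_factor hD hDX

theorem mem_centralizer_sup {A B : Subgroup G} {g : G}
    (hA : g ∈ Subgroup.centralizer (A : Set G)) (hB : g ∈ Subgroup.centralizer (B : Set G)) :
    g ∈ Subgroup.centralizer ((A ⊔ B : Subgroup G) : Set G) := by
  have h1 : A ⊔ B ≤ Subgroup.centralizer ((Subgroup.zpowers g : Subgroup G) : Set G) :=
    sup_le (Subgroup.le_centralizer_iff.mp ((Subgroup.zpowers_le).mpr hA))
      (Subgroup.le_centralizer_iff.mp ((Subgroup.zpowers_le).mpr hB))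
  exact (Subgroup.le_centralizer_iff.mp h1) (Subgroup.mem_zpowers g)

/-- `L ∩ C(L) ≤ F(G)` for `L` subnormal. -/
theorem subnormal_inf_centralizer_le_fitting [Finite G] {L : Subgroup G} (hL : L.IsSubnormal) :
    L ⊓ Subgroup.centralizer (L : Set G) ≤ fittingSubgroup G := by
  have hsub : (L ⊓ Subgroup.centralizer (L : Set G)).IsSubnormal :=
    .step _ L inf_le_left hL (Subgroup.normal_subgroupOf_of_le_normalizer
      ((le_inf Subgroup.le_normalizer (Subgroup.le_normalizer.trans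
        (normalizer_le_normalizer_centralizer' L))).trans Subgroup.inf_normalizer_le_normalizer_inf))
  apply le_fitting_of_subnormal_nilpotent hsub
  let _ : CommGroup ↥(L ⊓ Subgroup.centralizer (L : Set G)) :=
    { (inferInstance : Group ↥(L ⊓ Subgroup.centralizer (L : Set G))) with
      mul_comm := fun a b => Subtype.ext
        ((Subgroup.mem_centralizer_iff.mp a.2.2 b.1 b.2.1).symm) }
  infer_instance

theorem coprime_orderOf_of_mem_fitting [Finite G] [Fact p.Prime] (hO : pCore p G = ⊥) {d : G}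
    (hd : d ∈ fittingSubgroup G) : (orderOf d).Coprime p := by
  have h1 : orderOf d ∣ Nat.card (fittingSubgroup G) := by
    have h2 := orderOf_dvd_natCard (⟨d, hd⟩ : fittingSubgroup G)
    rwa [Subgroup.orderOf_mk] at h2
  exact Nat.Coprime.coprime_dvd_left h1
    ((Nat.Prime.coprime_iff_not_dvd (Fact.out : p.Prime)).mpr (fitting_not_dvd hO)).symm

/-- `Z(L) ∩ L' ≤ Φ(L)`. -/
theorem center_inf_commutator_le_frattini {L : Type u} [Group L] (x : L)
    (hx : x ∈ Subgroup.center L) (hx' : x ∈ commutator L) : x ∈ frattini L := by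
  rw [Cfsg.Agent.Lib.Helper72.mem_frattini_iff]
  intro M hM
  by_contra hxM
  have htop : Subgroup.zpowers x ⊔ M = ⊤ :=
    hM.2 _ (lt_of_le_of_ne le_sup_right
      (fun h => hxM (h ▸ Subgroup.mem_sup_left (Subgroup.mem_zpowers x))))
  have hzc : ∀ z ∈ Subgroup.zpowers x, ∀ g : L, g * z = z * g := by
    intro z hz
    obtain ⟨k, rfl⟩ := Subgroup.mem_zpowers_iff.mp hz
    exact Subgroup.mem_center_iff.mp ((Subgroup.center L).zpow_mem hx k)
  have hdec : ∀ g : L, ∃ m ∈ M, ∃ z ∈ Subgroup.zpowers x, g = m * z := fun g =>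
    mem_sup_of_commute (fun a _ b hb => hzc b hb a) (by rw [sup_comm, htop]; trivial)
  have hcomm : commutator L ≤ M := by
    rw [commutator_eq_closure, Subgroup.closure_le]
    rintro g ⟨a, b, rfl⟩
    obtain ⟨m, hm, z, hz, rfl⟩ := hdec a
    obtain ⟨m', hm', z', hz', rfl⟩ := hdec b
    rw [commutatorElement_mul_central m m' z z' (hzc z hz) (hzc z' hz'), commutatorElement_def]
    exact M.mul_mem (M.mul_mem (M.mul_mem hm hm') (M.inv_mem hm)) (M.inv_mem hm')
  exact hxM (hcomm hx')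

/-- Trace argument: if `L = [L, Q]` for a `p`-group `Q`, then every `p'`-element of `L`
centralized by `Q` lies in `L'`. -/
theorem mem_commutator_of_trace [Finite G] [Fact p.Prime] {L Q D : Subgroup G} (hQ : IsPGroup p Q)
    (hQL : Q ≤ Subgroup.normalizer (L : Set G)) (hLQ : L ≤ ⁅L, Q⁆) (hDL : D ≤ L)
    (hDQ : D ≤ Subgroup.centralizer (Q : Set G)) (hDp : ∀ d ∈ D, (orderOf d).Coprime p) :
    ∀ d (hd : d ∈ D), (⟨d, hDL hd⟩ : ↥L) ∈ commutator ↥L := by
  classical
  have : Fintype ↥Q := Fintype.ofFinite _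
  have hc : ∀ q : ↥Q, ∃ c : ↥L →* ↥L, ∀ x : ↥L, ((c x : ↥L) : G) = (q : G) * x * (q : G)⁻¹ := by
    intro q
    exact ⟨{ toFun := fun x => ⟨(q : G) * x * (q : G)⁻¹,
                (Subgroup.mem_normalizer_iff.mp (hQL q.2) _).mp x.2⟩
             map_one' := by apply Subtype.ext; simp
             map_mul' := by intro x y; apply Subtype.ext; simp [mul_assoc] }, fun x => rfl⟩
  choose c hc using hc
  obtain ⟨ν, hν⟩ : ∃ ν : ↥L →* Abelianization ↥L,
      ∀ x, ν x = ∏ q : ↥Q, Abelianization.of (c q x) :=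
    ⟨∏ q : ↥Q, (Abelianization.of).comp (c q), fun x => by
      rw [MonoidHom.finsetProd_apply]; rfl⟩
  have hinv : ∀ (q₀ : ↥Q) (x : ↥L), ν (c q₀ x) = ν x := by
    intro q₀ x
    rw [hν, hν]
    refine Fintype.prod_equiv (Equiv.mulRight q₀) _ _ (fun q => ?_)
    congr 1
    apply Subtype.ext
    rw [hc, hc, hc]
    simp [mul_assoc]
  have hker : ∀ x : ↥L, ν x = 1 := by
    have h1 : ⁅L, Q⁆ ≤ (ν.ker).map L.subtype := by
      rw [Subgroup.commutator_le]
      intro l hl q hq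
      refine ⟨⟨l, hl⟩ * (c ⟨q, hq⟩ ⟨l, hl⟩)⁻¹, ?_, ?_⟩
      · rw [SetLike.mem_coe, MonoidHom.mem_ker, map_mul, map_inv, hinv, mul_inv_cancel]
      · simp only [Subgroup.coe_subtype, Subgroup.coe_mul, Subgroup.coe_inv, hc]
        rw [commutatorElement_def]
        group
    intro x
    obtain ⟨y, hy, hyx⟩ := h1 (hLQ x.2)
    have hyx' : y = x := Subtype.ext hyx
    exact hyx' ▸ hy
  intro d hd
  have hdL := hDL hd
  have h1 : ν ⟨d, hdL⟩ = Abelianization.of (⟨d, hdL⟩ : ↥L) ^ Nat.card Q := by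
    rw [hν]
    have hfix : ∀ q : ↥Q, c q ⟨d, hdL⟩ = ⟨d, hdL⟩ := by
      intro q
      apply Subtype.ext
      rw [hc]
      have h2 := (Subgroup.mem_centralizer_iff.mp (hDQ hd)) q q.2
      show (q : G) * d * (q : G)⁻¹ = d
      rw [h2]
      group
    simp only [hfix]
    rw [Finset.prod_const, Finset.card_univ, Nat.card_eq_fintype_card]
  obtain ⟨k, hk⟩ := IsPGroup.iff_card.mp hQ
  have h2 : Abelianization.of (⟨d, hdL⟩ : ↥L) ^ p ^ k = 1 := by rw [← hk, ← h1, hker]
  have h3 : Abelianization.of (⟨d, hdL⟩ : ↥L) ^ orderOf d = 1 := by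
    rw [← map_pow]
    have h4 : (⟨d, hdL⟩ : ↥L) ^ orderOf d = 1 := Subtype.ext (by simp [pow_orderOf_eq_one])
    rw [h4, map_one]
  have h4 := eq_one_of_coprime_of_pow (hDp d hd) h3 h2
  rw [← Abelianization.ker_of]
  exact h4

/-- If `L = [L, Q]` for a `p`-group `Q`, a central subgroup of `L` of `p'`-elements centralized
by `Q` lies in `Φ(L)`. -/
theorem central_le_frattini_of_commutator [Finite G] [Fact p.Prime] {L Q D : Subgroup G}
    (hQ : IsPGroup p Q) (hQL : Q ≤ Subgroup.normalizer (L : Set G)) (hLQ : L ≤ ⁅L, Q⁆)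
    (hDL : D ≤ L) (hDc : D ≤ Subgroup.centralizer (L : Set G))
    (hDQ : D ≤ Subgroup.centralizer (Q : Set G)) (hDp : ∀ d ∈ D, (orderOf d).Coprime p) :
    D ≤ (frattini ↥L).map L.subtype := by
  intro d hd
  refine ⟨⟨d, hDL hd⟩, center_inf_commutator_le_frattini _ ?_
    (mem_commutator_of_trace hQ hQL hLQ hDL hDQ hDp d hd), rfl⟩
  rw [Subgroup.mem_center_iff]
  intro g
  apply Subtype.ext
  exact (Subgroup.mem_centralizer_iff.mp (hDc hd)) g g.2

end Cfsg.Agent.Lib.Helper55
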