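import Cfsg.Agent.Lib.Helper55.QS
import Cfsg.Agent.Lib.Helper75.Alperin

set_option autoImplicit false
open Cfsg
open scoped commutatorElement Pointwise

namespace Cfsg.Agent.Lib.Helper55

open Cfsg.Agent.Lib.Helper75

variable {G : Type*} [Group G] {p : ℕ}

/-- Local step: for a subgroup `H` of `S` whose normalizer has `N_S(H)` as Sylow subgroup, the
conjugation action of `N_G(H)` on `H` is induced by `N_G(A)`, provided this is known for all larger
subgroups of `S`. -/
theorem sc_local [Finite G] [Fact p.Prime] (S : Sylow p G) (A : Subgroup G)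
    (hAc : ∀ a ∈ A, ∀ b ∈ A, a * b = b * a) (hsc : IsStronglyClosed A (S : Subgroup G))
    (H : Subgroup G) (hHS : H ≤ S)
    (hSyl : SylIn p ((S : Subgroup G) ⊓ Subgroup.normalizer (H : Set G))
      (Subgroup.normalizer (H : Set G)))
    (IH : ∀ B' : Subgroup G, B' ≤ (S : Subgroup G) → Nat.card H < Nat.card B' → ∀ g : G,
      (∀ b ∈ B', g * b * g⁻¹ ∈ (S : Subgroup G)) →
      ∃ x ∈ Subgroup.normalizer (A : Set G), ∀ b ∈ B', g * b * g⁻¹ = x * b * x⁻¹)
    (z : G) (hz : z ∈ Subgroup.normalizer (H : Set G)) :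
    ∃ x ∈ Subgroup.normalizer (A : Set G), ∀ h ∈ H, z * h * z⁻¹ = x * h * x⁻¹ := by
  obtain ⟨hAS, hcl⟩ := hsc
  have hHp : IsPGroup p H := S.isPGroup'.to_le hHS
  -- `N` normalizes `A ⊓ H`
  have hNA₀ : Subgroup.normalizer (H : Set G) ≤ Subgroup.normalizer ((A ⊓ H : Subgroup G) : Set G) := by
    apply le_normalizer_of_conj_mem
    rintro n hn x ⟨hxA, hxH⟩
    have hxH' : n * x * n⁻¹ ∈ H := (Subgroup.mem_normalizer_iff.mp hn x).mp hxH
    exact ⟨hcl x hxA n (hHS hxH'), hxH'⟩
  -- the stability group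
  obtain ⟨K, hKdef⟩ : ∃ K : Subgroup G, K = Subgroup.normalizer (H : Set G) ⊓ stabMod H (A ⊓ H) ⊓
      Subgroup.centralizer ((A ⊓ H : Subgroup G) : Set G) := ⟨_, rfl⟩
  have hKN : K ≤ Subgroup.normalizer (H : Set G) := hKdef ▸ inf_le_left.trans inf_le_left
  have hNK : Subgroup.normalizer (H : Set G) ≤ Subgroup.normalizer (K : Set G) := by
    have h1 : Subgroup.normalizer (H : Set G) ≤
        Subgroup.normalizer ((stabMod H (A ⊓ H) : Subgroup G) : Set G) :=
      le_normalizer_stabMod le_rfl hNA₀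
    have h2 : Subgroup.normalizer (H : Set G) ≤
        Subgroup.normalizer ((Subgroup.centralizer ((A ⊓ H : Subgroup G) : Set G) : Subgroup G) : Set G) :=
      hNA₀.trans (normalizer_le_normalizer_centralizer' _)
    have h3 : Subgroup.normalizer (H : Set G) ≤
        Subgroup.normalizer ((Subgroup.normalizer (H : Set G) : Subgroup G) : Set G) :=
      Subgroup.le_normalizer
    rw [hKdef]
    exact (le_inf ((le_inf h3 h1).trans Subgroup.inf_normalizer_le_normalizer_inf) h2).trans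
      Subgroup.inf_normalizer_le_normalizer_inf
  have hCK : Subgroup.centralizer (H : Set G) ≤ K := by
    intro c hc
    have hcA₀ : c ∈ Subgroup.centralizer ((A ⊓ H : Subgroup G) : Set G) :=
      Subgroup.centralizer_le (fun x hx => hx.2) hc
    rw [hKdef]
    refine ⟨⟨Subgroup.centralizer_le_normalizer _ hc, Subgroup.centralizer_le_normalizer _ hcA₀,
      fun b hb => ?_⟩, hcA₀⟩
    have e : ⁅b, c⁆ = 1 := by
      rw [commutatorElement_def, (Subgroup.mem_centralizer_iff.mp hc) b hb]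
      group
    rw [e]
    exact Subgroup.one_mem _
  have hKC : K ≤ Subgroup.normalizer ((Subgroup.centralizer (H : Set G) : Subgroup G) : Set G) :=
    hKN.trans (normalizer_le_normalizer_centralizer' _)
  have hpow : ∀ k ∈ K, ∃ j : ℕ, k ^ p ^ j ∈ Subgroup.centralizer (H : Set G) := by
    intro k hk
    rw [hKdef] at hk
    obtain ⟨⟨-, -, hk2⟩, hk3⟩ := hk
    obtain ⟨j, hj⟩ := IsPGroup.iff_card.mp hHp
    refine ⟨j, ?_⟩
    rw [Subgroup.mem_centralizer_iff]
    intro b hb
    have hu := hk2 b hb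
    have hyu : k * ⁅b, k⁆ = ⁅b, k⁆ * k := ((Subgroup.mem_centralizer_iff.mp hk3) _ hu).symm
    have h1 := comm_pow_telescope (v := b) (y := k) (u := ⁅b, k⁆) (commutatorElement_def b k ▸ (by group)) hyu (p ^ j)
    have h2 : ⁅b, k⁆ ^ p ^ j = 1 := by
      have h3 : (⟨⁅b, k⁆, hu.2⟩ : H) ^ Nat.card H = 1 := pow_card_eq_one'
      rw [hj] at h3
      exact congrArg Subtype.val h3
    rw [h2] at h1
    have h4 : k ^ p ^ j * b⁻¹ * (k ^ p ^ j)⁻¹ = b⁻¹ := by
      have h5 := congrArg (fun t => b⁻¹ * t) h1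
      simpa using h5.symm
    have h6 : k ^ p ^ j * b⁻¹ = b⁻¹ * k ^ p ^ j := by
      have h7 := congrArg (fun t => t * k ^ p ^ j) h4
      simpa using h7
    have h8 : b * (k ^ p ^ j * b⁻¹) * b = b * (b⁻¹ * k ^ p ^ j) * b := by rw [h6]
    simpa [mul_assoc] using h8
  -- Sylow subgroup of `K`
  have hR1 : SylIn p (K ⊓ ((S : Subgroup G) ⊓ Subgroup.normalizer (H : Set G))) K :=
    hSyl.inf_normalized hKN hNK
  obtain ⟨R1, hR1def⟩ : ∃ R1 : Subgroup G,
      R1 = K ⊓ ((S : Subgroup G) ⊓ Subgroup.normalizer (H : Set G)) := ⟨_, rfl⟩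
  rw [← hR1def] at hR1
  have hR1S : R1 ≤ S := hR1def ▸ inf_le_right.trans inf_le_left
  have hAR1 : A ⊓ Subgroup.normalizer (H : Set G) ≤ R1 := by
    rintro a ⟨haA, haN⟩
    have haA₀ : a ∈ Subgroup.centralizer ((A ⊓ H : Subgroup G) : Set G) := by
      rw [Subgroup.mem_centralizer_iff]
      intro x hx
      exact hAc x hx.1 a haA
    rw [hR1def, hKdef]
    refine ⟨⟨⟨haN, Subgroup.centralizer_le_normalizer _ haA₀, fun b hb => ?_⟩, haA₀⟩, hAS haA, haN⟩
    rw [commutatorElement_def]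
    constructor
    · have h1 : b * a * b⁻¹ ∈ A := hcl a haA b (Subgroup.mul_mem _ (Subgroup.mul_mem _ (hHS hb) (hAS haA))
        (Subgroup.inv_mem _ (hHS hb)))
      exact A.mul_mem h1 (A.inv_mem haA)
    · have h1 : a * b⁻¹ * a⁻¹ ∈ H := (Subgroup.mem_normalizer_iff.mp haN _).mp (H.inv_mem hb)
      have h2 := H.mul_mem hb h1
      have e : b * (a * b⁻¹ * a⁻¹) = b * a * b⁻¹ * a⁻¹ := by group
      rwa [e] at h2
  -- Frattini decomposition of `z`
  obtain ⟨a, ha, n, hn, hzan⟩ := hR1.frattini hKN hNK z hz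
  obtain ⟨r, hr, hrt⟩ := hR1.exists_mul_of_pow hCK hKC hpow n⁻¹ (K.inv_mem hn)
  have ht : n * r ∈ R1 := by
    have h1 := R1.inv_mem hrt
    have e : (r⁻¹ * n⁻¹)⁻¹ = n * r := by group
    rwa [e] at h1
  have hy : a * (n * r) ∈ Subgroup.normalizer (H : Set G) ⊓ Subgroup.normalizer (R1 : Set G) :=
    Subgroup.mul_mem _ ha ⟨hKN (hR1.le ht), Subgroup.le_normalizer ht⟩
  have hzy : ∀ h ∈ H, z * h * z⁻¹ = (a * (n * r)) * h * (a * (n * r))⁻¹ := by
    intro h hh
    have h1 : r * h * r⁻¹ = h := by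
      rw [← (Subgroup.mem_centralizer_iff.mp hr) h hh]; group
    calc z * h * z⁻¹ = a * n * h * (a * n)⁻¹ := by rw [hzan]
      _ = a * n * (r * h * r⁻¹) * (a * n)⁻¹ := by rw [h1]
      _ = (a * (n * r)) * h * (a * (n * r))⁻¹ := by group
  by_cases hR1H : R1 ≤ H
  · -- then `A ≤ H`, so `N_G(H) ≤ N_G(A)`
    have hAH : A ≤ H := by
      by_contra hAH
      have hlt : H < H ⊔ A := lt_of_le_of_ne le_sup_left (fun h => hAH (h ▸ le_sup_right))
      have hp' : IsPGroup p (H ⊔ A : Subgroup G) := S.isPGroup'.to_le (sup_le hHS hAS)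
      have h1 := lt_inf_normalizer hp' hlt
      have h2 : (H ⊔ A) ⊓ Subgroup.normalizer (H : Set G) ≤ H := by
        rintro x ⟨hx, hxN⟩
        have hHA : H ≤ Subgroup.normalizer (A : Set G) := by
          apply le_normalizer_of_conj_mem
          intro l hl y hy
          exact hcl y hy l (Subgroup.mul_mem _ (Subgroup.mul_mem _ (hHS hl) (hAS hy))
            (Subgroup.inv_mem _ (hHS hl)))
        have hx' : x ∈ ((H ⊔ A : Subgroup G) : Set G) := hx
        rw [Subgroup.coe_mul_of_left_le_normalizer_right H A hHA] at hx'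
        obtain ⟨h, hh, a', ha', rfl⟩ := Set.mem_mul.mp hx'
        have h3 : a' ∈ Subgroup.normalizer (H : Set G) := by
          have h4 := Subgroup.mul_mem _ (Subgroup.inv_mem _ (Subgroup.le_normalizer hh)) hxN
          rwa [inv_mul_cancel_left] at h4
        exact H.mul_mem hh (hR1H (hAR1 ⟨ha', h3⟩))
      exact absurd h2 (not_le_of_gt h1)
    refine ⟨z, ?_, fun h _ => rfl⟩
    have h1 := hNA₀ hz
    rwa [inf_of_le_left hAH] at h1
  · -- use the induction hypothesis on `R1 ⊔ H`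
    have hlt : H < R1 ⊔ H := lt_of_le_of_ne le_sup_right (fun h => hR1H (h ▸ le_sup_left))
    have hcard : Nat.card H < Nat.card (R1 ⊔ H : Subgroup G) := by
      by_contra hc
      exact hlt.ne (Subgroup.eq_of_le_of_card_ge hlt.le (not_lt.mp hc))
    have hyN : a * (n * r) ∈ Subgroup.normalizer ((R1 ⊔ H : Subgroup G) : Set G) :=
      Subgroup.normalizer_inf_normalizer_le_normalizer_sup R1 H ⟨hy.2, hy.1⟩
    obtain ⟨x, hx, hxe⟩ := IH (R1 ⊔ H) (sup_le hR1S hHS) hcard (a * (n * r)) (by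
      intro b hb
      exact sup_le hR1S hHS ((Subgroup.mem_normalizer_iff.mp hyN b).mp hb))
    exact ⟨x, hx, fun h hh => (hzy h hh).trans (hxe h (Subgroup.mem_sup_right hh))⟩

/-- A strongly closed abelian subgroup `A` of a Sylow `p`-subgroup `S`: `N_G(A)` controls strong
fusion in `S`. -/
theorem stronglyClosed_abelian_controls [Finite G] [Fact p.Prime] (S : Sylow p G) (A : Subgroup G)
    (hAc : ∀ a ∈ A, ∀ b ∈ A, a * b = b * a) (hsc : IsStronglyClosed A (S : Subgroup G)) :
    ∀ B : Subgroup G, B ≤ (S : Subgroup G) → ∀ g : G, (∀ b ∈ B, g * b * g⁻¹ ∈ (S : Subgroup G)) →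
      ∃ x ∈ Subgroup.normalizer (A : Set G), ∀ b ∈ B, g * b * g⁻¹ = x * b * x⁻¹ := by
  have main : ∀ n : ℕ, ∀ B : Subgroup G, B ≤ (S : Subgroup G) →
      Nat.card (S : Subgroup G) - Nat.card B = n →
      ∀ g : G, (∀ b ∈ B, g * b * g⁻¹ ∈ (S : Subgroup G)) →
      ∃ x ∈ Subgroup.normalizer (A : Set G), ∀ b ∈ B, g * b * g⁻¹ = x * b * x⁻¹ := by
    intro n
    induction n using Nat.strong_induction_on with
    | _ n ih =>
      intro B hBS hn g hg
      have IH : ∀ B' : Subgroup G, B' ≤ (S : Subgroup G) → Nat.card B < Nat.card B' → ∀ g : G,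
          (∀ b ∈ B', g * b * g⁻¹ ∈ (S : Subgroup G)) →
          ∃ x ∈ Subgroup.normalizer (A : Set G), ∀ b ∈ B', g * b * g⁻¹ = x * b * x⁻¹ := by
        intro B' hB'S hlt
        have h1 : Nat.card B' ≤ Nat.card (S : Subgroup G) := Subgroup.card_le_of_le hB'S
        exact ih (Nat.card (S : Subgroup G) - Nat.card B') (by omega) B' hB'S rfl
      have hNS : Subgroup.normalizer ((S : Subgroup G) : Set G) ≤
          Subgroup.normalizer (A : Set G) := by
        apply le_normalizer_of_conj_mem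
        intro l hl y hy
        exact hsc.2 y hy l ((Subgroup.mem_normalizer_iff.mp hl y).mp (hsc.1 hy))
      have hchain : ∀ (B' : Subgroup G) (x : G), Chain p S B' x → B' = B →
          ∃ x' ∈ Subgroup.normalizer (A : Set G), ∀ b ∈ B, x * b * x⁻¹ = x' * b * x'⁻¹ := by
        intro B' x hx
        induction hx with
        | nil hB => intro _; exact ⟨1, Subgroup.one_mem _, fun b _ => by simp⟩
        | cons x z Q hx hQ hz hzp hB ih' =>
          intro hBB
          obtain ⟨x', hx', hxe⟩ := ih' hBB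
          subst hBB
          have hcardH : Nat.card B' ≤
              Nat.card ((S : Subgroup G) ⊓ (Q : Subgroup G) : Subgroup G) := by
            rw [← card_conj_smul B' x]
            exact Subgroup.card_le_of_le hB
          have hSyl : SylIn p ((S : Subgroup G) ⊓ Subgroup.normalizer
              (((S : Subgroup G) ⊓ (Q : Subgroup G) : Subgroup G) : Set G))
              (Subgroup.normalizer (((S : Subgroup G) ⊓ (Q : Subgroup G) : Subgroup G) : Set G)) :=
            ⟨inf_le_right, S.isPGroup'.to_le inf_le_left, hQ.1⟩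
          obtain ⟨z', hz', hze⟩ := sc_local S A hAc hsc _ inf_le_left hSyl
            (fun B'' hB''S hlt => IH B'' hB''S (lt_of_le_of_lt hcardH hlt)) z hz
          refine ⟨z' * x', Subgroup.mul_mem _ hz' hx', fun b hb => ?_⟩
          have hxb : x * b * x⁻¹ ∈ (S : Subgroup G) ⊓ (Q : Subgroup G) :=
            hB (Subgroup.smul_mem_pointwise_smul b (MulAut.conj x) B' hb)
          calc z * x * b * (z * x)⁻¹ = z * (x * b * x⁻¹) * z⁻¹ := by group
            _ = z' * (x * b * x⁻¹) * z'⁻¹ := hze _ hxb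
            _ = z' * (x' * b * x'⁻¹) * z'⁻¹ := by rw [hxe b hb]
            _ = z' * x' * b * (z' * x')⁻¹ := by group
      obtain ⟨x, y, hx, hy, rfl⟩ := alperin_fusion S B g hBS (by
        rintro _ ⟨b, hb, rfl⟩
        exact hg b hb)
      obtain ⟨x', hx', hxe⟩ := hchain B x hx rfl
      refine ⟨y * x', Subgroup.mul_mem _ (hNS hy) hx', fun b hb => ?_⟩
      calc y * x * b * (y * x)⁻¹ = y * (x * b * x⁻¹) * y⁻¹ := by group
        _ = y * (x' * b * x'⁻¹) * y⁻¹ := by rw [hxe b hb]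
        _ = y * x' * b * (y * x')⁻¹ := by group
  intro B hBS g hg
  exact main _ B hBS rfl g hg

end Cfsg.Agent.Lib.Helper55
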