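import Mathlib
import Cfsg.Agent.Lib.Helper45.NRankDefs2

/-!
# Piece B3A of S2249: joint eigenspaces of an elementary abelian 2-group of linear maps
-/

set_option autoImplicit false

namespace Cfsg.Agent.Lib.Helper55.NRank

open Cfsg.Agent.Lib.Helper45.NRank

universe u v

/-- the endomorphism attached to an element of `E` -/
def endOf {F : Type u} [Field F] {V : Type v} [AddCommGroup V] [Module F V]
    (E : Subgroup (V ≃ₗ[F] V)) (e : E) : Module.End F V :=
  ((e : V ≃ₗ[F] V) : V →ₗ[F] V)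

theorem endOf_apply {F : Type u} [Field F] {V : Type v} [AddCommGroup V] [Module F V]
    (E : Subgroup (V ≃ₗ[F] V)) (e : E) (w : V) : endOf E e w = (e : V ≃ₗ[F] V) w := rfl

theorem jointEig_eq_iInf_eigenspace {F : Type u} [Field F] {V : Type v} [AddCommGroup V]
    [Module F V] (E : Subgroup (V ≃ₗ[F] V)) (χ : E → F) :
    jointEig E χ = ⨅ e : E, (endOf E e).eigenspace (χ e) := by
  ext w
  rw [mem_jointEig, Submodule.mem_iInf]
  refine forall_congr' fun e => ?_
  rw [Module.End.mem_eigenspace_iff]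
  rfl

theorem endOf_commute {F : Type u} [Field F] {V : Type v} [AddCommGroup V] [Module F V]
    (E : Subgroup (V ≃ₗ[F] V)) (hcomm : ∀ x ∈ E, ∀ y ∈ E, x * y = y * x) (i j : E) :
    Commute (endOf E i) (endOf E j) := by
  have h := hcomm i i.2 j j.2
  refine LinearMap.ext fun w => ?_
  have h2 := congrArg (fun t : V ≃ₗ[F] V => t w) h
  simpa [endOf, LinearEquiv.mul_apply] using h2

theorem jointEig_indep {F : Type u} [Field F] (h2 : (2 : F) ≠ 0) {V : Type v} [AddCommGroup V]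
    [Module F V] [FiniteDimensional F V] (E : Subgroup (V ≃ₗ[F] V))
    (hcomm : ∀ x ∈ E, ∀ y ∈ E, x * y = y * x) (hexp : ∀ x ∈ E, x ^ 2 = 1) :
    iSupIndep (jointEig E) := by
  have h := Module.End.independent_iInf_maxGenEigenspace_of_forall_mapsTo (endOf E)
    (fun i j φ => Module.End.mapsTo_maxGenEigenspace_of_comm (endOf_commute E hcomm j i) φ)
  have hle : jointEig E ≤ fun χ : E → F => ⨅ i, (endOf E i).maxGenEigenspace (χ i) := by
    intro χ
    rw [jointEig_eq_iInf_eigenspace]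
    exact iInf_mono fun e => Module.End.eigenspace_le_maxGenEigenspace
  exact h.mono hle

theorem endOf_semisimple {F : Type u} [Field F] (h2 : (2 : F) ≠ 0) {V : Type v}
    [AddCommGroup V] [Module F V] [FiniteDimensional F V] (E : Subgroup (V ≃ₗ[F] V))
    (hexp : ∀ x ∈ E, x ^ 2 = 1) (e : E) : (endOf E e).IsSemisimple := by
  have hsq : Squarefree (Polynomial.X ^ 2 - Polynomial.C (1 : F)) :=
    (Polynomial.separable_X_pow_sub_C (1 : F) (by exact_mod_cast h2) one_ne_zero).squarefree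
  refine Module.End.isSemisimple_of_squarefree_aeval_eq_zero hsq ?_
  have h := hexp e e.2
  refine LinearMap.ext fun w => ?_
  have h3 := congrArg (fun t : V ≃ₗ[F] V => t w) h
  simp only [map_sub, map_pow, Polynomial.aeval_X, map_one,
    LinearMap.sub_apply, LinearMap.zero_apply, Module.End.one_apply]
  rw [pow_two, Module.End.mul_apply, endOf_apply, endOf_apply]
  rw [pow_two, LinearEquiv.mul_apply] at h3
  simpa using sub_eq_zero.mpr h3

theorem endOf_iSup_eigenspace {F : Type u} [Field F] (h2 : (2 : F) ≠ 0) {V : Type v}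
    [AddCommGroup V] [Module F V] (E : Subgroup (V ≃ₗ[F] V))
    (hexp : ∀ x ∈ E, x ^ 2 = 1) (e : E) : (⨆ μ : F, (endOf E e).eigenspace μ) = ⊤ := by
  rw [eq_top_iff]
  intro w _
  have h := hexp e e.2
  have h3 : (e : V ≃ₗ[F] V) ((e : V ≃ₗ[F] V) w) = w := by
    have := congrArg (fun t : V ≃ₗ[F] V => t w) h
    rw [pow_two, LinearEquiv.mul_apply] at this
    simpa using this
  have hw : w = (2 : F)⁻¹ • (w + (e : V ≃ₗ[F] V) w) + (2 : F)⁻¹ • (w - (e : V ≃ₗ[F] V) w) := by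
    rw [← smul_add]
    have : w + (e : V ≃ₗ[F] V) w + (w - (e : V ≃ₗ[F] V) w) = (2 : F) • w := by
      rw [two_smul]; abel
    rw [this, smul_smul, inv_mul_cancel₀ h2, one_smul]
  rw [hw]
  refine add_mem (Submodule.mem_iSup_of_mem (1 : F) ?_) (Submodule.mem_iSup_of_mem (-1 : F) ?_)
  · rw [Module.End.mem_eigenspace_iff, endOf_apply, map_smul, map_add, h3, one_smul,
      add_comm]
  · rw [Module.End.mem_eigenspace_iff, endOf_apply, map_smul, map_sub, h3, neg_smul, one_smul,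
      ← smul_neg, neg_sub]

theorem jointEig_iSup {F : Type u} [Field F] (h2 : (2 : F) ≠ 0) {V : Type v} [AddCommGroup V]
    [Module F V] [FiniteDimensional F V] (E : Subgroup (V ≃ₗ[F] V))
    (hcomm : ∀ x ∈ E, ∀ y ∈ E, x * y = y * x) (hexp : ∀ x ∈ E, x ^ 2 = 1) :
    (⨆ χ : E → F, jointEig E χ) = ⊤ := by
  have hss : ∀ e : E, ∀ μ : F, (endOf E e).maxGenEigenspace μ = (endOf E e).eigenspace μ :=
    fun e μ => (endOf_semisimple h2 E hexp e).isFinitelySemisimple.maxGenEigenspace_eq_eigenspace μ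
  have h := Module.End.iSup_iInf_maxGenEigenspace_eq_top_of_iSup_maxGenEigenspace_eq_top_of_commute
    (endOf E) (fun i j _ => endOf_commute E hcomm i j)
    (fun e => by
      have := endOf_iSup_eigenspace h2 E hexp e
      simpa only [hss] using this)
  rw [← h]
  refine iSup_congr fun χ => ?_
  rw [jointEig_eq_iInf_eigenspace]
  exact iInf_congr fun e => (hss e (χ e)).symm

theorem jointEig_map {F : Type u} [Field F] {V : Type v} [AddCommGroup V] [Module F V]
    (E : Subgroup (V ≃ₗ[F] V)) (a : V ≃ₗ[F] V) (ha' : ∀ x ∈ E, a⁻¹ * x * a ∈ E)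
    (ha : ∀ x ∈ E, a * x * a⁻¹ ∈ E) (χ : E → F) :
    (jointEig E χ).map ((a : V ≃ₗ[F] V) : V →ₗ[F] V) =
      jointEig E (fun e => χ ⟨a⁻¹ * e * a, ha' e e.2⟩) := by
  ext v
  rw [Submodule.mem_map, mem_jointEig]
  constructor
  · rintro ⟨w, hw, rfl⟩ e
    rw [mem_jointEig] at hw
    have h1 := hw ⟨a⁻¹ * e * a, ha' e e.2⟩
    have h2 : (e : V ≃ₗ[F] V) (a w) = a ((a⁻¹ * (e : V ≃ₗ[F] V) * a) w) := by
      simp [LinearEquiv.mul_apply]
    show (e : V ≃ₗ[F] V) (a w) = _ • a w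
    rw [h2]
    change a (((⟨a⁻¹ * e * a, ha' e e.2⟩ : E) : V ≃ₗ[F] V) w) = _
    rw [h1, map_smul]
  · intro hv
    refine ⟨a⁻¹ v, ?_, by simp⟩
    rw [mem_jointEig]
    intro e
    have h1 := hv ⟨a * e * a⁻¹, ha e e.2⟩
    have h2 : (e : V ≃ₗ[F] V) (a⁻¹ v) = a⁻¹ ((a * (e : V ≃ₗ[F] V) * a⁻¹) v) := by
      simp [LinearEquiv.mul_apply]
    rw [h2]
    have h3 : (⟨a⁻¹ * ((⟨a * e * a⁻¹, ha e e.2⟩ : E) : V ≃ₗ[F] V) * a, ha' _ (ha e e.2)⟩ : E)
        = e := by
      apply Subtype.ext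
      show a⁻¹ * (a * (e : V ≃ₗ[F] V) * a⁻¹) * a = e
      group
    change ((⟨a * e * a⁻¹, ha e e.2⟩ : E) : V ≃ₗ[F] V) v = _ at h1
    rw [h3] at h1
    change a⁻¹ (((⟨a * e * a⁻¹, ha e e.2⟩ : E) : V ≃ₗ[F] V) v) = _
    rw [h1, map_smul]

end Cfsg.Agent.Lib.Helper55.NRank
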