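import Mathlib
import Cfsg.Agent.Lib.Helper44.PU3Defs
import Cfsg.Agent.Lib.Helper53.SUSylow

/-! Piece SYLZ of the PU3 project (helper44, S2784 + S2786). -/

set_option autoImplicit false

namespace Cfsg.Agent.Lib.Helper44.PU3

open Cfsg.Agent.Lib.Helper87

/-- a finite field with `(p ^ n) ^ 2` elements has characteristic `p` -/
private theorem pu3sylz_charP {F : Type*} [Field F] [Fintype F] {p n : ℕ} [Fact p.Prime]
    (hF : Fintype.card F = (p ^ n) ^ 2) : CharP F p := by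
  have hp : p.Prime := Fact.out
  obtain ⟨c, hc⟩ := CharP.exists F
  have hcp : c.Prime := CharP.char_is_prime F c
  have : Fact c.Prime := ⟨hcp⟩
  have h1 : c ∣ Fintype.card F := by
    obtain ⟨m, hm⟩ := FiniteField.card F c
    rw [hm.2]
    exact dvd_pow_self c m.ne_zero
  rw [hF] at h1
  have h2 : c = p :=
    (Nat.prime_dvd_prime_iff_eq hcp hp).mp (hcp.dvd_of_dvd_pow (hcp.dvd_of_dvd_pow h1))
  rw [← h2]
  exact hc

theorem pu3_sylz {H : Type*} [Group H] [Finite H] {p : ℕ} [Fact p.Prime]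
    {F : Type*} [Field F] [Fintype F] (n : ℕ) (hF : Fintype.card F = (p ^ n) ^ 2)
    (N : Subgroup H) [N.Normal] (hN : (Nat.card N).Coprime p)
    (ψ : H ⧸ N ≃* Cfsg.PSU 3 F (p ^ n)) (S : Sylow p H) (s : H) (hs : s ∈ S)
    (hc : ∀ y ∈ S, y * s = s * y) (hs1 : s ≠ 1) :
    ∃ (v : Fin 3 → F) (c : F), v ≠ 0 ∧ Cfsg.hermForm 3 F (p ^ n) v v = 0 ∧ c ≠ 0 ∧
      c + c ^ (p ^ n) = 0 ∧
      ψ (QuotientGroup.mk s) = QuotientGroup.mk (Cfsg.Agent.Lib.Helper87.tU hF v c) := by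
  classical
  have hp : p.Prime := Fact.out
  have hchar : CharP F p := pu3sylz_charP hF
  have hfin : Finite (Cfsg.PSU 3 F (p ^ n)) := Finite.of_equiv _ ψ.toEquiv
  set f : H →* Cfsg.PSU 3 F (p ^ n) := ψ.toMonoidHom.comp (QuotientGroup.mk' N) with hfdef
  have hsurj : Function.Surjective f := by
    intro x
    obtain ⟨y, hy⟩ := QuotientGroup.mk_surjective (ψ.symm x)
    refine ⟨y, ?_⟩
    show ψ (QuotientGroup.mk y) = x
    rw [hy, MulEquiv.apply_symm_apply]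
  have hfs : f s = ψ (QuotientGroup.mk s) := rfl
  have hcoe : ((S.mapSurjective hsurj : Sylow p (Cfsg.PSU 3 F (p ^ n))) :
      Subgroup (Cfsg.PSU 3 F (p ^ n))) = (S : Subgroup H).map f := Sylow.coe_mapSurjective hsurj S
  have hzS : f s ∈ (S.mapSurjective hsurj : Sylow p (Cfsg.PSU 3 F (p ^ n))) := by
    show f s ∈ ((S.mapSurjective hsurj : Sylow p (Cfsg.PSU 3 F (p ^ n))) :
      Subgroup (Cfsg.PSU 3 F (p ^ n)))
    rw [hcoe]
    exact Subgroup.mem_map_of_mem f hs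
  have hzc : ∀ y ∈ (S.mapSurjective hsurj : Sylow p (Cfsg.PSU 3 F (p ^ n))),
      y * f s = f s * y := by
    intro y hy
    have hy' : y ∈ ((S.mapSurjective hsurj : Sylow p (Cfsg.PSU 3 F (p ^ n))) :
      Subgroup (Cfsg.PSU 3 F (p ^ n))) := hy
    rw [hcoe] at hy'
    obtain ⟨y₀, hy₀, rfl⟩ := Subgroup.mem_map.mp hy'
    rw [← map_mul, ← map_mul, hc y₀ hy₀]
  obtain ⟨v, hv, hvv, hcen⟩ :=
    Cfsg.Agent.Lib.Helper53.AutPSU.sylow_center hF (by norm_num) (S.mapSurjective hsurj)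
  obtain ⟨c, hcc, hz⟩ := hcen (f s) hzS hzc
  refine ⟨v, c, hv, hvv, ?_, hcc, ?_⟩
  · rintro rfl
    rw [tU_zero hF hvv] at hz
    have h1 : (QuotientGroup.mk s : H ⧸ N) = 1 := by
      apply ψ.injective
      rw [map_one]
      exact hz
    have hsN : s ∈ N := (QuotientGroup.eq_one_iff s).mp h1
    obtain ⟨k, hk⟩ := (S.isPGroup' : IsPGroup p (S : Subgroup H)) ⟨s, hs⟩
    have hk' : s ^ (p ^ k) = 1 := by
      have := congrArg Subtype.val hk
      simpa using this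
    have h2 : orderOf s ∣ Nat.card N := by
      have h := orderOf_dvd_natCard (⟨s, hsN⟩ : N)
      rwa [Subgroup.orderOf_mk] at h
    have h3 : orderOf s ∣ p ^ k := orderOf_dvd_of_pow_eq_one hk'
    have h4 : orderOf s = 1 := Nat.eq_one_of_dvd_coprimes (Nat.Coprime.pow_right k hN) h2 h3
    exact hs1 (orderOf_eq_one_iff.mp h4)
  · rw [← hfs]
    exact hz

end Cfsg.Agent.Lib.Helper44.PU3
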