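import Cfsg.Agent.Lib.Helper55.FH
import Mathlib

set_option autoImplicit false
open Cfsg
open scoped commutatorElement

namespace Cfsg.Agent.Lib.Helper55

variable {G : Type*} [Group G] {p : ℕ}

/-! ### `commInto` and commutators -/

theorem commutator_le_of_le_commInto {P K R A : Subgroup G}
    (hR : P ≤ Subgroup.normalizer (R : Set G)) (h : A ≤ commInto P K R hR) : ⁅K, A⁆ ≤ R := by
  rw [Subgroup.commutator_le]
  intro k hk a ha
  exact (h ha).2 k hk

theorem le_commInto_of_commutator_le {P K R A : Subgroup G}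
    (hR : P ≤ Subgroup.normalizer (R : Set G)) (hAP : A ≤ P) (h : ⁅K, A⁆ ≤ R) :
    A ≤ commInto P K R hR := by
  intro a ha
  exact ⟨hAP ha, fun k hk => h (Subgroup.commutator_mem_commutator hk ha)⟩

/-- `[K, A ⊔ B] ≤ R` from `[K, A] ≤ R` and `[K, B] ≤ R`, when `A` and `B` normalize `R`. -/
theorem commutator_sup_le {K R A B : Subgroup G} (hA : A ≤ Subgroup.normalizer (R : Set G))
    (hB : B ≤ Subgroup.normalizer (R : Set G)) (h1 : ⁅K, A⁆ ≤ R) (h2 : ⁅K, B⁆ ≤ R) :
    ⁅K, A ⊔ B⁆ ≤ R := by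
  have hR : A ⊔ B ≤ Subgroup.normalizer (R : Set G) := sup_le hA hB
  exact commutator_le_of_le_commInto hR
    (sup_le (le_commInto_of_commutator_le hR le_sup_left h1)
      (le_commInto_of_commutator_le hR le_sup_right h2))

theorem exists_mul_of_mem_sup_normalizer {A N : Subgroup G}
    (hAN : A ≤ Subgroup.normalizer (N : Set G)) {x : G} (hx : x ∈ A ⊔ N) :
    ∃ a ∈ A, ∃ n ∈ N, a * n = x := by
  have h2 : x ∈ ((A ⊔ N : Subgroup G) : Set G) := hx
  rw [Subgroup.coe_mul_of_left_le_normalizer_right A N hAN] at h2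
  exact Set.mem_mul.mp h2

/-! ### central extensions of quasisimple groups -/

/-- A perfect central extension of a quasisimple group is quasisimple. -/
theorem isQuasisimple_of_central_ext {Ξ Κ : Type*} [Group Ξ] [Group Κ] (f : Ξ →* Κ)
    (hf : Function.Surjective f) [hperf : Group.IsPerfect Ξ] (hker : f.ker ≤ Subgroup.center Ξ)
    (hK : IsQuasisimple Κ) : IsQuasisimple Ξ := by
  refine ⟨hperf, ?_⟩
  obtain ⟨_, hs⟩ := hK
  have hψ : Function.Surjective ((QuotientGroup.mk' (Subgroup.center Κ)).comp f) :=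
    (QuotientGroup.mk'_surjective _).comp hf
  have hcz : ∀ ζ : Ξ, ζ ∈ ((QuotientGroup.mk' (Subgroup.center Κ)).comp f).ker ↔
      f ζ ∈ Subgroup.center Κ := by
    intro ζ
    rw [MonoidHom.mem_ker, MonoidHom.comp_apply, QuotientGroup.mk'_apply, QuotientGroup.eq_one_iff]
  have hkc : ((QuotientGroup.mk' (Subgroup.center Κ)).comp f).ker = Subgroup.center Ξ := by
    apply le_antisymm
    · have h0 : ⁅((QuotientGroup.mk' (Subgroup.center Κ)).comp f).ker, (⊤ : Subgroup Ξ)⁆ ≤ f.ker := by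
        rw [Subgroup.commutator_le]
        intro ζ hζ η _
        rw [MonoidHom.mem_ker, map_commutatorElement]
        have hc := (hcz ζ).mp hζ
        rw [commutatorElement_eq_one_iff_commute]
        exact (Subgroup.mem_center_iff.mp hc (f η)).symm
      have hkt : ⁅f.ker, (⊤ : Subgroup Ξ)⁆ = ⊥ := by
        rw [Subgroup.commutator_eq_bot_iff_le_centralizer, Subgroup.coe_top,
          Subgroup.centralizer_univ]
        exact hker
      have h1 : ⁅⁅((QuotientGroup.mk' (Subgroup.center Κ)).comp f).ker, (⊤ : Subgroup Ξ)⁆,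
          (⊤ : Subgroup Ξ)⁆ = ⊥ := by
        rw [eq_bot_iff, ← hkt]
        exact Subgroup.commutator_mono h0 le_rfl
      have h2 : ⁅⁅(⊤ : Subgroup Ξ), ((QuotientGroup.mk' (Subgroup.center Κ)).comp f).ker⁆,
          (⊤ : Subgroup Ξ)⁆ = ⊥ := by
        rw [Subgroup.commutator_comm ⊤ _]; exact h1
      have h3 := Subgroup.commutator_commutator_eq_bot_of_rotate h2 h1
      have hpt : ⁅(⊤ : Subgroup Ξ), (⊤ : Subgroup Ξ)⁆ = ⊤ := hperf.commutator_eq_top
      rw [hpt, Subgroup.commutator_comm, Subgroup.commutator_eq_bot_iff_le_centralizer,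
        Subgroup.coe_top, Subgroup.centralizer_univ] at h3
      exact h3
    · intro ζ hζ
      rw [hcz, Subgroup.mem_center_iff]
      intro κ
      obtain ⟨η, rfl⟩ := hf κ
      rw [← map_mul, ← map_mul, Subgroup.mem_center_iff.mp hζ η]
  have e1 : Ξ ⧸ Subgroup.center Ξ ≃* Ξ ⧸ ((QuotientGroup.mk' (Subgroup.center Κ)).comp f).ker :=
    QuotientGroup.quotientMulEquivOfEq hkc.symm
  have e2 : Ξ ⧸ ((QuotientGroup.mk' (Subgroup.center Κ)).comp f).ker ≃* Κ ⧸ Subgroup.center Κ :=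
    QuotientGroup.quotientKerEquivOfSurjective _ hψ
  exact (e1.trans e2).isSimpleGroup

/-! ### `p`-subgroups acting on a quasisimple `O^p` -/

/-- If `O_p(Γ) = 1` and `K ⊴ Γ` is quasisimple with `Γ/K` a `p`-group, then `[K, Y] = K` for
every nontrivial `p`-subgroup `Y`. -/
theorem qs_commutator_pgroup_eq {Γ : Type*} [Group Γ] [Finite Γ] [Fact p.Prime]
    (hO : Cfsg.pCore p Γ = ⊥) (K : Subgroup Γ) (hKn : K.Normal)
    (hKpow : ∀ γ : Γ, ∃ k : ℕ, γ ^ p ^ k ∈ K) (hq : IsQuasisimple ↥K)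
    (Y : Subgroup Γ) (hYp : IsPGroup p Y) (hY1 : Y ≠ ⊥) : ⁅K, Y⁆ = K := by
  rcases qs_commutator_eq_or_le_centralizer' hq Y
    (by rw [Subgroup.normalizer_eq_top_iff.mpr hKn]; exact le_top) with h | h
  · exact h
  · exfalso
    apply hY1
    obtain ⟨T, hYT⟩ := hYp.exists_le_sylow
    have hRK : Cfsg.pResidual p Γ ≤ K := pResidual_le_of_pow hKpow
    have hconj : ∀ γ : Γ, ∀ y ∈ Y, γ * y * γ⁻¹ ∈ (T : Subgroup Γ) := by
      intro γ y hy
      obtain ⟨r, hr, hrT⟩ := sylow_exists_residual_mul T γ⁻¹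
      have hrK : r ∈ K := hRK hr
      have hcomm : r * y = y * r := ((Subgroup.mem_centralizer_iff.mp (h hy)) r hrK)
      have e : γ * y * γ⁻¹ = (r⁻¹ * γ⁻¹)⁻¹ * y * (r⁻¹ * γ⁻¹) := by
        have e1 : (r⁻¹ * γ⁻¹)⁻¹ * y * (r⁻¹ * γ⁻¹) = γ * (r * y) * r⁻¹ * γ⁻¹ := by group
        rw [e1, hcomm]; group
      rw [e]
      exact Subgroup.mul_mem _ (Subgroup.mul_mem _ (Subgroup.inv_mem _ hrT) (hYT hy)) hrT
    have hNT : Subgroup.normalClosure (Y : Set Γ) ≤ (T : Subgroup Γ) := by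
      show Subgroup.closure (Group.conjugatesOfSet (Y : Set Γ)) ≤ _
      rw [Subgroup.closure_le]
      intro z hz
      obtain ⟨y, hy, hc⟩ := Group.mem_conjugatesOfSet_iff.mp hz
      obtain ⟨c, rfl⟩ := isConj_iff.mp hc
      exact hconj c y hy
    have hNp : IsPGroup p ↥(Subgroup.normalClosure (Y : Set Γ)) := T.2.to_le hNT
    have hle := le_pCore Subgroup.normalClosure_normal hNp
    rw [hO] at hle
    exact eq_bot_iff.mpr (Subgroup.le_normalClosure.trans hle)

/-! ### the weak closure of a large subgroup in `E ≤ N(U)` -/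

theorem normalizer_inf_le_normalizer_commutator [Finite G] (A B : Subgroup G) :
    Subgroup.normalizer (A : Set G) ⊓ Subgroup.normalizer (B : Set G) ≤
      Subgroup.normalizer ((⁅A, B⁆ : Subgroup G) : Set G) := by
  intro n hn
  have hA : cj n A = A := cj_eq_self_of_mem_normalizer hn.1
  have hB : cj n B = B := cj_eq_self_of_mem_normalizer hn.2
  have h : cj n ⁅A, B⁆ = ⁅A, B⁆ := by
    show (⁅A, B⁆).map _ = _
    rw [Subgroup.map_commutator]
    show ⁅cj n A, cj n B⁆ = _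
    rw [hA, hB]
  exact mem_normalizer_of_cj_le (le_of_eq h)

/-- `C_G(U)` normalizes a large `p`-subgroup `Q` which normalizes the nontrivial `p`-group `U`. -/
theorem large_centralizer_le_normalizer_of_normalizes [Finite G] [Fact p.Prime] {Q U : Subgroup G}
    (hQp : IsPGroup p Q) (hQ : Cfsg.IsLarge Q) (hUp : IsPGroup p U) (hU1 : U ≠ ⊥)
    (hQU : Q ≤ Subgroup.normalizer (U : Set G)) :
    Subgroup.centralizer (U : Set G) ≤ Subgroup.normalizer (Q : Set G) := by
  have hZ := Helper56.pgroup_fixed_ne_bot Q U hQp hUp hU1 hQU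
  have h1 := hQ.2 (U ⊓ Subgroup.centralizer (Q : Set G)) inf_le_right hZ
  refine le_trans ?_ h1
  refine le_trans ?_ (Subgroup.centralizer_le_normalizer _)
  exact Subgroup.centralizer_le (fun x hx => (Subgroup.mem_inf.mp hx).1)

theorem weakClosure_qs_ambient [Finite G] [Fact p.Prime] (Q U E : Subgroup G) (hQp : IsPGroup p Q)
    (hQ : Cfsg.IsLarge Q) (hUp : IsPGroup p U) (hU1 : U ≠ ⊥) (hQE : Q ≤ E)
    (hEU : E ≤ Subgroup.normalizer (U : Set G)) (hQn : ¬ E ≤ Subgroup.normalizer (Q : Set G))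
    (C RE W X : Subgroup G) (hC : C = E ⊓ Subgroup.centralizer (U : Set G))
    (hRE : RE = (Cfsg.pResidual p ↥E).map E.subtype)
    (hW : W = Cfsg.weakClosure Q E) (hX : X = (Cfsg.pResidual p ↥W).map W.subtype)
    (hA2 : ∀ Y : Subgroup G, Y ≤ E → IsPGroup p Y → ¬ Y ≤ Subgroup.centralizer (U : Set G) →
      RE ⊔ C ≤ ⁅RE ⊔ C, Y⁆ ⊔ C)
    (hA3 : RE ⊔ C ≤ ⁅RE ⊔ C, RE ⊔ C⁆ ⊔ C) :
    RE ⊔ C = X ⊔ C ∧ ⁅X, X⁆ = X ∧
      (∀ Y : Subgroup G, Y ≤ E → IsPGroup p Y → ¬ Y ≤ Subgroup.centralizer (U : Set G) →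
        ⁅X, Y⁆ = X) ∧
      (∀ x ∈ X ⊓ C, ∀ y ∈ X, x * y * x⁻¹ * y⁻¹ ∈ Cfsg.pCoreOf p X) := by
  -- basic normalities
  have hEC : E ≤ Subgroup.normalizer (C : Set G) := by
    rw [hC]
    exact le_trans (le_inf Subgroup.le_normalizer
      (hEU.trans (Helper56.normalizer_le_normalizer_centralizer U))) (Helper56.normalizer_inf_le _ _)
  have hCE : C ≤ E := by rw [hC]; exact inf_le_left
  have hCU : C ≤ Subgroup.centralizer (U : Set G) := by rw [hC]; exact inf_le_right
  have hWE : W ≤ E := by rw [hW]; exact Helper56.weakClosure_le Q E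
  have hEW : E ≤ Subgroup.normalizer (W : Set G) := by
    rw [hW]; exact Helper56.le_normalizer_weakClosure Q E
  have hXW : X ≤ W := by rw [hX]; exact Subgroup.map_subtype_le _
  have hWX : W ≤ Subgroup.normalizer (X : Set G) := by
    rw [hX]; exact le_normalizer_map_subtype_pResidual W
  have hEX : E ≤ Subgroup.normalizer (X : Set G) := by
    rw [hX]; exact hEW.trans (Helper56.normalizer_le_normalizer_opOf p W)
  have hXE : X ≤ E := hXW.trans hWE
  have hREE : RE ≤ E := by rw [hRE]; exact Subgroup.map_subtype_le _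
  have hQW : Q ≤ W := by rw [hW]; exact Helper56.le_weakClosure Q E hQE
  have hXRE : X ≤ RE := by rw [hX, hRE]; exact map_subtype_pResidual_mono hWE
  have h7 : (Cfsg.pResidual p ↥X).map X.subtype = X := by
    rw [hX]; exact Helper56.opOf_opOf p W
  have hcXX : ⁅X, X⁆ ≤ X := Helper56.commutator_le_of_le_normalizer X X Subgroup.le_normalizer
  have hEXX : E ≤ Subgroup.normalizer ((⁅X, X⁆ : Subgroup G) : Set G) :=
    (le_inf hEX hEX).trans (normalizer_inf_le_normalizer_commutator X X)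
  -- Step 1
  have hQU : ¬ Q ≤ Subgroup.centralizer (U : Set G) := by
    intro h
    apply hQn
    have hUQ : U ≤ Subgroup.centralizer (Q : Set G) := Subgroup.le_centralizer_iff.mp h
    exact hEU.trans (hQ.2 U hUQ hU1)
  -- Step 2
  have hKW : RE ⊔ C ≤ W ⊔ C := by
    refine (hA2 Q hQE hQp hQU).trans (sup_le_sup_right ?_ C)
    rw [Subgroup.commutator_le]
    intro k hk q hq
    have hkE : k ∈ E := (sup_le hREE hCE) hk
    have h1 : k * q * k⁻¹ ∈ W := by
      rw [hW]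
      apply Helper56.conj_le_weakClosure Q E k
      · rintro _ ⟨u, hu, rfl⟩
        exact E.mul_mem (E.mul_mem hkE (hQE hu)) (E.inv_mem hkE)
      · exact ⟨q, hq, rfl⟩
    exact W.mul_mem h1 (W.inv_mem (hQW hq))
  -- Step 3
  have h1 : RE ⊔ C = X ⊔ C := by
    apply le_antisymm
    · refine sup_le ?_ le_sup_right
      rw [hRE, map_subtype_pResidual_le_iff]
      intro e he hc
      have heR : e ∈ RE := by rw [hRE]; exact mem_map_subtype_pResidual he hc
      have heK : e ∈ W ⊔ C := hKW (Subgroup.mem_sup_left heR)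
      obtain ⟨w, hw, c, hcC, rfl⟩ := exists_mul_of_mem_sup_normalizer (hWE.trans hEC) heK
      obtain ⟨b, hb⟩ := Helper56.exists_pow_mem_opOf (p := p) hw
      obtain ⟨c', hc', e2⟩ := pow_mul_mem_normalizer (hEC (hWE hw)) hcC (p ^ b)
      apply mem_of_pow_mem_of_coprime hc (k := b)
      rw [e2]
      exact Subgroup.mul_mem _ (Subgroup.mem_sup_left (by rw [hX]; exact hb))
        (Subgroup.mem_sup_right hc')
    · exact sup_le (hXRE.trans le_sup_left) le_sup_right
  -- Step 4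
  obtain ⟨OC, hOC⟩ : ∃ OC, OC = Cfsg.pCoreOf p C := ⟨_, rfl⟩
  have hOCp : IsPGroup p OC := by rw [hOC]; exact pCoreOf_isPGroup C
  have hEOC : E ≤ Subgroup.normalizer (OC : Set G) := by
    rw [hOC]; exact hEC.trans (normalizer_le_normalizer_pCoreOf C)
  have hF4 : W ≤ commInto E C OC hEOC := by
    rw [hW, Helper56.weakClosure_le_iff]
    intro g hg w hw
    refine ⟨hg hw, fun c hc => ?_⟩
    have hCN : C ≤ Subgroup.normalizer
        ((Q.map (MulAut.conj g).toMonoidHom : Subgroup G) : Set G) :=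
      hCU.trans (large_centralizer_le_normalizer_of_normalizes (hQp.map _)
        (Helper56.large_conj hQ g) hUp hU1 (hg.trans hEU))
    have h1 : c * w * c⁻¹ ∈ Q.map (MulAut.conj g).toMonoidHom :=
      (Subgroup.mem_normalizer_iff.mp (hCN hc) w).mp hw
    have h2 : w * c⁻¹ * w⁻¹ ∈ C :=
      (Subgroup.mem_normalizer_iff.mp (hEC (hg hw)) _).mp (C.inv_mem hc)
    have h3 : c * w * c⁻¹ * w⁻¹ ∈ Q.map (MulAut.conj g).toMonoidHom ⊓ C := by
      refine Subgroup.mem_inf.mpr ⟨Subgroup.mul_mem _ h1 (Subgroup.inv_mem _ hw), ?_⟩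
      have e : c * w * c⁻¹ * w⁻¹ = c * (w * c⁻¹ * w⁻¹) := by group
      rw [e]; exact C.mul_mem hc h2
    have h4 : Q.map (MulAut.conj g).toMonoidHom ⊓ C ≤ OC := by
      rw [hOC]
      refine le_pCoreOf inf_le_right ?_ ((hQp.map _).to_le inf_le_left)
      exact le_trans (le_inf hCN Subgroup.le_normalizer) (Helper56.normalizer_inf_le _ _)
    exact h4 h3
  have hF4' : ∀ c ∈ C, ∀ w ∈ W, c * w * c⁻¹ * w⁻¹ ∈ OC := fun c hc w hw => (hF4 hw).2 c hc
  have hXOC : X ⊓ OC ≤ Cfsg.pCoreOf p X :=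
    le_pCoreOf inf_le_left (le_trans (le_inf Subgroup.le_normalizer (hXE.trans hEOC))
      (Helper56.normalizer_inf_le _ _)) (hOCp.to_le inf_le_right)
  have h4 : ∀ x ∈ X ⊓ C, ∀ y ∈ X, x * y * x⁻¹ * y⁻¹ ∈ X ⊓ OC := by
    intro x hx y hy
    refine Subgroup.mem_inf.mpr ⟨?_, hF4' x hx.2 y (hXW hy)⟩
    exact X.mul_mem (X.mul_mem (X.mul_mem hx.1 hy) (X.inv_mem hx.1)) (X.inv_mem hy)
  -- Step 5a
  obtain ⟨N2, hN2⟩ : ∃ N2, N2 = ⁅X, X⁆ ⊔ C := ⟨_, rfl⟩
  have hEN2 : E ≤ Subgroup.normalizer (N2 : Set G) := by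
    rw [hN2]; exact le_trans (le_inf hEXX hEC) (Helper56.normalizer_inf_le_sup _ _)
  have hCN2 : C ≤ N2 := by rw [hN2]; exact le_sup_right
  have hKK : ⁅X ⊔ C, X ⊔ C⁆ ≤ N2 := by
    have hXN : X ≤ Subgroup.normalizer (N2 : Set G) := hXE.trans hEN2
    have hCN : C ≤ Subgroup.normalizer (N2 : Set G) := hCE.trans hEN2
    have ha : ⁅X ⊔ C, X⁆ ≤ N2 := by
      rw [Subgroup.commutator_comm]
      apply commutator_sup_le hXN hCN
      · rw [hN2]; exact le_sup_left
      · exact (Helper56.commutator_le_of_le_normalizer' C X (hXE.trans hEC)).trans hCN2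
    have hb : ⁅X ⊔ C, C⁆ ≤ N2 :=
      (Helper56.commutator_le_of_le_normalizer' C (X ⊔ C)
        (sup_le (hXE.trans hEC) Subgroup.le_normalizer)).trans hCN2
    exact commutator_sup_le hXN hCN ha hb
  -- Step 5b
  have hXdec : X ≤ ⁅X, X⁆ ⊔ (X ⊓ C) := by
    intro x hx
    have hA3' : X ⊔ C ≤ ⁅X ⊔ C, X ⊔ C⁆ ⊔ C := by rw [← h1]; exact hA3
    have h2 : x ∈ N2 := (sup_le hKK hCN2) (hA3' (Subgroup.mem_sup_left hx))
    rw [hN2] at h2
    obtain ⟨a, ha, c, hc, rfl⟩ := exists_mul_of_mem_sup_normalizer ((hcXX.trans hXE).trans hEC) h2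
    refine Subgroup.mul_mem _ (Subgroup.mem_sup_left ha) (Subgroup.mem_sup_right ⟨?_, hc⟩)
    have e : c = a⁻¹ * (a * c) := by group
    rw [e]; exact X.mul_mem (X.inv_mem (hcXX ha)) hx
  -- Step 5c
  obtain ⟨N, hN⟩ : ∃ N, N = ⁅X, X⁆ ⊔ (X ⊓ OC) := ⟨_, rfl⟩
  have hWN : W ≤ Subgroup.normalizer (N : Set G) := by
    rw [hN]
    exact le_trans (le_inf (hWE.trans hEXX) (le_trans (le_inf hWX (hWE.trans hEOC))
      (Helper56.normalizer_inf_le _ _))) (Helper56.normalizer_inf_le_sup _ _)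
  have hXWN : ⁅W, X⁆ ≤ N := by
    refine (Subgroup.commutator_mono le_rfl hXdec).trans ?_
    apply commutator_sup_le ((hcXX.trans hXW).trans hWN) ((inf_le_left.trans hXW).trans hWN)
    · rw [hN]
      exact (Helper56.commutator_le_of_le_normalizer' ⁅X, X⁆ W (hWE.trans hEXX)).trans le_sup_left
    · rw [hN, Subgroup.commutator_comm]
      refine le_trans ?_ le_sup_right
      rw [Subgroup.commutator_le]
      intro c hc w hw
      refine Subgroup.mem_inf.mpr ⟨?_, hF4' c hc.2 w hw⟩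
      have h2 : w * c⁻¹ * w⁻¹ ∈ X :=
        (Subgroup.mem_normalizer_iff.mp (hWX hw) _).mp (X.inv_mem hc.1)
      have e : ⁅c, w⁆ = c * (w * c⁻¹ * w⁻¹) := by rw [commutatorElement_def]; group
      rw [e]; exact X.mul_mem hc.1 h2
  obtain ⟨SW, hSW⟩ := exists_sylIn (p := p) W
  have hNS : W ≤ Subgroup.normalizer ((N ⊔ SW : Subgroup G) : Set G) := by
    intro w hw
    obtain ⟨r, hr, hrS⟩ := hSW.exists_residual_mul w hw
    have hrX : r ∈ X := by rw [hX]; exact hr
    have hrN : r ∈ Subgroup.normalizer ((N ⊔ SW : Subgroup G) : Set G) := by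
      apply mem_normalizer_of_cj_le
      show (N ⊔ SW).map _ ≤ _
      rw [Subgroup.map_sup]
      refine sup_le ?_ ?_
      · have h5 : cj r N = N := cj_eq_self_of_mem_normalizer (hWN (hXW hrX))
        exact (le_of_eq h5).trans le_sup_left
      · rintro _ ⟨s, hs, rfl⟩
        have h3 : ⁅r, s⁆ ∈ N := by
          have h6 : ⁅X, W⁆ ≤ N := by rw [Subgroup.commutator_comm]; exact hXWN
          exact h6 (Subgroup.commutator_mem_commutator hrX (hSW.le hs))
        have e : (MulAut.conj r).toMonoidHom s = ⁅r, s⁆ * s := by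
          simp [commutatorElement_def]
        rw [e]
        exact Subgroup.mul_mem _ (Subgroup.mem_sup_left h3) (Subgroup.mem_sup_right hs)
    have hsN : r⁻¹ * w ∈ Subgroup.normalizer ((N ⊔ SW : Subgroup G) : Set G) :=
      (le_trans (le_inf (hSW.le.trans hWN) Subgroup.le_normalizer)
        (Helper56.normalizer_inf_le_sup _ _)) hrS
    have e : w = r * (r⁻¹ * w) := by group
    rw [e]; exact Subgroup.mul_mem _ hrN hsN
  have hWNS : W ≤ N ⊔ SW := by
    have hgoal : Cfsg.weakClosure Q E ≤ N ⊔ SW := by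
      rw [Helper56.weakClosure_le_iff]
      intro g hg
      have hgW : Q.map (MulAut.conj g).toMonoidHom ≤ W := by
        rw [hW]; exact Helper56.conj_le_weakClosure Q E g hg
      obtain ⟨w, hw, hle⟩ := hSW.exists_le_cj hgW (hQp.map _)
      refine hle.trans ?_
      have h5 : cj w (N ⊔ SW) = N ⊔ SW := cj_eq_self_of_mem_normalizer (hNS hw)
      rw [← h5]; exact cj_mono le_sup_right
    rw [hW]; exact hgoal
  have hXN : X ≤ N := by
    have h8 : (Cfsg.pResidual p ↥W).map W.subtype ≤ N :=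
      Helper56.opOf_le_of_le_sup N SW W hSW.isPGroup (hSW.le.trans hWN) hWNS
    rw [hX]; exact h8
  -- Step 5d
  have hperf : ⁅X, X⁆ = X := by
    apply le_antisymm hcXX
    have h6 : (Cfsg.pResidual p ↥X).map X.subtype ≤ ⁅X, X⁆ :=
      Helper56.opOf_le_of_le_sup ⁅X, X⁆ (X ⊓ OC) X (hOCp.to_le inf_le_right)
        (inf_le_left.trans (Helper56.le_normalizer_commutator_left X X)) (by rw [← hN]; exact hXN)
    rw [h7] at h6
    exact h6
  refine ⟨h1, hperf, ?_, fun x hx y hy => hXOC (h4 x hx y hy)⟩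
  -- Step 6
  intro Y hYE hYp hYU
  have hYX : Y ≤ Subgroup.normalizer (X : Set G) := hYE.trans hEX
  have hle : ⁅X, Y⁆ ≤ X := Helper56.commutator_le_of_le_normalizer X Y hYX
  apply le_antisymm hle
  have hA2' : X ⊔ C ≤ ⁅X ⊔ C, Y⁆ ⊔ C := by rw [← h1]; exact hA2 Y hYE hYp hYU
  obtain ⟨N3, hN3⟩ : ∃ N3, N3 = ⁅X, Y⁆ ⊔ C := ⟨_, rfl⟩
  have hCN3' : C ≤ N3 := by rw [hN3]; exact le_sup_right
  have hXN3 : X ≤ Subgroup.normalizer (N3 : Set G) := by
    rw [hN3]
    exact le_trans (le_inf (Helper56.le_normalizer_commutator_left X Y) (hXE.trans hEC))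
      (Helper56.normalizer_inf_le_sup _ _)
  have hCN3 : C ≤ Subgroup.normalizer (N3 : Set G) := hCN3'.trans Subgroup.le_normalizer
  have hKY : ⁅X ⊔ C, Y⁆ ≤ N3 := by
    rw [Subgroup.commutator_comm]
    apply commutator_sup_le hXN3 hCN3
    · rw [hN3, Subgroup.commutator_comm]; exact le_sup_left
    · exact (Helper56.commutator_le_of_le_normalizer' C Y (hYE.trans hEC)).trans hCN3'
  have hXdecY : X ≤ ⁅X, Y⁆ ⊔ (X ⊓ C) := by
    intro x hx
    have h2 : x ∈ N3 := (sup_le hKY hCN3') (hA2' (Subgroup.mem_sup_left hx))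
    rw [hN3] at h2
    obtain ⟨a, ha, c, hc, rfl⟩ := exists_mul_of_mem_sup_normalizer ((hle.trans hXE).trans hEC) h2
    refine Subgroup.mul_mem _ (Subgroup.mem_sup_left ha) (Subgroup.mem_sup_right ⟨?_, hc⟩)
    have e : c = a⁻¹ * (a * c) := by group
    rw [e]; exact X.mul_mem (X.inv_mem (hle ha)) hx
  obtain ⟨N4, hN4⟩ : ∃ N4, N4 = ⁅X, Y⁆ ⊔ (X ⊓ OC) := ⟨_, rfl⟩
  have hXN4 : X ≤ Subgroup.normalizer (N4 : Set G) := by
    rw [hN4]
    exact le_trans (le_inf (Helper56.le_normalizer_commutator_left X Y)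
      (le_trans (le_inf Subgroup.le_normalizer (hXE.trans hEOC)) (Helper56.normalizer_inf_le _ _)))
      (Helper56.normalizer_inf_le_sup _ _)
  have hXX4 : ⁅X, X⁆ ≤ N4 := by
    refine (Subgroup.commutator_mono le_rfl hXdecY).trans ?_
    apply commutator_sup_le (hle.trans hXN4) (inf_le_left.trans hXN4)
    · rw [hN4]
      exact (Helper56.commutator_le_of_le_normalizer' ⁅X, Y⁆ X
        (Helper56.le_normalizer_commutator_left X Y)).trans le_sup_left
    · rw [hN4, Subgroup.commutator_comm]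
      refine le_trans ?_ le_sup_right
      rw [Subgroup.commutator_le]
      intro c hc y hy
      exact h4 c hc y hy
  have h8 : X ≤ N4 := hperf.symm.le.trans hXX4
  have h9 : (Cfsg.pResidual p ↥X).map X.subtype ≤ ⁅X, Y⁆ :=
    Helper56.opOf_le_of_le_sup ⁅X, Y⁆ (X ⊓ OC) X (hOCp.to_le inf_le_right)
      (inf_le_left.trans (Helper56.le_normalizer_commutator_left X Y)) (by rw [← hN4]; exact h8)
  rw [h7] at h9
  exact h9

/-! ### quotient plumbing -/

theorem pullback_commutator_le (E : Subgroup G) (C' : Subgroup ↥E) [C'.Normal] (K' Y' : Subgroup ↥E)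
    (hCK : C' ≤ K')
    (h : ⁅K'.map (QuotientGroup.mk' C'), Y'.map (QuotientGroup.mk' C')⁆ =
      K'.map (QuotientGroup.mk' C')) :
    K'.map E.subtype ≤ ⁅K'.map E.subtype, Y'.map E.subtype⁆ ⊔ C'.map E.subtype := by
  rw [← Subgroup.map_commutator] at h
  have h2 := congrArg (Subgroup.comap (QuotientGroup.mk' C')) h
  rw [Subgroup.comap_map_eq, Subgroup.comap_map_eq, QuotientGroup.ker_mk', sup_of_le_left hCK] at h2
  rw [← Subgroup.map_commutator, ← Subgroup.map_sup, h2]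

theorem weakClosure_qs_structure [Finite G] [Fact p.Prime] (Q : Subgroup G) (hQp : IsPGroup p ↥Q)
    (hQ : Cfsg.IsLarge Q) (U : Subgroup G) (hU : Cfsg.IsElementaryAbelian p U) (hU1 : U ≠ ⊥)
    (E : Subgroup G) (hQE : Q ≤ E) (hEU : E ≤ Subgroup.normalizer (U : Set G))
    (hQn : ¬ E ≤ Subgroup.normalizer (Q : Set G))
    [hn : ((Subgroup.centralizer (U : Set G)).subgroupOf E).Normal]
    (hred : Cfsg.pCore p (↥E ⧸ (Subgroup.centralizer (U : Set G)).subgroupOf E) = ⊥)
    (hqs : Cfsg.IsQuasisimple ↥(((Cfsg.pResidual p ↥E) ⊔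
      (Subgroup.centralizer (U : Set G)).subgroupOf E).map
      (QuotientGroup.mk' ((Subgroup.centralizer (U : Set G)).subgroupOf E))))
    (Er : Subgroup G)
    (hEr : Er = ((Cfsg.pResidual p ↥(Cfsg.weakClosure Q E)).map ((Cfsg.weakClosure Q E)).subtype))
    [hn2 : ((Subgroup.centralizer (U : Set G)).subgroupOf Er).Normal] :
    ((Cfsg.pResidual p ↥E).map (E).subtype) ⊔ (E ⊓ Subgroup.centralizer (U : Set G)) =
        Er ⊔ (E ⊓ Subgroup.centralizer (U : Set G)) ∧
      ⁅Er, Er⁆ = Er ∧ ((Cfsg.pResidual p ↥Er).map (Er).subtype) = Er ∧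
      Cfsg.IsQuasisimple (↥Er ⧸ (Subgroup.centralizer (U : Set G)).subgroupOf Er) ∧
      Cfsg.IsQuasisimple (↥Er ⧸ Cfsg.pCore p ↥Er) ∧
      ∀ Y : Subgroup G, Y ≤ E → IsPGroup p ↥Y → ¬ Y ≤ Subgroup.centralizer (U : Set G) →
        ⁅Er, Y⁆ = Er := by
  have hUp : IsPGroup p U := Helper56.elemAb_isPGroup U hU
  have hK'n : ((Cfsg.pResidual p ↥E) ⊔ (Subgroup.centralizer (U : Set G)).subgroupOf E).Normal := by
    haveI := pResidual_normal (G := ↥E) (p := p)
    infer_instance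
  have hKn : (((Cfsg.pResidual p ↥E) ⊔ (Subgroup.centralizer (U : Set G)).subgroupOf E).map
      (QuotientGroup.mk' ((Subgroup.centralizer (U : Set G)).subgroupOf E))).Normal :=
    hK'n.map _ (QuotientGroup.mk'_surjective _)
  have hKpow : ∀ γ : ↥E ⧸ (Subgroup.centralizer (U : Set G)).subgroupOf E, ∃ k : ℕ, γ ^ p ^ k ∈
      (((Cfsg.pResidual p ↥E) ⊔ (Subgroup.centralizer (U : Set G)).subgroupOf E).map
      (QuotientGroup.mk' ((Subgroup.centralizer (U : Set G)).subgroupOf E))) := by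
    intro γ
    obtain ⟨e, rfl⟩ := QuotientGroup.mk'_surjective _ γ
    obtain ⟨k, hk⟩ := exists_pow_mem_pResidual (p := p) e
    refine ⟨k, ?_⟩
    rw [← map_pow]
    exact Subgroup.mem_map_of_mem _ (Subgroup.mem_sup_left hk)
  have hmapC : ((Subgroup.centralizer (U : Set G)).subgroupOf E).map E.subtype =
      E ⊓ Subgroup.centralizer (U : Set G) := by
    rw [Subgroup.subgroupOf_map_subtype, inf_comm]
  have hmapK : (((Cfsg.pResidual p ↥E) ⊔ (Subgroup.centralizer (U : Set G)).subgroupOf E)).map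
      E.subtype = (Cfsg.pResidual p ↥E).map E.subtype ⊔ (E ⊓ Subgroup.centralizer (U : Set G)) := by
    rw [Subgroup.map_sup, hmapC]
  have hA2 : ∀ Y : Subgroup G, Y ≤ E → IsPGroup p Y → ¬ Y ≤ Subgroup.centralizer (U : Set G) →
      (Cfsg.pResidual p ↥E).map E.subtype ⊔ (E ⊓ Subgroup.centralizer (U : Set G)) ≤
        ⁅(Cfsg.pResidual p ↥E).map E.subtype ⊔ (E ⊓ Subgroup.centralizer (U : Set G)), Y⁆ ⊔
          (E ⊓ Subgroup.centralizer (U : Set G)) := by
    intro Y hYE hYp hYU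
    have hYbp : IsPGroup p ↥((Y.subgroupOf E).map
        (QuotientGroup.mk' ((Subgroup.centralizer (U : Set G)).subgroupOf E))) :=
      (hYp.comap_subtype).map _
    have hYb1 : (Y.subgroupOf E).map
        (QuotientGroup.mk' ((Subgroup.centralizer (U : Set G)).subgroupOf E)) ≠ ⊥ := by
      intro hbot
      apply hYU
      rw [Subgroup.map_eq_bot_iff, QuotientGroup.ker_mk'] at hbot
      intro y hy
      have h5 := hbot (Subgroup.mem_subgroupOf.mpr (show ((⟨y, hYE hy⟩ : ↥E) : G) ∈ Y from hy))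
      exact Subgroup.mem_subgroupOf.mp h5
    have hcomm := qs_commutator_pgroup_eq hred _ hKn hKpow hqs _ hYbp hYb1
    have hpb := pullback_commutator_le E _ _ (Y.subgroupOf E) le_sup_right hcomm
    rw [hmapK, hmapC, Subgroup.subgroupOf_map_subtype, inf_of_le_left hYE] at hpb
    exact hpb
  have hA3 : (Cfsg.pResidual p ↥E).map E.subtype ⊔ (E ⊓ Subgroup.centralizer (U : Set G)) ≤
      ⁅(Cfsg.pResidual p ↥E).map E.subtype ⊔ (E ⊓ Subgroup.centralizer (U : Set G)),
        (Cfsg.pResidual p ↥E).map E.subtype ⊔ (E ⊓ Subgroup.centralizer (U : Set G))⁆ ⊔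
          (E ⊓ Subgroup.centralizer (U : Set G)) := by
    have hcomm := qs_perfect hqs
    have hpb := pullback_commutator_le E _ _ _ le_sup_right hcomm
    rw [hmapK, hmapC] at hpb
    exact hpb
  obtain ⟨h1, h2, h6, h4⟩ := weakClosure_qs_ambient Q U E hQp hQ hUp hU1 hQE hEU hQn _ _ _ Er
    rfl rfl rfl hEr hA2 hA3
  have hEC : E ≤ Subgroup.normalizer ((E ⊓ Subgroup.centralizer (U : Set G) : Subgroup G) : Set G) :=
    le_trans (le_inf Subgroup.le_normalizer
      (hEU.trans (Helper56.normalizer_le_normalizer_centralizer U))) (Helper56.normalizer_inf_le _ _)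
  have hErE : Er ≤ E := by
    rw [hEr]; exact (Subgroup.map_subtype_le _).trans (Helper56.weakClosure_le Q E)
  have hErRE : Er ≤ (Cfsg.pResidual p ↥E).map E.subtype := by
    rw [hEr]; exact map_subtype_pResidual_mono (Helper56.weakClosure_le Q E)
  have hEEr : E ≤ Subgroup.normalizer (Er : Set G) := by
    rw [hEr]
    exact (Helper56.le_normalizer_weakClosure Q E).trans (Helper56.normalizer_le_normalizer_opOf p _)
  have h3 : (Cfsg.pResidual p ↥Er).map Er.subtype = Er := by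
    rw [hEr]; exact Helper56.opOf_opOf p _
  -- the map φ
  have h₀ : ∀ x : ↥Er, ((QuotientGroup.mk' ((Subgroup.centralizer (U : Set G)).subgroupOf E)).comp
      (Subgroup.inclusion hErE)) x ∈ (((Cfsg.pResidual p ↥E) ⊔
      (Subgroup.centralizer (U : Set G)).subgroupOf E).map
      (QuotientGroup.mk' ((Subgroup.centralizer (U : Set G)).subgroupOf E))) := by
    intro x
    obtain ⟨r, hr, hrx⟩ := hErRE x.2
    have h5 : Subgroup.inclusion hErE x = r := Subtype.ext hrx.symm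
    rw [MonoidHom.comp_apply, h5]
    exact Subgroup.mem_map_of_mem _ (Subgroup.mem_sup_left hr)
  obtain ⟨φ, hφ⟩ : ∃ φ : ↥Er →* ↥(((Cfsg.pResidual p ↥E) ⊔
      (Subgroup.centralizer (U : Set G)).subgroupOf E).map
      (QuotientGroup.mk' ((Subgroup.centralizer (U : Set G)).subgroupOf E))),
      ∀ x, ((φ x : ↥(((Cfsg.pResidual p ↥E) ⊔
      (Subgroup.centralizer (U : Set G)).subgroupOf E).map
      (QuotientGroup.mk' ((Subgroup.centralizer (U : Set G)).subgroupOf E)))) :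
        ↥E ⧸ (Subgroup.centralizer (U : Set G)).subgroupOf E) =
        QuotientGroup.mk' ((Subgroup.centralizer (U : Set G)).subgroupOf E)
          (Subgroup.inclusion hErE x) :=
    ⟨MonoidHom.codRestrict _ _ h₀, fun x => rfl⟩
  have hφker : ∀ x : ↥Er, φ x = 1 ↔ (x : G) ∈ Subgroup.centralizer (U : Set G) := by
    intro x
    rw [Subtype.ext_iff, hφ, Subgroup.coe_one, QuotientGroup.mk'_apply, QuotientGroup.eq_one_iff,
      Subgroup.mem_subgroupOf]
    rfl
  have hφsurj : Function.Surjective φ := by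
    rintro ⟨κ, hκ⟩
    obtain ⟨e, he, rfl⟩ := hκ
    have heG : (e : G) ∈ Er ⊔ (E ⊓ Subgroup.centralizer (U : Set G)) := by
      rw [← h1, ← hmapK]
      exact Subgroup.mem_map_of_mem _ he
    obtain ⟨x, hx, c, hc, hxc⟩ := exists_mul_of_mem_sup_normalizer (hErE.trans hEC) heG
    refine ⟨⟨x, hx⟩, ?_⟩
    apply Subtype.ext
    rw [hφ]
    show QuotientGroup.mk' _ _ = QuotientGroup.mk' _ e
    rw [QuotientGroup.mk'_apply, QuotientGroup.mk'_apply, QuotientGroup.eq, Subgroup.mem_subgroupOf]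
    have h5 : (((Subgroup.inclusion hErE ⟨x, hx⟩)⁻¹ * e : ↥E) : G) = c := by
      rw [Subgroup.coe_mul, ← hxc]
      simp
    rw [h5]; exact hc.2
  have hker4 : φ.ker = (Subgroup.centralizer (U : Set G)).subgroupOf Er := by
    ext x
    rw [MonoidHom.mem_ker, hφker, Subgroup.mem_subgroupOf]
  have hq4 : Cfsg.IsQuasisimple (↥Er ⧸ (Subgroup.centralizer (U : Set G)).subgroupOf Er) :=
    Helper30.isQuasisimple_of_mulEquiv
      ((QuotientGroup.quotientKerEquivOfSurjective φ hφsurj).symm.trans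
        (QuotientGroup.quotientMulEquivOfEq hker4)) hqs
  -- the quotient by `O_p`
  haveI hperfI : Group.IsPerfect ↥Er := Subgroup.isPerfect_iff.mpr h2
  have hmemO : ∀ z : ↥Er, z ∈ Cfsg.pCore p ↥Er ↔ (z : G) ∈ Cfsg.pCoreOf p Er := by
    intro z
    exact (Subgroup.mem_map_iff_mem Er.subtype_injective).symm
  have hOU : Cfsg.pCoreOf p Er ≤ Subgroup.centralizer (U : Set G) := by
    have hD := (pCore_quotient_eq_bot_iff ((Subgroup.centralizer (U : Set G)).subgroupOf E)).mp hred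
      ((Cfsg.pCoreOf p Er).subgroupOf E)
      ((Subgroup.normal_subgroupOf_iff_le_normalizer ((pCoreOf_le Er).trans hErE)).mpr
        (hEEr.trans (normalizer_le_normalizer_pCoreOf Er)))
      (by
        intro d hd
        obtain ⟨k, hk⟩ := (pCoreOf_isPGroup (p := p) Er) ⟨(d : G), Subgroup.mem_subgroupOf.mp hd⟩
        refine ⟨k, ?_⟩
        have h5 : d ^ p ^ k = 1 := by
          apply Subtype.ext
          have h6 := congrArg Subtype.val hk
          simpa using h6
        rw [h5]; exact Subgroup.one_mem _)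
    intro z hz
    have h5 := hD (Subgroup.mem_subgroupOf.mpr
      (show ((⟨z, hErE (pCoreOf_le Er hz)⟩ : ↥E) : G) ∈ Cfsg.pCoreOf p Er from hz))
    exact Subgroup.mem_subgroupOf.mp h5
  have hOker : Cfsg.pCore p ↥Er ≤ φ.ker := by
    intro z hz
    rw [MonoidHom.mem_ker, hφker]
    exact hOU ((hmemO z).mp hz)
  have hfsurj : Function.Surjective (QuotientGroup.lift (Cfsg.pCore p ↥Er) φ hOker) := by
    intro κ
    obtain ⟨x, rfl⟩ := hφsurj κ
    exact ⟨QuotientGroup.mk x, QuotientGroup.lift_mk _ _ x⟩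
  have hfker : (QuotientGroup.lift (Cfsg.pCore p ↥Er) φ hOker).ker ≤
      Subgroup.center (↥Er ⧸ Cfsg.pCore p ↥Er) := by
    intro ζ hζ
    obtain ⟨x, rfl⟩ := QuotientGroup.mk_surjective ζ
    rw [MonoidHom.mem_ker, QuotientGroup.lift_mk, hφker] at hζ
    rw [Subgroup.mem_center_iff]
    intro η
    obtain ⟨y, rfl⟩ := QuotientGroup.mk_surjective η
    rw [← QuotientGroup.mk_mul, ← QuotientGroup.mk_mul, QuotientGroup.eq, hmemO]
    have hx' : (x : G)⁻¹ ∈ Er ⊓ (E ⊓ Subgroup.centralizer (U : Set G)) :=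
      Subgroup.inv_mem _ (Subgroup.mem_inf.mpr ⟨x.2, Subgroup.mem_inf.mpr ⟨hErE x.2, hζ⟩⟩)
    have h5 := h4 _ hx' (y : G)⁻¹ (Er.inv_mem y.2)
    simpa [mul_assoc] using h5
  have hq5 : Cfsg.IsQuasisimple (↥Er ⧸ Cfsg.pCore p ↥Er) :=
    isQuasisimple_of_central_ext _ hfsurj hfker hqs
  exact ⟨h1, h2, h3, hq4, hq5, h6⟩

end Cfsg.Agent.Lib.Helper55
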