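import Cfsg.Agent.Lib.Helper55.SE
import Cfsg.Agent.Lib.Helper30.Basic

set_option autoImplicit false
open Cfsg
open scoped commutatorElement

namespace Cfsg.Agent.Lib.Helper55

open Cfsg.Agent.Lib.Helper30

universe u

variable {G : Type u} [Group G] {p : ℕ}

/-- For a normal quasisimple subgroup `K` and any subgroup `X`: `[K, X] = K` or `X` centralizes `K`. -/
theorem qs_commutator_eq_or_le_centralizer {K : Subgroup G} (hK : K.Normal)
    (hq : IsQuasisimple ↥K) (X : Subgroup G) :
    ⁅K, X⁆ = K ∨ X ≤ Subgroup.centralizer (K : Set G) := by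
  have hKcomp : IsComponent K := ⟨hK.isSubnormal, hq⟩
  have hle : ⁅K, X⁆ ≤ K := Subgroup.commutator_le_left K X
  have hn : (⁅K, X⁆.subgroupOf K).Normal :=
    Subgroup.normal_subgroupOf_of_le_normalizer (Subgroup.normalizer_commutator_ge_left K X)
  rcases qs_normal_eq_top_or_le_center hq (⁅K, X⁆.subgroupOf K) with h | h
  · left
    exact le_antisymm hle (Subgroup.subgroupOf_eq_top.mp h)
  · right
    have h1 : ⁅⁅K, X⁆, K⁆ = ⊥ := by
      rw [Subgroup.commutator_eq_bot_iff_le_centralizer]
      intro n hn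
      rw [Subgroup.mem_centralizer_iff]
      intro k hk
      have h2 : (⟨n, hle hn⟩ : K) ∈ Subgroup.center K := h (Subgroup.mem_subgroupOf.mpr hn)
      have h3 := (Subgroup.mem_center_iff.mp h2) ⟨k, hk⟩
      exact congrArg Subtype.val h3
    have h2 : ⁅⁅X, K⁆, K⁆ = ⊥ := by rw [Subgroup.commutator_comm X K]; exact h1
    have h3 : ⁅⁅K, K⁆, X⁆ = ⊥ := Subgroup.commutator_commutator_eq_bot_of_rotate h1 h2
    rw [comp_perfect hKcomp, Subgroup.commutator_comm] at h3
    exact Subgroup.commutator_eq_bot_iff_le_centralizer.mp h3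

/-- If `O_p(G) = 1` and `K = O^p(G)` is quasisimple then `C_G(K)` has order prime to `p` and lies
in `K`. -/
theorem centralizer_pResidual_qs [Finite G] [Fact p.Prime] (hO : Cfsg.pCore p G = ⊥) :
    ¬ p ∣ Nat.card ↥(Subgroup.centralizer (Cfsg.pResidual p G : Set G)) ∧
      Subgroup.centralizer (Cfsg.pResidual p G : Set G) ≤ Cfsg.pResidual p G := by
  have hKn : (Cfsg.pResidual p G).Normal := pResidual_normal
  set K := Cfsg.pResidual p G with hK
  set C := Subgroup.centralizer (K : Set G) with hC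
  have hCn : C.Normal := Subgroup.normal_centralizer
  obtain ⟨P, hP⟩ := exists_sylIn (p := p) C
  have hZn : C ≤ Subgroup.normalizer ((K ⊓ C : Subgroup G) : Set G) := by
    have : (K ⊓ C).Normal := inferInstance
    rw [Subgroup.normalizer_eq_top]; exact le_top
  have hpow : ∀ d ∈ C, ∃ k : ℕ, d ^ p ^ k ∈ K ⊓ C := by
    intro d hd
    obtain ⟨k, hk⟩ := exists_pow_mem_pResidual (p := p) d
    exact ⟨k, hk, C.pow_mem hd _⟩
  have h1 := hP.exists_mul_of_pow (R := K ⊓ C) inf_le_right hZn hpow
  have hCP : C ≤ Subgroup.normalizer (P : Set G) := by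
    intro c hc
    obtain ⟨r, hr, hrc⟩ := h1 c hc
    have hr' : r ∈ Subgroup.normalizer (P : Set G) := by
      apply Subgroup.centralizer_le_normalizer
      rw [Subgroup.mem_centralizer_iff]
      intro x hx
      exact ((Subgroup.mem_centralizer_iff.mp (hP.le hx)) r hr.1).symm
    have h2 := (Subgroup.normalizer (P : Set G)).mul_mem hr' (Subgroup.le_normalizer hrc)
    rwa [mul_inv_cancel_left] at h2
  have hc : PClos p C := hP.pClos hCP
  have e : P = hc.elts := by
    apply le_antisymm
    · exact fun x hx => ⟨hP.le hx, pel_of_mem hP.isPGroup hx⟩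
    · exact hP.le_of_le (fun x hx => ⟨hP.le hx, pel_of_mem hP.isPGroup hx⟩) hc.elts_le
        hc.elts_isPGroup
  have hPn : P.Normal := by
    rw [← Subgroup.normalizer_eq_top_iff, e, eq_top_iff]
    exact hc.le_normalizer_elts (L := ⊤) (by rw [Subgroup.normalizer_eq_top])
  have hPbot : P = ⊥ := by
    have h2 := le_pCore hPn hP.isPGroup
    rw [hO] at h2
    exact le_bot_iff.mp h2
  refine ⟨?_, ?_⟩
  · have h2 := hP.2.2
    rwa [hPbot, Subgroup.relIndex_bot_left] at h2
  · intro c hc'
    obtain ⟨r, hr, hrc⟩ := h1 c hc'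
    rw [hPbot, Subgroup.mem_bot] at hrc
    have h2 : c = r := by
      have h3 := congrArg (fun t => r * t) hrc
      simpa using h3
    rw [h2]
    exact hr.1

end Cfsg.Agent.Lib.Helper55
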