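import Cfsg.Agent.Lib.Helper55.SchDefs

/-! Project SCH (S4395), piece SCH-BoundA.  Filled in by helper95 (statement unchanged). -/

set_option autoImplicit false
universe u v

namespace Cfsg.Agent.Lib.Helper55.SCH

/-- Under the minimality hypothesis, `ker ρ ≤ [W, W]`.
Proof: let `D = commutator W` (characteristic, so `τ D = D`), `A = W ⧸ D` (abelian),
`δ : A → A`, `δ (v D) = v⁻¹ * τ v D` (a homomorphism since `A` is abelian).  The preimage `I` in `W`
of `δ.range` is a `τ`-stable subgroup, and `ρ (v⁻¹ * τ v) = (ζ - 1) * ρ v` (additively), which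
covers `F` because `ζ ≠ 1` (`orderOf ζ = q` prime) and `ρ` is onto.  By `hmin`, `I = ⊤`, so `δ` is
surjective, hence injective (`A` finite).  For `ρ k = 1`: `τ k = k`, so `δ (k D) = 1`, so `k ∈ D`. -/
theorem ker_le_commutator {p q a : ℕ} {F : Type} [Field F] {ζ : F} (H : Hyp p q a F ζ)
    {W : Type*} [Group W] [Finite W] (ρ : W →* Multiplicative F) (τ : MulAut W)
    (hsurj : Function.Surjective ρ)
    (hτ : ∀ w, ρ (τ w) = Multiplicative.ofAdd (ζ * Multiplicative.toAdd (ρ w)))
    (hfix : ∀ k, ρ k = 1 → τ k = k)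
    (hmin : ∀ S : Subgroup W, (∀ s ∈ S, τ s ∈ S) → (∀ x, ∃ s ∈ S, ρ s = x) → S = ⊤) :
    ∀ k, ρ k = 1 → k ∈ _root_.commutator W := by
  classical
  intro k hk
  let φ : W →* Abelianization W :=
    (Abelianization.of)⁻¹ * (Abelianization.of).comp τ.toMonoidHom
  have hφ : ∀ v, φ v = (Abelianization.of v)⁻¹ * Abelianization.of (τ v) := fun v => rfl
  let δ : Abelianization W →* Abelianization W := Abelianization.lift φ
  have hδ : ∀ v, δ (Abelianization.of v) = φ v := fun v => Abelianization.lift_apply_of φ v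
  have hζ : ζ ≠ 1 := by
    intro h
    have h1 := H.ord
    rw [h, orderOf_one] at h1
    exact H.hq.one_lt.ne h1
  have hz1 : ζ - 1 ≠ 0 := sub_ne_zero.mpr hζ
  let I : Subgroup W := δ.range.comap Abelianization.of
  have hI : I = ⊤ := by
    apply hmin
    · intro s hs
      obtain ⟨a, ha⟩ := hs
      refine ⟨a * Abelianization.of s, ?_⟩
      rw [map_mul, ha, hδ, hφ]
      exact mul_inv_cancel_left _ _
    · intro x
      obtain ⟨v, hv⟩ := hsurj (Multiplicative.ofAdd (Multiplicative.toAdd x / (ζ - 1)))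
      refine ⟨v⁻¹ * τ v, ?_, ?_⟩
      · exact ⟨Abelianization.of v, by rw [hδ, hφ, map_mul, map_inv]⟩
      · have key : -(Multiplicative.toAdd x / (ζ - 1)) + ζ * (Multiplicative.toAdd x / (ζ - 1))
            = Multiplicative.toAdd x := by
          field_simp
          ring
        rw [map_mul, map_inv, hτ, hv, toAdd_ofAdd, ← ofAdd_neg, ← ofAdd_add, key, ofAdd_toAdd]
  have hsurjδ : Function.Surjective δ := by
    intro a
    obtain ⟨w, rfl⟩ := QuotientGroup.mk_surjective a
    have hw : w ∈ I := by rw [hI]; exact Subgroup.mem_top w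
    exact hw
  have hinj : Function.Injective δ := Finite.injective_iff_surjective.mpr hsurjδ
  have h1 : δ (Abelianization.of k) = δ 1 := by
    rw [hδ, hφ, hfix k hk, map_one]
    exact inv_mul_cancel _
  have h2 : Abelianization.of k = 1 := hinj h1
  have h3 : k ∈ (Abelianization.of (G := W)).ker := MonoidHom.mem_ker.mpr h2
  rwa [Abelianization.ker_of] at h3

end Cfsg.Agent.Lib.Helper55.SCH
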