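import Cfsg.Agent.Lib.Helper55.SchDefs

/-! Project SCH (S4395), piece SCH-FldA (proved by helper92): the powers of `ζ` generate `F`
additively (`gen_pow`); additive subgroups stable under `ζ ^ i` are `⊥` or `⊤` (`inv_sub`). -/

set_option autoImplicit false
universe u v

namespace Cfsg.Agent.Lib.Helper55.SCH

/-- an additive subgroup of `F` stable under multiplication by `ζ` has `≡ 1` elements mod `q` -/
theorem schflda_card {p q a : ℕ} {F : Type} [Field F] {ζ : F} (H : Hyp p q a F ζ)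
    (B : AddSubgroup F) (hstab : ∀ b ∈ B, ζ * b ∈ B) : Nat.card ↥B ≡ 1 [MOD q] := by
  classical
  have := H.fin
  have : Fact q.Prime := ⟨H.hq⟩
  have : Fintype ↥B := Fintype.ofFinite _
  have hζq : ζ ^ q = 1 := by
    rw [← H.ord]
    exact pow_orderOf_eq_one ζ
  have hζ1 : ζ ≠ 1 := by
    intro h
    have h1 := H.ord
    rw [h, orderOf_one] at h1
    exact H.hq.one_lt.ne h1
  obtain ⟨f, hf⟩ : ∃ f : Function.End ↥B, ∀ b : ↥B, ((f b : ↥B) : F) = ζ * (b : F) :=
    ⟨fun b => ⟨ζ * (b : F), hstab b b.2⟩, fun b => rfl⟩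
  have hfpow : ∀ (k : ℕ) (b : ↥B), (((f ^ k) b : ↥B) : F) = ζ ^ k * (b : F) := by
    intro k
    induction k with
    | zero =>
      intro b
      rw [pow_zero, pow_zero, one_mul]
      rfl
    | succ k ih =>
      intro b
      have h1 : (f ^ (k + 1)) b = f ((f ^ k) b) := by
        rw [pow_succ']
        rfl
      rw [h1, hf, ih, pow_succ', mul_assoc]
  have hfq : f ^ q ^ 1 = 1 := by
    funext b
    apply Subtype.ext
    rw [pow_one, hfpow, hζq, one_mul]
    rfl
  have hmod := Equiv.Perm.card_fixedPoints_modEq (f := f) (p := q) (n := 1) hfq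
  have hfix : Nat.card ↥(Function.fixedPoints f) = 1 := by
    rw [Nat.card_eq_fintype_card, Fintype.card_eq_one_iff]
    refine ⟨⟨0, ?_⟩, ?_⟩
    · show f 0 = 0
      apply Subtype.ext
      rw [hf]
      simp
    · rintro ⟨b, hb⟩
      apply Subtype.ext
      apply Subtype.ext
      have h1 : f b = b := hb
      have h2 : ζ * (b : F) = (b : F) := by rw [← hf, h1]
      have h3 : (ζ - 1) * (b : F) = 0 := by rw [sub_mul, h2, one_mul, sub_self]
      rcases mul_eq_zero.mp h3 with h4 | h4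
      · exact absurd (sub_eq_zero.mp h4) hζ1
      · simpa using h4
  rw [Fintype.card_eq_nat_card, Fintype.card_eq_nat_card, hfix] at hmod
  exact hmod

/-- The powers of `ζ` generate `F` additively.
Proof: let `K` be the subring (= subfield, finite) generated by `ζ`; `|K| = p ^ d` (additive subgroup
of `F`, `|F| = p ^ a`), `ζ ^ (p ^ d - 1) = 1` so `q ∣ p ^ d - 1`, i.e. `(p : ZMod q) ^ d = 1`, so
`a ∣ d` (`H.ha`, `orderOf_dvd_of_pow_eq_one`), `d ≥ 1`, hence `d ≥ a`, `|K| ≥ |F|`, `K = ⊤`.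
`Subring.closure {ζ}` is the additive closure of the powers (`Subring.mem_closure_iff`,
`Submonoid.closure_singleton_eq`/`mem_powers_iff`). -/
theorem gen_pow {p q a : ℕ} {F : Type} [Field F] {ζ : F} (H : Hyp p q a F ζ) :
    AddSubgroup.closure (Set.range fun k : ℕ => ζ ^ k) = ⊤ := by
  classical
  have := H.fin
  obtain ⟨B, hB⟩ : ∃ B : AddSubgroup F,
      B = AddSubgroup.closure (Set.range fun k : ℕ => ζ ^ k) := ⟨_, rfl⟩
  rw [← hB]
  have hgen : ∀ k : ℕ, ζ ^ k ∈ B := fun k => hB ▸ AddSubgroup.subset_closure ⟨k, rfl⟩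
  have hstab : ∀ b ∈ B, ζ * b ∈ B := by
    intro b hb
    rw [hB] at hb ⊢
    refine AddSubgroup.closure_induction
      (p := fun x _ => ζ * x ∈ AddSubgroup.closure (Set.range fun k : ℕ => ζ ^ k))
      ?_ ?_ ?_ ?_ hb
    · rintro x ⟨k, rfl⟩
      exact AddSubgroup.subset_closure ⟨k + 1, pow_succ' ζ k⟩
    · rw [mul_zero]
      exact AddSubgroup.zero_mem _
    · intro x y _ _ hx hy
      rw [mul_add]
      exact AddSubgroup.add_mem _ hx hy
    · intro x _ hx
      rw [mul_neg]
      exact AddSubgroup.neg_mem _ hx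
  have hmod := schflda_card H B hstab
  obtain ⟨d, hda, hd⟩ : ∃ d ≤ a, Nat.card ↥B = p ^ d := by
    have h1 := AddSubgroup.card_addSubgroup_dvd_card B
    rw [H.card] at h1
    exact (Nat.dvd_prime_pow H.hp).mp h1
  have hd0 : d ≠ 0 := by
    intro h0
    rw [h0, pow_zero, AddSubgroup.card_eq_one] at hd
    have h1 : (1 : F) ∈ B := by
      have := hgen 0
      rwa [pow_zero] at this
    rw [hd, AddSubgroup.mem_bot] at h1
    exact one_ne_zero h1
  have hpd : (p : ZMod q) ^ d = 1 := by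
    rw [hd] at hmod
    have h1 := (ZMod.natCast_eq_natCast_iff (p ^ d) 1 q).mpr hmod
    push_cast at h1
    exact h1
  have had : a ∣ d := by
    rw [H.ha]
    exact orderOf_dvd_of_pow_eq_one hpd
  have hle : a ≤ d := Nat.le_of_dvd (Nat.pos_of_ne_zero hd0) had
  have hda' : d = a := le_antisymm hda hle
  rw [← AddSubgroup.card_eq_iff_eq_top, hd, hda', H.card]

/-- An additive subgroup of `F` stable under multiplication by `ζ ^ i` (`q ∤ i`) is `⊥` or `⊤`.
Proof: `ζ = (ζ ^ i) ^ k` for `k` with `i * k ≡ 1 [MOD q]` (`ζ ^ q = 1`), so `B` is stable under every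
`ζ ^ k`, hence (closure induction, `gen_pow`) under multiplication by every element of `F`;
if `b ∈ B`, `b ≠ 0` then `x = (x * b⁻¹) * b ∈ B` for all `x`. -/
theorem inv_sub {p q a : ℕ} {F : Type} [Field F] {ζ : F} (H : Hyp p q a F ζ) (i : ℕ) (hi : ¬ q ∣ i)
    (B : AddSubgroup F) (hB : ∀ b ∈ B, ζ ^ i * b ∈ B) : B = ⊥ ∨ B = ⊤ := by
  have hcop : Nat.Coprime i q := (Nat.Coprime.symm ((Nat.Prime.coprime_iff_not_dvd H.hq).mpr hi))
  obtain ⟨m, -, hm⟩ := Nat.exists_mul_mod_eq_one_of_coprime hcop H.hq.one_lt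
  have hζ : (ζ ^ i) ^ m = ζ := by
    rw [← pow_mul]
    have h1 := pow_mod_orderOf ζ (i * m)
    rw [H.ord, hm, pow_one] at h1
    exact h1.symm
  have hpowi : ∀ (k : ℕ), ∀ b ∈ B, (ζ ^ i) ^ k * b ∈ B := by
    intro k
    induction k with
    | zero =>
      intro b hb
      rwa [pow_zero, one_mul]
    | succ k ih =>
      intro b hb
      rw [pow_succ', mul_assoc]
      exact hB _ (ih b hb)
  have hstab : ∀ b ∈ B, ζ * b ∈ B := by
    intro b hb
    have := hpowi m b hb
    rwa [hζ] at this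
  have hpow : ∀ (k : ℕ), ∀ b ∈ B, ζ ^ k * b ∈ B := by
    intro k
    induction k with
    | zero =>
      intro b hb
      rwa [pow_zero, one_mul]
    | succ k ih =>
      intro b hb
      rw [pow_succ', mul_assoc]
      exact hstab _ (ih b hb)
  have hall : ∀ x : F, ∀ b ∈ B, x * b ∈ B := by
    intro x b hb
    have hx : x ∈ AddSubgroup.closure (Set.range fun k : ℕ => ζ ^ k) := by
      rw [gen_pow H]
      exact AddSubgroup.mem_top x
    refine AddSubgroup.closure_induction (p := fun x _ => x * b ∈ B) ?_ ?_ ?_ ?_ hx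
    · rintro x ⟨k, rfl⟩
      exact hpow k b hb
    · rw [zero_mul]
      exact B.zero_mem
    · intro x y _ _ hx hy
      rw [add_mul]
      exact B.add_mem hx hy
    · intro x _ hx
      rw [neg_mul]
      exact B.neg_mem hx
  by_cases hbot : B = ⊥
  · exact Or.inl hbot
  · right
    obtain ⟨b, hb, hb0⟩ : ∃ b ∈ B, b ≠ 0 := by
      by_contra hcon
      push Not at hcon
      exact hbot ((AddSubgroup.eq_bot_iff_forall B).mpr hcon)
    rw [eq_top_iff]
    intro x _
    have h1 := hall (x * b⁻¹) b hb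
    rwa [mul_assoc, inv_mul_cancel₀ hb0, mul_one] at h1

end Cfsg.Agent.Lib.Helper55.SCH
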