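import Cfsg.Agent.Lib.Helper55.SchDefs
import Cfsg.Agent.Lib.Helper55.SchFldA
/-! Project SCH (S4395), piece SCH-BoundB1 (filled in by helper20; statement, name and namespace
unchanged). -/

set_option autoImplicit false
universe u v

namespace Cfsg.Agent.Lib.Helper55.SCH

/-- Existence of the "commutator with a lift of 1" homomorphism.
Proof: pick `u₀` with `ρ u₀ = ofAdd 1`; `s' w := u₀ * w * u₀⁻¹ * w⁻¹`.  It lies in `ker ρ`
(target abelian), which is central (`hcen`), so `s'` is a homomorphism `W →* W`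
(`s' (w w') = s' w * s' w'` using centrality of `s' w'`).
(1) `s'` kills `ker ρ` (central) and `t_k := τ^k u₀ * τ⁻¹^k u₀` (`ρ t_k = ζ^k + ζ⁻¹^k`):
`s' (τ^k u₀) * s' (τ⁻¹^k u₀) = 1` because `τ^k [u₀, τ⁻¹^k u₀] = [τ^k u₀, u₀] = [u₀, τ^k u₀]⁻¹` and `τ`
fixes `ker ρ ∋ [u₀, τ⁻¹^k u₀]`.  If `toAdd (ρ w) ∈ Fp ζ` then (closure induction) `w = w' * k` with
`w' ∈ closure {t_k}`, `ρ k = 1`, so `s' w = 1`.
(2) every commutator `[w, w']` is in `s'.range`: by `gen_pow` every `w` is `w₁ * k` with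
`w₁ ∈ closure {τ^i u₀}`, `ρ k = 1`; the commutator map is bimultiplicative (values central), and
`[τ^i u₀, τ^j u₀] = τ^i [u₀, τ^(j-i) u₀] = s' (τ^(j-i) u₀)` for `i ≤ j` (inverse for `j < i`).
Hence `commutator W ≤ s'.range`, and `hker` gives the last claim. -/
theorem exists_comm_hom {p q a : ℕ} {F : Type} [Field F] {ζ : F} (H : Hyp p q a F ζ)
    {W : Type*} [Group W] [Finite W] (ρ : W →* Multiplicative F) (τ : MulAut W)
    (hsurj : Function.Surjective ρ)
    (hτ : ∀ w, ρ (τ w) = Multiplicative.ofAdd (ζ * Multiplicative.toAdd (ρ w)))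
    (hcen : ∀ k, ρ k = 1 → ∀ w, w * k = k * w) (hfix : ∀ k, ρ k = 1 → τ k = k)
    (hker : ∀ k, ρ k = 1 → k ∈ _root_.commutator W) :
    ∃ s' : W →* W, (∀ w, Multiplicative.toAdd (ρ w) ∈ Fp ζ → s' w = 1) ∧
      (∀ k, ρ k = 1 → ∃ w, s' w = k) := by
  -- commutators are in `ker ρ`, hence central
  have hρc : ∀ x y : W, ρ (x * y * x⁻¹ * y⁻¹) = 1 := by
    intro x y
    rw [map_mul, map_mul, map_mul, map_inv, map_inv, mul_comm (ρ x) (ρ y),
      mul_inv_cancel_right, mul_inv_cancel]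
  have hcc : ∀ x y w : W, w * (x * y * x⁻¹ * y⁻¹) = (x * y * x⁻¹ * y⁻¹) * w :=
    fun x y w => hcen _ (hρc x y) w
  -- bimultiplicativity
  have hmulR : ∀ x y y' : W, x * (y * y') * x⁻¹ * (y * y')⁻¹ =
      (x * y * x⁻¹ * y⁻¹) * (x * y' * x⁻¹ * y'⁻¹) := by
    intro x y y'
    calc x * (y * y') * x⁻¹ * (y * y')⁻¹
        = x * y * x⁻¹ * ((x * y' * x⁻¹ * y'⁻¹) * y⁻¹) := by group
      _ = x * y * x⁻¹ * (y⁻¹ * (x * y' * x⁻¹ * y'⁻¹)) := by rw [hcc x y' y⁻¹]
      _ = (x * y * x⁻¹ * y⁻¹) * (x * y' * x⁻¹ * y'⁻¹) := by group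
  have hmulL : ∀ y x x' : W, (x * x') * y * (x * x')⁻¹ * y⁻¹ =
      (x * y * x⁻¹ * y⁻¹) * (x' * y * x'⁻¹ * y⁻¹) := by
    intro y x x'
    calc (x * x') * y * (x * x')⁻¹ * y⁻¹
        = x * (x' * y * x'⁻¹ * y⁻¹) * (y * x⁻¹ * y⁻¹) := by group
      _ = (x' * y * x'⁻¹ * y⁻¹) * x * (y * x⁻¹ * y⁻¹) := by rw [hcc x' y x]
      _ = (x' * y * x'⁻¹ * y⁻¹) * (x * y * x⁻¹ * y⁻¹) := by group
      _ = (x * y * x⁻¹ * y⁻¹) * (x' * y * x'⁻¹ * y⁻¹) := (hcc x' y _).symm
  -- invariance under automorphisms fixing `ker ρ`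
  have hinv : ∀ σ : MulAut W, (∀ k, ρ k = 1 → σ k = k) → ∀ a b : W,
      σ a * σ b * (σ a)⁻¹ * (σ b)⁻¹ = a * b * a⁻¹ * b⁻¹ := by
    intro σ hσ a b
    rw [← map_inv, ← map_inv, ← map_mul, ← map_mul, ← map_mul]
    exact hσ _ (hρc a b)
  have hfixk : ∀ (i : ℕ) (k : W), ρ k = 1 → (τ ^ i) k = k := by
    intro i
    induction i with
    | zero => intro k _; rw [pow_zero]; rfl
    | succ i ih =>
      intro k hk
      rw [pow_succ, MulAut.mul_apply, hfix k hk, ih k hk]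
  have hρpow : ∀ (i : ℕ) (w : W),
      ρ ((τ ^ i) w) = Multiplicative.ofAdd (ζ ^ i * Multiplicative.toAdd (ρ w)) := by
    intro i
    induction i with
    | zero => intro w; rw [pow_zero, pow_zero, one_mul, ofAdd_toAdd]; rfl
    | succ i ih =>
      intro w
      rw [pow_succ, MulAut.mul_apply, ih (τ w), hτ w, toAdd_ofAdd, pow_succ, mul_assoc]
  -- lifting generators of an additive closure
  have himg : ∀ D : Subgroup W, (∀ k, ρ k = 1 → k ∈ D) → ∀ S : Set F,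
      (∀ x ∈ S, ∃ d ∈ D, Multiplicative.toAdd (ρ d) = x) →
      ∀ w, Multiplicative.toAdd (ρ w) ∈ AddSubgroup.closure S → w ∈ D := by
    intro D hD S hS w hw
    let B : AddSubgroup F :=
      { carrier := {x | ∃ d ∈ D, Multiplicative.toAdd (ρ d) = x}
        zero_mem' := ⟨1, D.one_mem, by rw [map_one]; rfl⟩
        add_mem' := by
          rintro _ _ ⟨d, hd, rfl⟩ ⟨d', hd', rfl⟩
          exact ⟨d * d', D.mul_mem hd hd', by rw [map_mul]; rfl⟩
        neg_mem' := by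
          rintro _ ⟨d, hd, rfl⟩
          exact ⟨d⁻¹, D.inv_mem hd, by rw [map_inv]; rfl⟩ }
    have hle : AddSubgroup.closure S ≤ B :=
      (AddSubgroup.closure_le B).2 (fun x hx => hS x hx)
    obtain ⟨d, hd, hdw⟩ := hle hw
    have hρd : ρ d = ρ w := Multiplicative.toAdd.injective hdw
    have hk : ρ (d⁻¹ * w) = 1 := by
      rw [map_mul, map_inv, hρd, inv_mul_cancel]
    have hwd : w = d * (d⁻¹ * w) := by group
    rw [hwd]
    exact D.mul_mem hd (hD _ hk)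
  obtain ⟨u₀, hu₀⟩ := hsurj (Multiplicative.ofAdd 1)
  have hu₀' : Multiplicative.toAdd (ρ u₀) = 1 := by rw [hu₀]; rfl
  refine ⟨MonoidHom.mk' (fun y => u₀ * y * u₀⁻¹ * y⁻¹) (hmulR u₀), ?_, ?_⟩
  · -- (1)
    intro w hw
    have hmem : w ∈ (MonoidHom.mk' (fun y => u₀ * y * u₀⁻¹ * y⁻¹) (hmulR u₀)).ker := by
      refine himg _ ?_ _ ?_ w hw
      · intro k hk
        rw [MonoidHom.mem_ker]
        show u₀ * k * u₀⁻¹ * k⁻¹ = 1
        rw [hcen k hk u₀]
        group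
      · rintro _ ⟨i, rfl⟩
        refine ⟨(τ ^ i) u₀ * (τ ^ i).symm u₀, ?_, ?_⟩
        · rw [MonoidHom.mem_ker]
          show u₀ * ((τ ^ i) u₀ * (τ ^ i).symm u₀) * u₀⁻¹ * ((τ ^ i) u₀ * (τ ^ i).symm u₀)⁻¹ = 1
          rw [hmulR u₀]
          have h1 : u₀ * (τ ^ i).symm u₀ * u₀⁻¹ * ((τ ^ i).symm u₀)⁻¹ =
              (τ ^ i) u₀ * u₀ * ((τ ^ i) u₀)⁻¹ * u₀⁻¹ := by
            have h2 := hinv (τ ^ i) (hfixk i) u₀ ((τ ^ i).symm u₀)
            rw [MulEquiv.apply_symm_apply] at h2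
            exact h2.symm
          rw [h1]
          group
        · have h3 := hρpow i ((τ ^ i).symm u₀)
          rw [MulEquiv.apply_symm_apply, hu₀] at h3
          have h4 : ζ ^ i * Multiplicative.toAdd (ρ ((τ ^ i).symm u₀)) = 1 :=
            (Multiplicative.ofAdd.injective h3).symm
          have h5 : Multiplicative.toAdd (ρ ((τ ^ i).symm u₀)) = ζ⁻¹ ^ i := by
            rw [inv_pow]
            exact eq_inv_of_mul_eq_one_right h4
          have h6 : Multiplicative.toAdd (ρ ((τ ^ i) u₀)) = ζ ^ i := by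
            rw [hρpow i u₀, hu₀', mul_one]
            rfl
          rw [map_mul, toAdd_mul, h5, h6]
    exact MonoidHom.mem_ker.1 hmem
  · -- (2)
    intro k hk
    have hkc := hker k hk
    rw [commutator_eq_closure] at hkc
    have hle : Subgroup.closure (commutatorSet W) ≤
        (MonoidHom.mk' (fun y => u₀ * y * u₀⁻¹ * y⁻¹) (hmulR u₀)).range := by
      rw [Subgroup.closure_le]
      rintro _ ⟨x, y, rfl⟩
      have hx : x ∈ ((MonoidHom.mk' (fun y => u₀ * y * u₀⁻¹ * y⁻¹) (hmulR u₀)).range).comap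
          (MonoidHom.mk' (fun x => x * y * x⁻¹ * y⁻¹) (hmulL y)) := by
        refine himg _ ?_ (Set.range fun k : ℕ => ζ ^ k) ?_ x ?_
        · intro k hk
          rw [Subgroup.mem_comap]
          have h1 : (MonoidHom.mk' (fun x => x * y * x⁻¹ * y⁻¹) (hmulL y)) k = 1 := by
            show k * y * k⁻¹ * y⁻¹ = 1
            rw [← hcen k hk y]
            group
          rw [h1]
          exact Subgroup.one_mem _
        · rintro _ ⟨i, rfl⟩
          refine ⟨(τ ^ i) u₀, ?_, ?_⟩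
          · rw [Subgroup.mem_comap]
            refine ⟨(τ ^ i).symm y, ?_⟩
            show u₀ * (τ ^ i).symm y * u₀⁻¹ * ((τ ^ i).symm y)⁻¹ =
              (τ ^ i) u₀ * y * ((τ ^ i) u₀)⁻¹ * y⁻¹
            have h2 := hinv (τ ^ i) (hfixk i) u₀ ((τ ^ i).symm y)
            rw [MulEquiv.apply_symm_apply] at h2
            exact h2.symm
          · rw [hρpow i u₀, hu₀', mul_one]
            rfl
        · rw [gen_pow H]
          exact AddSubgroup.mem_top _
      exact hx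
    exact hle hkc

end Cfsg.Agent.Lib.Helper55.SCH
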