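import Cfsg.Agent.Lib.Helper55.SchDefs
import Cfsg.Agent.Lib.Helper55.SchFldA
/-! Project SCH (S4395), piece SCH-FldB (placeholder filled by helper6; statements, names and
namespace unchanged; auxiliary lemmas `schfldb_*` above the main theorems). -/

set_option autoImplicit false
universe u v

namespace Cfsg.Agent.Lib.Helper55.SCH

theorem schfldb_zeta_ne_zero {p q a : ℕ} {F : Type} [Field F] {ζ : F} (H : Hyp p q a F ζ) :
    ζ ≠ 0 := by
  intro h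
  have h1 : ζ ^ q = 1 := by rw [← H.ord]; exact pow_orderOf_eq_one ζ
  rw [h, zero_pow H.hq.ne_zero] at h1
  exact zero_ne_one h1

theorem schfldb_c_mem {F : Type} [Field F] (ζ : F) (k : ℕ) : ζ ^ k + ζ⁻¹ ^ k ∈ Fp ζ :=
  AddSubgroup.subset_closure ⟨k, rfl⟩

theorem schfldb_c_mul {F : Type} [Field F] {ζ : F} (hζ : ζ ≠ 0) (j k : ℕ) (hkj : k ≤ j) :
    (ζ ^ j + ζ⁻¹ ^ j) * (ζ ^ k + ζ⁻¹ ^ k)
      = (ζ ^ (j + k) + ζ⁻¹ ^ (j + k)) + (ζ ^ (j - k) + ζ⁻¹ ^ (j - k)) := by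
  obtain ⟨d, rfl⟩ := Nat.exists_eq_add_of_le hkj
  have e1 : k + d - k = d := by omega
  rw [e1]
  have h1 : ζ⁻¹ ^ k * ζ ^ k = 1 := by rw [← mul_pow, inv_mul_cancel₀ hζ, one_pow]
  have h2 : ζ ^ (k + d) * ζ⁻¹ ^ k = ζ ^ d := by
    rw [pow_add]
    calc ζ ^ k * ζ ^ d * ζ⁻¹ ^ k = ζ ^ d * (ζ⁻¹ ^ k * ζ ^ k) := by ring
      _ = ζ ^ d := by rw [h1, mul_one]
  have h3 : ζ⁻¹ ^ (k + d) * ζ ^ k = ζ⁻¹ ^ d := by
    rw [pow_add]
    calc ζ⁻¹ ^ k * ζ⁻¹ ^ d * ζ ^ k = ζ⁻¹ ^ d * (ζ⁻¹ ^ k * ζ ^ k) := by ring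
      _ = ζ⁻¹ ^ d := by rw [h1, mul_one]
  calc (ζ ^ (k + d) + ζ⁻¹ ^ (k + d)) * (ζ ^ k + ζ⁻¹ ^ k)
      = ζ ^ (k + d) * ζ ^ k + ζ ^ (k + d) * ζ⁻¹ ^ k + ζ⁻¹ ^ (k + d) * ζ ^ k
          + ζ⁻¹ ^ (k + d) * ζ⁻¹ ^ k := by ring
    _ = ζ ^ (k + d + k) + ζ ^ d + ζ⁻¹ ^ d + ζ⁻¹ ^ (k + d + k) := by
        rw [h2, h3, ← pow_add, ← pow_add]
    _ = _ := by ring

theorem schfldb_mul_mem {F : Type} [Field F] {ζ : F} (hζ : ζ ≠ 0) {x y : F} (hx : x ∈ Fp ζ)
    (hy : y ∈ Fp ζ) : x * y ∈ Fp ζ := by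
  have gen : ∀ j k : ℕ, (ζ ^ j + ζ⁻¹ ^ j) * (ζ ^ k + ζ⁻¹ ^ k) ∈ Fp ζ := by
    intro j k
    rcases le_total k j with h | h
    · rw [schfldb_c_mul hζ j k h]
      exact add_mem (schfldb_c_mem ζ _) (schfldb_c_mem ζ _)
    · rw [mul_comm, schfldb_c_mul hζ k j h]
      exact add_mem (schfldb_c_mem ζ _) (schfldb_c_mem ζ _)
  have step1 : ∀ k : ℕ, ∀ x ∈ Fp ζ, x * (ζ ^ k + ζ⁻¹ ^ k) ∈ Fp ζ := by
    intro k x hx
    unfold Fp at hx
    induction hx using AddSubgroup.closure_induction with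
    | mem x hx => obtain ⟨j, rfl⟩ := hx; exact gen j k
    | zero => rw [zero_mul]; exact zero_mem _
    | add x y _ _ hx hy => rw [add_mul]; exact add_mem hx hy
    | neg x _ hx => rw [neg_mul]; exact neg_mem hx
  unfold Fp at hy
  induction hy using AddSubgroup.closure_induction with
  | mem y hy => obtain ⟨k, rfl⟩ := hy; exact step1 k x hx
  | zero => rw [mul_zero]; exact zero_mem _
  | add y z _ _ hy hz => rw [mul_add]; exact add_mem hy hz
  | neg y _ hy => rw [mul_neg]; exact neg_mem hy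

theorem schfldb_exists_ne {p q a : ℕ} {F : Type} [Field F] {ζ : F} (H : Hyp p q a F ζ) :
    ∃ x ∈ Fp ζ, x ≠ 0 := by
  by_cases h2 : (2 : F) = 0
  · refine ⟨ζ ^ 1 + ζ⁻¹ ^ 1, schfldb_c_mem ζ 1, ?_⟩
    intro h
    have hζ := schfldb_zeta_ne_zero H
    have h3 : ζ ^ 2 = 1 := by
      have h0 : ζ * (ζ ^ 1 + ζ⁻¹ ^ 1) = 0 := by rw [h, mul_zero]
      rw [pow_one, pow_one, mul_add, mul_inv_cancel₀ hζ] at h0
      have h4 : ζ ^ 2 = -1 := by rw [sq]; exact eq_neg_of_add_eq_zero_left h0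
      rw [h4]
      have h5 : (1 : F) + 1 = 0 := by rw [one_add_one_eq_two]; exact h2
      exact neg_eq_of_add_eq_zero_left h5
    have h5 : q ∣ 2 := by rw [← H.ord]; exact orderOf_dvd_of_pow_eq_one h3
    have hq2 : q = 2 := (Nat.prime_dvd_prime_iff_eq H.hq Nat.prime_two).mp h5
    have hp2 : p ∣ 2 := by
      have := H.char
      have h6 : ((2 : ℕ) : F) = 0 := by exact_mod_cast h2
      exact (CharP.cast_eq_zero_iff F p 2).mp h6
    have hp2' : p = 2 := (Nat.prime_dvd_prime_iff_eq H.hp Nat.prime_two).mp hp2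
    exact H.hpq (hp2'.trans hq2.symm)
  · refine ⟨ζ ^ 0 + ζ⁻¹ ^ 0, schfldb_c_mem ζ 0, ?_⟩
    rw [pow_zero, pow_zero, one_add_one_eq_two]; exact h2

theorem schfldb_pow_mem {F : Type} [Field F] {ζ : F} (hζ : ζ ≠ 0) {x : F} (hx : x ∈ Fp ζ) :
    ∀ n : ℕ, x ^ (n + 1) ∈ Fp ζ := by
  intro n
  induction n with
  | zero => rw [zero_add, pow_one]; exact hx
  | succ n ih => rw [pow_succ]; exact schfldb_mul_mem hζ ih hx

theorem schfldb_pow_card {p q a : ℕ} {F : Type} [Field F] {ζ : F} (H : Hyp p q a F ζ) {x : F}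
    (hx0 : x ≠ 0) : x ^ (Nat.card F - 1) = 1 := by
  have := H.fin
  have := Fintype.ofFinite F
  rw [Nat.card_eq_fintype_card]
  exact FiniteField.pow_card_sub_one_eq_one x hx0

theorem schfldb_one_mem {p q a : ℕ} {F : Type} [Field F] {ζ : F} (H : Hyp p q a F ζ) :
    (1 : F) ∈ Fp ζ := by
  obtain ⟨x, hx, hx0⟩ := schfldb_exists_ne H
  have := H.fin
  have hcard : 1 < Nat.card F := Finite.one_lt_card
  have h1 := schfldb_pow_card H hx0
  have e : Nat.card F - 1 = (Nat.card F - 2) + 1 := by omega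
  rw [e] at h1
  rw [← h1]
  exact schfldb_pow_mem (schfldb_zeta_ne_zero H) hx _

theorem schfldb_inv_mem {p q a : ℕ} {F : Type} [Field F] {ζ : F} (H : Hyp p q a F ζ) {x : F}
    (hx : x ∈ Fp ζ) : x⁻¹ ∈ Fp ζ := by
  by_cases hx0 : x = 0
  · rw [hx0, inv_zero]; exact zero_mem _
  have := H.fin
  have hcard : 1 < Nat.card F := Finite.one_lt_card
  have h1 := schfldb_pow_card H hx0
  have h2 : x⁻¹ = x ^ (Nat.card F - 2) := by
    have h3 : x * x ^ (Nat.card F - 2) = 1 := by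
      rw [← pow_succ']
      have e : Nat.card F - 2 + 1 = Nat.card F - 1 := by omega
      rw [e]; exact h1
    exact inv_eq_of_mul_eq_one_right h3
  rw [h2]
  rcases Nat.eq_zero_or_pos (Nat.card F - 2) with h0 | h0
  · rw [h0, pow_zero]; exact schfldb_one_mem H
  · obtain ⟨n, hn⟩ := Nat.exists_eq_succ_of_ne_zero h0.ne'
    rw [hn]; exact schfldb_pow_mem (schfldb_zeta_ne_zero H) hx n

theorem schfldb_surj {p q a : ℕ} {F : Type} [Field F] {ζ : F} (H : Hyp p q a F ζ) :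
    ∀ x : F, ∃ s ∈ Fp ζ, ∃ t ∈ Fp ζ, x = s + t * ζ := by
  have hζ := schfldb_zeta_ne_zero H
  have h1 := schfldb_one_mem H
  let T : AddSubgroup F :=
    { carrier := {x | ∃ s ∈ Fp ζ, ∃ t ∈ Fp ζ, x = s + t * ζ}
      add_mem' := by
        rintro x y ⟨s, hs, t, ht, rfl⟩ ⟨s', hs', t', ht', rfl⟩
        exact ⟨s + s', add_mem hs hs', t + t', add_mem ht ht', by ring⟩
      zero_mem' := ⟨0, zero_mem _, 0, zero_mem _, by ring⟩
      neg_mem' := by
        rintro x ⟨s, hs, t, ht, rfl⟩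
        exact ⟨-s, neg_mem hs, -t, neg_mem ht, by ring⟩ }
  have hmulT : ∀ u ∈ Fp ζ, ∀ x ∈ T, u * x ∈ T := by
    rintro u hu x ⟨s, hs, t, ht, rfl⟩
    exact ⟨u * s, schfldb_mul_mem hζ hu hs, u * t, schfldb_mul_mem hζ hu ht, by ring⟩
  have hpow : ∀ k : ℕ, ζ ^ k ∈ T ∧ ζ ^ (k + 1) ∈ T := by
    intro k
    induction k with
    | zero => exact ⟨⟨1, h1, 0, zero_mem _, by ring⟩, ⟨0, zero_mem _, 1, h1, by ring⟩⟩
    | succ k ih =>
      refine ⟨ih.2, ?_⟩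
      have e : ζ ^ (k + 1 + 1) = (ζ ^ 1 + ζ⁻¹ ^ 1) * ζ ^ (k + 1) - ζ ^ k := by
        rw [pow_one, pow_one, add_mul, pow_succ ζ (k + 1), pow_succ ζ k]
        field_simp
        ring
      rw [e]
      exact sub_mem (hmulT _ (schfldb_c_mem ζ 1) _ ih.2) ih.1
  have htop : T = ⊤ := by
    rw [eq_top_iff, ← gen_pow H, AddSubgroup.closure_le]
    rintro x ⟨k, rfl⟩
    exact (hpow k).1
  intro x
  have hxT : x ∈ T := by rw [htop]; exact AddSubgroup.mem_top x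
  exact hxT

/-- `|F| ≤ |Fp ζ| ^ 2`.
Proof: `Fp ζ` (additive closure of `c k := ζ ^ k + ζ⁻¹ ^ k`) is closed under multiplication:
`c j * c k = c (j + k) + c (j - k)` for `k ≤ j` (closure induction twice), and contains `1`:
if `p ≠ 2` then `c 0 = 2` and `1 = ((p + 1) / 2) • 2`; if `p = 2` then `q` is odd and
`1 = ∑_{k = 1}^{(q-1)/2} c k` because `∑_{k < q} ζ ^ k = 0` and `ζ⁻¹ ^ k = ζ ^ (q - k)`.
The set `T = {s + t * ζ | s t ∈ Fp ζ}` is an additive subgroup containing every `ζ ^ k`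
(`ζ ^ 0 = 1`, `ζ ^ 1 = 1 * ζ`, `ζ ^ (k+2) = c 1 * ζ ^ (k+1) - ζ ^ k` and `Fp * T ⊆ T`), so `T = ⊤` by
`gen_pow`; hence `(s, t) ↦ s + t * ζ` is a surjection `Fp × Fp → F`. -/
theorem fplus_card {p q a : ℕ} {F : Type} [Field F] {ζ : F} (H : Hyp p q a F ζ) : Nat.card F ≤ Nat.card ↥(Fp ζ) ^ 2 := by
  have := H.fin
  have hs := schfldb_surj H
  let f : ↥(Fp ζ) × ↥(Fp ζ) → F := fun st => (st.1 : F) + (st.2 : F) * ζ
  have hf : Function.Surjective f := by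
    intro x
    obtain ⟨s, hs, t, ht, rfl⟩ := hs x
    exact ⟨(⟨s, hs⟩, ⟨t, ht⟩), rfl⟩
  have h := Nat.card_le_card_of_surjective f hf
  rw [Nat.card_prod] at h
  rw [sq]; exact h

/-- If `a` is odd then `Fp ζ = ⊤`.
Proof: `Fp ζ` is a finite subring of the field `F`, hence closed under inverses of nonzero elements
(`x⁻¹ = x ^ (|F| - 2)`).  If `ζ ∈ Fp ζ` then `Fp ζ` contains all powers of `ζ`, so it is `⊤` by
`gen_pow`.  Otherwise `(s, t) ↦ s + t * ζ` is injective on `Fp × Fp` (else `ζ = (s - s') / (t' - t) ∈ Fp`)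
and surjective (previous proof), so `p ^ a = |F| = |Fp| ^ 2`; `|Fp| = p ^ d` (`Fp` is a subgroup of a
group of order `p ^ a`), so `a = 2 * d`, contradicting `a % 2 = 1`. -/
theorem fplus_odd {p q a : ℕ} {F : Type} [Field F] {ζ : F} (H : Hyp p q a F ζ) (ha : a % 2 = 1) : Fp ζ = ⊤ := by
  have := H.fin
  have hζ := schfldb_zeta_ne_zero H
  by_cases hz : ζ ∈ Fp ζ
  · rw [eq_top_iff, ← gen_pow H, AddSubgroup.closure_le]
    rintro x ⟨k, rfl⟩
    rcases Nat.eq_zero_or_pos k with h0 | h0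
    · rw [h0]
      show ζ ^ 0 ∈ Fp ζ
      rw [pow_zero]; exact schfldb_one_mem H
    · obtain ⟨n, rfl⟩ := Nat.exists_eq_succ_of_ne_zero h0.ne'
      exact schfldb_pow_mem hζ hz n
  · exfalso
    have hs := schfldb_surj H
    let f : ↥(Fp ζ) × ↥(Fp ζ) → F := fun st => (st.1 : F) + (st.2 : F) * ζ
    have hsurj : Function.Surjective f := by
      intro x
      obtain ⟨s, hs, t, ht, rfl⟩ := hs x
      exact ⟨(⟨s, hs⟩, ⟨t, ht⟩), rfl⟩
    have hinj : Function.Injective f := by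
      rintro ⟨s, t⟩ ⟨s', t'⟩ h
      have h' : (s : F) + (t : F) * ζ = (s' : F) + (t' : F) * ζ := h
      by_cases htt : (t : F) = (t' : F)
      · rw [htt] at h'
        have hss : (s : F) = s' := add_right_cancel h'
        exact Prod.ext (Subtype.ext hss) (Subtype.ext htt)
      · exfalso
        apply hz
        have hne : (t' : F) - (t : F) ≠ 0 := sub_ne_zero.mpr (Ne.symm htt)
        have e : ζ = ((s : F) - (s' : F)) * ((t' : F) - (t : F))⁻¹ := by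
          rw [eq_mul_inv_iff_mul_eq₀ hne]
          linear_combination (-1 : F) * h'
        have hmem : ((s : F) - (s' : F)) * ((t' : F) - (t : F))⁻¹ ∈ Fp ζ :=
          schfldb_mul_mem hζ (sub_mem s.2 s'.2) (schfldb_inv_mem H (sub_mem t'.2 t.2))
        rw [← e] at hmem
        exact hmem
    have hcard : Nat.card F = Nat.card ↥(Fp ζ) ^ 2 := by
      rw [sq, ← Nat.card_prod]
      exact (Nat.card_congr (Equiv.ofBijective f ⟨hinj, hsurj⟩)).symm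
    have hdvd : Nat.card ↥(Fp ζ) ∣ Nat.card F := AddSubgroup.card_addSubgroup_dvd_card (Fp ζ)
    rw [H.card] at hdvd hcard
    obtain ⟨d, hd, hd2⟩ := (Nat.dvd_prime_pow H.hp).mp hdvd
    rw [hd2, ← pow_mul] at hcard
    have h3 := Nat.pow_right_injective H.hp.two_le hcard
    omega

end Cfsg.Agent.Lib.Helper55.SCH
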