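import Cfsg.Agent.Lib.Helper55.SchDefs
import Cfsg.Agent.Lib.Helper55.SchFldB
import Cfsg.Agent.Lib.Helper55.SchBoundB1
/-! Project SCH (S4395), piece SCH-BoundB2.  PLACEHOLDER: replace the `sorry`(s) in this ONE file;
keep the statement(s), names and namespace exactly.  You may add private/auxiliary lemmas
above the main theorem(s) in this file (same namespace). -/

set_option autoImplicit false
universe u v

namespace Cfsg.Agent.Lib.Helper55.SCH

/-- The bound `|ker ρ| ^ 2 ≤ |F|` (and `ker ρ = 1` for odd `a`).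
Proof: take `s'` from `exists_comm_hom`.  Let `L = {w | toAdd (ρ w) ∈ Fp ζ}` (a subgroup,
`L ≤ s'.ker`).  `|W| = |F| * |ker ρ|` and `|L| = |Fp ζ| * |ker ρ|` (`ρ` onto).  `ker ρ ⊆ s'.range`, so
`|ker ρ| ≤ |s'.range| = |W| / |s'.ker| ≤ |W| / |L| = |F| / |Fp ζ|`, i.e. `|ker ρ| * |Fp ζ| ≤ |F|`.
With `fplus_card` (`|F| ≤ |Fp ζ| ^ 2`): `|ker ρ|^2 * |Fp|^2 ≤ |F|^2 ≤ |F| * |Fp|^2`.
If `a` is odd, `Fp ζ = ⊤` (`fplus_odd`), so `|ker ρ| ≤ 1`. -/
theorem card_ker_bound {p q a : ℕ} {F : Type} [Field F] {ζ : F} (H : Hyp p q a F ζ)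
    {W : Type*} [Group W] [Finite W] (ρ : W →* Multiplicative F) (τ : MulAut W)
    (hsurj : Function.Surjective ρ)
    (hτ : ∀ w, ρ (τ w) = Multiplicative.ofAdd (ζ * Multiplicative.toAdd (ρ w)))
    (hcen : ∀ k, ρ k = 1 → ∀ w, w * k = k * w) (hfix : ∀ k, ρ k = 1 → τ k = k)
    (hker : ∀ k, ρ k = 1 → k ∈ _root_.commutator W) :
    Nat.card ↥ρ.ker ^ 2 ≤ Nat.card F ∧ (a % 2 = 1 → ∀ k, ρ k = 1 → k = 1) := by
  haveI := H.fin
  obtain ⟨s', hs1, hs2⟩ := exists_comm_hom H ρ τ hsurj hτ hcen hfix hker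
  -- the subgroup of `Multiplicative F` attached to `Fp ζ`
  have hKmem : ∀ x : Multiplicative F,
      x ∈ AddSubgroup.toSubgroup (Fp ζ) ↔ Multiplicative.toAdd x ∈ Fp ζ := fun x => Iff.rfl
  have hKcard : Nat.card ↥(AddSubgroup.toSubgroup (Fp ζ)) = Nat.card ↥(Fp ζ) :=
    Nat.card_congr (Equiv.subtypeEquiv Multiplicative.toAdd (fun x => hKmem x))
  have hFcard : Nat.card (Multiplicative F) = Nat.card F := Nat.card_congr Multiplicative.toAdd
  have hidx : (AddSubgroup.toSubgroup (Fp ζ)).index * Nat.card ↥(Fp ζ) = Nat.card F := by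
    rw [← hKcard, ← hFcard]
    exact Subgroup.index_mul_card _
  have hLidx : ((AddSubgroup.toSubgroup (Fp ζ)).comap ρ).index =
      (AddSubgroup.toSubgroup (Fp ζ)).index := Subgroup.index_comap_of_surjective _ hsurj
  have hLker : (AddSubgroup.toSubgroup (Fp ζ)).comap ρ ≤ s'.ker := by
    intro w hw
    rw [MonoidHom.mem_ker]
    exact hs1 w hw
  have hkr : ρ.ker ≤ s'.range := by
    intro k hk
    obtain ⟨w, hw⟩ := hs2 k (MonoidHom.mem_ker.mp hk)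
    exact ⟨w, hw⟩
  have h1 : Nat.card ↥ρ.ker ≤ Nat.card ↥s'.range := Subgroup.card_le_of_le hkr
  have h2 : s'.ker.index = Nat.card ↥s'.range := Subgroup.index_ker s'
  have h3 : s'.ker.index ≤ ((AddSubgroup.toSubgroup (Fp ζ)).comap ρ).index :=
    Nat.le_of_dvd (Nat.pos_of_ne_zero Subgroup.index_ne_zero_of_finite)
      (Subgroup.index_dvd_of_le hLker)
  have hx : Nat.card ↥ρ.ker ≤ (AddSubgroup.toSubgroup (Fp ζ)).index := by
    rw [← hLidx]
    omega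
  have hfp := fplus_card H
  have hgpos : 0 < Nat.card ↥(Fp ζ) := Nat.card_pos
  constructor
  · -- `x ^ 2 ≤ f` from `x ≤ i`, `i * g = f`, `f ≤ g ^ 2`
    have e1 : Nat.card ↥ρ.ker * Nat.card ↥(Fp ζ) ≤ Nat.card F := by
      rw [← hidx]
      exact Nat.mul_le_mul_right _ hx
    have e2 : Nat.card ↥ρ.ker * Nat.card ↥(Fp ζ) * (Nat.card ↥ρ.ker * Nat.card ↥(Fp ζ)) ≤
        Nat.card F * Nat.card F := Nat.mul_le_mul e1 e1
    have e3 : Nat.card F * Nat.card F ≤ Nat.card F * Nat.card ↥(Fp ζ) ^ 2 :=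
      Nat.mul_le_mul_left _ hfp
    have e4 : Nat.card ↥ρ.ker ^ 2 * Nat.card ↥(Fp ζ) ^ 2 ≤ Nat.card F * Nat.card ↥(Fp ζ) ^ 2 := by
      calc Nat.card ↥ρ.ker ^ 2 * Nat.card ↥(Fp ζ) ^ 2 =
            Nat.card ↥ρ.ker * Nat.card ↥(Fp ζ) * (Nat.card ↥ρ.ker * Nat.card ↥(Fp ζ)) := by ring
        _ ≤ Nat.card F * Nat.card F := e2
        _ ≤ Nat.card F * Nat.card ↥(Fp ζ) ^ 2 := e3
    exact Nat.le_of_mul_le_mul_right e4 (by positivity)
  · intro ha k hk
    have htop : Fp ζ = ⊤ := fplus_odd H ha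
    have hKtop : AddSubgroup.toSubgroup (Fp ζ) = ⊤ := by
      rw [eq_top_iff]
      intro x _
      rw [hKmem, htop]
      exact AddSubgroup.mem_top _
    rw [hKtop, Subgroup.index_top] at hx
    haveI : Subsingleton ↥ρ.ker := (Finite.card_le_one_iff_subsingleton).mp hx
    have e : (⟨k, MonoidHom.mem_ker.mpr hk⟩ : ↥ρ.ker) = 1 := Subsingleton.elim _ _
    exact congrArg Subtype.val e

end Cfsg.Agent.Lib.Helper55.SCH
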