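import Cfsg.Agent.Lib.Helper55.SchDefs

/-! Project SCH (S4395), piece SCH-Card: the order of a Schmidt structure. -/

set_option autoImplicit false
universe u v

namespace Cfsg.Agent.Lib.Helper55.SCH

/-- `|X| = |P| * q ^ r`.
Proof: `X ⧸ P` is cyclic, generated by the image of `y` (`S.gen`), which has the same order as
`y` (`S.inter`). -/
theorem card_eq {p q r : ℕ} {F : Type} [Field F] {ζ : F} {X : Type*} [Group X] [Finite X]
    (S : Sch p q r ζ X) : Nat.card X = Nat.card ↥S.P * q ^ r := by
  have : S.P.Normal := S.normal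
  have h1 : ∀ i : ℕ, (QuotientGroup.mk' S.P S.y) ^ i = 1 ↔ S.y ^ i = 1 := by
    intro i
    rw [← map_pow, QuotientGroup.mk'_apply, QuotientGroup.eq_one_iff]
    constructor
    · exact S.inter i
    · intro h
      rw [h]
      exact S.P.one_mem
  have hord : orderOf (QuotientGroup.mk' S.P S.y) = q ^ r := by
    rw [← S.order_y]
    exact orderOf_eq_orderOf_iff.mpr h1
  have hz : Subgroup.zpowers (QuotientGroup.mk' S.P S.y) = ⊤ := by
    rw [eq_top_iff]
    intro xb _
    obtain ⟨x, rfl⟩ := QuotientGroup.mk_surjective xb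
    obtain ⟨g, i, hx⟩ := S.gen x
    have h2 : (QuotientGroup.mk x : X ⧸ S.P) = (QuotientGroup.mk' S.P S.y) ^ i := by
      have h3 : (QuotientGroup.mk' S.P) x = (QuotientGroup.mk' S.P) (g : X) * (QuotientGroup.mk' S.P S.y) ^ i := by
        rw [hx, map_mul, map_pow]
      have h4 : (QuotientGroup.mk' S.P) (g : X) = 1 := by
        rw [QuotientGroup.mk'_apply, QuotientGroup.eq_one_iff]
        exact g.2
      rw [h4, one_mul] at h3
      exact h3
    rw [h2]
    exact Subgroup.pow_mem _ (Subgroup.mem_zpowers _) i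
  have hq : Nat.card (X ⧸ S.P) = q ^ r := by
    rw [← Subgroup.card_top (G := X ⧸ S.P), ← hz, Nat.card_zpowers, hord]
  rw [Subgroup.card_eq_card_quotient_mul_card_subgroup S.P, hq, mul_comm]

end Cfsg.Agent.Lib.Helper55.SCH
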