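import Mathlib
import Cfsg.Prelude.Def_Transfer

/-!
# Project SCH (S4395, universal Schmidt group): interface

Everything is relative to a finite field `F` with `p ^ a` elements and an element `ζ` of
multiplicative order `q`, where `a` is the order of `p` modulo `q` (structure `Hyp`).

`Sch p q r ζ X` is the abstract "Schmidt structure" on a group `X`: a normal `p`-subgroup `P`,
an element `y` of order `q ^ r` with `X = P⟨y⟩`, `P ∩ ⟨y⟩ = 1`, and a surjective homomorphism
`ρ : P → (F, +)` (written multiplicatively) with central kernel, which intertwines conjugation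
by `y` with multiplication by `ζ`, and such that no proper `y`-invariant subgroup of `P`
maps onto `F`.
-/

set_option autoImplicit false
universe u v

namespace Cfsg.Agent.Lib.Helper55.SCH

/-- Standing hypotheses on the primes and the field. -/
structure Hyp (p q a : ℕ) (F : Type) [Field F] (ζ : F) : Prop where
  hp : p.Prime
  hq : q.Prime
  hpq : p ≠ q
  fin : Finite F
  char : CharP F p
  card : Nat.card F = p ^ a
  ord : orderOf ζ = q
  ha : a = orderOf (p : ZMod q)

/-- The additive subgroup of `F` generated by the elements `ζ ^ k + ζ⁻¹ ^ k`. -/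
def Fp {F : Type} [Field F] (ζ : F) : AddSubgroup F :=
  AddSubgroup.closure (Set.range fun k : ℕ => ζ ^ k + ζ⁻¹ ^ k)

/-- Abstract Schmidt structure. -/
structure Sch (p q r : ℕ) {F : Type} [Field F] (ζ : F) (X : Type u) [Group X] where
  P : Subgroup X
  y : X
  ρ : ↥P →* Multiplicative F
  normal : P.Normal
  pgroup : IsPGroup p ↥P
  surj : Function.Surjective ρ
  equiv : ∀ g h : ↥P, (h : X) = y * (g : X) * y⁻¹ →
    ρ h = Multiplicative.ofAdd (ζ * Multiplicative.toAdd (ρ g))
  central : ∀ g : ↥P, ρ g = 1 → ∀ x : X, x * (g : X) = (g : X) * x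
  minimal : ∀ S : Subgroup X, S ≤ P → (∀ s ∈ S, y * s * y⁻¹ ∈ S) →
    (∀ x : Multiplicative F, ∃ s : ↥P, (s : X) ∈ S ∧ ρ s = x) → S = P
  order_y : orderOf y = q ^ r
  gen : ∀ x : X, ∃ g : ↥P, ∃ i : ℕ, x = (g : X) * y ^ i
  inter : ∀ i : ℕ, y ^ i ∈ P → y ^ i = 1

/-- Membership in the fibre product of two Schmidt structures over `F`. -/
def InFib {p q r : ℕ} {F : Type} [Field F] {ζ : F} {G₀ : Type u} {X : Type v} [Group G₀] [Group X]
    (S₀ : Sch p q r ζ G₀) (S : Sch p q r ζ X) (w : G₀ × X) : Prop :=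
  ∃ (g₀ : ↥S₀.P) (g : ↥S.P), (g₀ : G₀) = w.1 ∧ (g : X) = w.2 ∧ S₀.ρ g₀ = S.ρ g

/-- Existence of the `p`-part of the universal group: a finite group `U` of order `n` with a
surjection `ρ` onto `F` with central kernel, an automorphism `τ` acting as `ζ` on `F` and
trivially on the kernel, `τ ^ q = 1`, such that no proper subgroup maps onto `F`. -/
def PEx (q : ℕ) {F : Type} [Field F] (ζ : F) (n : ℕ) : Prop :=
  ∃ (U : Type) (_ : Group U) (_ : Finite U) (ρ : U →* Multiplicative F) (τ : MulAut U),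
    Function.Surjective ρ ∧ Nat.card U = n ∧
    (∀ u, ρ (τ u) = Multiplicative.ofAdd (ζ * Multiplicative.toAdd (ρ u))) ∧
    (∀ u, ρ u = 1 → τ u = u ∧ ∀ v, v * u = u * v) ∧
    (∀ S : Subgroup U, (∀ x, ∃ s ∈ S, ρ s = x) → S = ⊤) ∧
    (∀ u, (τ ^ q) u = u)

end Cfsg.Agent.Lib.Helper55.SCH
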