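import Cfsg.Agent.Lib.Helper55.SchDefs

/-! Project SCH (S4395), piece SCH-FibA (proved by helper29): a minimal invariant subgroup of the
fibre product of two Schmidt structures mapping onto `F`. -/

set_option autoImplicit false
universe u v

namespace Cfsg.Agent.Lib.Helper55.SCH

/-- A minimal invariant subgroup of the fibre product mapping onto `F`.
Proof: `W := {w | InFib S₀ S w}` is a subgroup of `G₀ × X` (`ρ`'s are homomorphisms), stable under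
conjugation by `(S₀.y, S.y)` (`Sch.equiv` for both, `Sch.normal`), and maps onto `F` (both `surj`).
The set of subgroups `W₂ ≤ W` that are stable and onto is finite and nonempty: take a minimal
one. -/
theorem exists_min_fib {p q r : ℕ} {F : Type} [Field F] {ζ : F} {G₀ : Type u} {X : Type v} [Group G₀] [Group X]
    [Finite G₀] [Finite X] (S₀ : Sch p q r ζ G₀) (S : Sch p q r ζ X) :
    ∃ W₁ : Subgroup (G₀ × X), (∀ w ∈ W₁, InFib S₀ S w) ∧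
      (∀ w ∈ W₁, (S₀.y, S.y) * w * (S₀.y, S.y)⁻¹ ∈ W₁) ∧
      (∀ x : Multiplicative F, ∃ w ∈ W₁, ∃ g₀ : ↥S₀.P, (g₀ : G₀) = w.1 ∧ S₀.ρ g₀ = x) ∧
      (∀ W₂ : Subgroup (G₀ × X), W₂ ≤ W₁ →
        (∀ w ∈ W₂, (S₀.y, S.y) * w * (S₀.y, S.y)⁻¹ ∈ W₂) →
        (∀ x : Multiplicative F, ∃ w ∈ W₂, ∃ g₀ : ↥S₀.P, (g₀ : G₀) = w.1 ∧ S₀.ρ g₀ = x) →
        W₂ = W₁) := by
  classical
  -- the fibre product
  let W : Subgroup (G₀ × X) :=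
    { carrier := {w | InFib S₀ S w}
      mul_mem' := by
        rintro w w' ⟨g₀, g, h1, h2, h3⟩ ⟨g₀', g', h1', h2', h3'⟩
        refine ⟨g₀ * g₀', g * g', ?_, ?_, ?_⟩
        · rw [Subgroup.coe_mul, h1, h1']
          rfl
        · rw [Subgroup.coe_mul, h2, h2']
          rfl
        · rw [map_mul, map_mul, h3, h3']
      one_mem' := ⟨1, 1, rfl, rfl, by rw [map_one, map_one]⟩
      inv_mem' := by
        rintro w ⟨g₀, g, h1, h2, h3⟩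
        refine ⟨g₀⁻¹, g⁻¹, ?_, ?_, ?_⟩
        · rw [Subgroup.coe_inv, h1]
          rfl
        · rw [Subgroup.coe_inv, h2]
          rfl
        · rw [map_inv, map_inv, h3] }
  have hWstab : ∀ w ∈ W, (S₀.y, S.y) * w * (S₀.y, S.y)⁻¹ ∈ W := by
    rintro w ⟨g₀, g, h1, h2, h3⟩
    refine ⟨⟨S₀.y * g₀ * S₀.y⁻¹, S₀.normal.conj_mem g₀ g₀.2 S₀.y⟩,
      ⟨S.y * g * S.y⁻¹, S.normal.conj_mem g g.2 S.y⟩, ?_, ?_, ?_⟩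
    · show S₀.y * (g₀ : G₀) * S₀.y⁻¹ = ((S₀.y, S.y) * w * (S₀.y, S.y)⁻¹).1
      rw [h1]
      rfl
    · show S.y * (g : X) * S.y⁻¹ = ((S₀.y, S.y) * w * (S₀.y, S.y)⁻¹).2
      rw [h2]
      rfl
    · rw [S₀.equiv g₀ _ rfl, S.equiv g _ rfl, h3]
  have hWonto : ∀ x : Multiplicative F, ∃ w ∈ W, ∃ g₀ : ↥S₀.P, (g₀ : G₀) = w.1 ∧ S₀.ρ g₀ = x := by
    intro x
    obtain ⟨g₀, hg₀⟩ := S₀.surj x
    obtain ⟨g, hg⟩ := S.surj x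
    exact ⟨((g₀ : G₀), (g : X)), ⟨g₀, g, rfl, rfl, by rw [hg₀, hg]⟩, g₀, rfl, hg₀⟩
  obtain ⟨𝒮, h𝒮⟩ : ∃ 𝒮 : Set (Subgroup (G₀ × X)), ∀ W₂, W₂ ∈ 𝒮 ↔ (W₂ ≤ W ∧
      (∀ w ∈ W₂, (S₀.y, S.y) * w * (S₀.y, S.y)⁻¹ ∈ W₂) ∧
      ∀ x : Multiplicative F, ∃ w ∈ W₂, ∃ g₀ : ↥S₀.P, (g₀ : G₀) = w.1 ∧ S₀.ρ g₀ = x) :=
    ⟨{W₂ | W₂ ≤ W ∧ (∀ w ∈ W₂, (S₀.y, S.y) * w * (S₀.y, S.y)⁻¹ ∈ W₂) ∧
      ∀ x : Multiplicative F, ∃ w ∈ W₂, ∃ g₀ : ↥S₀.P, (g₀ : G₀) = w.1 ∧ S₀.ρ g₀ = x},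
      fun _ => Iff.rfl⟩
  have hne : 𝒮.Nonempty := ⟨W, (h𝒮 W).2 ⟨le_rfl, hWstab, hWonto⟩⟩
  obtain ⟨W₁, hW₁, hmin⟩ := (Set.toFinite 𝒮).exists_minimal hne
  obtain ⟨hW₁le, hW₁stab, hW₁onto⟩ := (h𝒮 W₁).1 hW₁
  refine ⟨W₁, fun w hw => hW₁le hw, hW₁stab, hW₁onto, ?_⟩
  intro W₂ hle hstab honto
  exact le_antisymm hle (hmin ((h𝒮 W₂).2 ⟨hle.trans hW₁le, hstab, honto⟩) hle)

end Cfsg.Agent.Lib.Helper55.SCH
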