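import Cfsg.Agent.Lib.Helper55.SchDefs
import Cfsg.Agent.Lib.Helper55.SchBoundA
import Cfsg.Agent.Lib.Helper55.SchBoundB2
/-! Project SCH (S4395), piece SCH-FibB (proved by helper29): the order bound for a minimal fibre
subgroup, from the pieces BoundA and BoundB2 applied to the group `↥W₁` with the conjugation by
`(S₀.y, S.y)`. -/

set_option autoImplicit false
universe u v

namespace Cfsg.Agent.Lib.Helper55.SCH

/-- Order bound for a minimal fibre subgroup.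
Proof: on the group `↥W₁` define `ρ̂ w := S₀.ρ ⟨w.1.1, _⟩` (a homomorphism onto `Multiplicative F`
by `h3`) and `τ :=` conjugation by `(S₀.y, S.y)` (a `MulAut ↥W₁` by `h2`, bijective since finite).
`hτ` from `S₀.equiv`.  If `ρ̂ k = 1` then (by `h1`) both components of `k` have `ρ = 1`, so
they are central in `G₀`, `X` (`Sch.central`): `k` commutes with everything and is fixed by `τ`.
`hmin` for `↥W₁` follows from `h4` (map a subgroup of `↥W₁` to `G₀ × X`).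
`ker_le_commutator` then `card_ker_bound` give `|ker ρ̂| ^ 2 ≤ |F|` and `ker ρ̂ = 1` for odd `a`;
`|W₁| = |F| * |ker ρ̂|` (first isomorphism theorem, `ρ̂` onto). -/
theorem card_min_fib_le {a : ℕ} {p q r : ℕ} {F : Type} [Field F] {ζ : F} {G₀ : Type u} {X : Type v} [Group G₀] [Group X]
    [Finite G₀] [Finite X] (S₀ : Sch p q r ζ G₀) (S : Sch p q r ζ X) (H : Hyp p q a F ζ)
    (W₁ : Subgroup (G₀ × X))
    (h1 : ∀ w ∈ W₁, InFib S₀ S w)
    (h2 : ∀ w ∈ W₁, (S₀.y, S.y) * w * (S₀.y, S.y)⁻¹ ∈ W₁)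
    (h3 : ∀ x : Multiplicative F, ∃ w ∈ W₁, ∃ g₀ : ↥S₀.P, (g₀ : G₀) = w.1 ∧ S₀.ρ g₀ = x)
    (h4 : ∀ W₂ : Subgroup (G₀ × X), W₂ ≤ W₁ →
        (∀ w ∈ W₂, (S₀.y, S.y) * w * (S₀.y, S.y)⁻¹ ∈ W₂) →
        (∀ x : Multiplicative F, ∃ w ∈ W₂, ∃ g₀ : ↥S₀.P, (g₀ : G₀) = w.1 ∧ S₀.ρ g₀ = x) →
        W₂ = W₁) :
    Nat.card ↥W₁ ^ 2 ≤ Nat.card F ^ 3 ∧ (a % 2 = 1 → Nat.card ↥W₁ ≤ Nat.card F) := by
  classical
  have hP0 : ∀ w ∈ W₁, w.1 ∈ S₀.P := by
    intro w hw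
    obtain ⟨g₀, g, e1, e2, e3⟩ := h1 w hw
    rw [← e1]
    exact g₀.2
  -- the homomorphism onto `F`
  let π₀ : ↥W₁ →* ↥S₀.P :=
    ((MonoidHom.fst G₀ X).comp W₁.subtype).codRestrict S₀.P (fun w => hP0 w.1 w.2)
  let ρh : ↥W₁ →* Multiplicative F := S₀.ρ.comp π₀
  have hρh : ∀ w : ↥W₁, ρh w = S₀.ρ ⟨w.1.1, hP0 w.1 w.2⟩ := fun w => rfl
  have hsurj : Function.Surjective ρh := by
    intro x
    obtain ⟨w, hw, g₀, e1, e2⟩ := h3 x
    refine ⟨⟨w, hw⟩, ?_⟩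
    rw [hρh, ← e2]
    congr 1
    exact Subtype.ext e1.symm
  -- the automorphism
  let φ : ↥W₁ →* ↥W₁ :=
    { toFun := fun w => ⟨(S₀.y, S.y) * w.1 * (S₀.y, S.y)⁻¹, h2 w.1 w.2⟩
      map_one' := by
        apply Subtype.ext
        simp
      map_mul' := fun w w' => by
        apply Subtype.ext
        show (S₀.y, S.y) * (w.1 * w'.1) * (S₀.y, S.y)⁻¹ =
          ((S₀.y, S.y) * w.1 * (S₀.y, S.y)⁻¹) * ((S₀.y, S.y) * w'.1 * (S₀.y, S.y)⁻¹)
        group }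
  have hφinj : Function.Injective φ := by
    intro w w' hww
    have h5 := congrArg Subtype.val hww
    have h6 : (S₀.y, S.y) * w.1 * (S₀.y, S.y)⁻¹ = (S₀.y, S.y) * w'.1 * (S₀.y, S.y)⁻¹ := h5
    apply Subtype.ext
    exact mul_left_cancel (mul_right_cancel h6)
  have hφbij : Function.Bijective φ := Finite.injective_iff_bijective.mp hφinj
  let τ : MulAut ↥W₁ := MulEquiv.ofBijective φ hφbij
  have hτval : ∀ w : ↥W₁, ((τ w : ↥W₁) : G₀ × X) = (S₀.y, S.y) * w.1 * (S₀.y, S.y)⁻¹ :=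
    fun w => rfl
  have hτ : ∀ w, ρh (τ w) = Multiplicative.ofAdd (ζ * Multiplicative.toAdd (ρh w)) := by
    intro w
    rw [hρh, hρh]
    exact S₀.equiv ⟨w.1.1, hP0 w.1 w.2⟩ ⟨(τ w).1.1, hP0 _ (τ w).2⟩ rfl
  -- kernel elements are central
  have hcentral : ∀ k : ↥W₁, ρh k = 1 → ∀ z : G₀ × X, z * k.1 = k.1 * z := by
    intro k hk z
    obtain ⟨g₀, g, e1, e2, e3⟩ := h1 k.1 k.2
    have hg₀ : S₀.ρ g₀ = 1 := by
      rw [← hk, hρh]
      congr 1
      exact Subtype.ext e1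
    have hg : S.ρ g = 1 := by rw [← e3, hg₀]
    have c1 := S₀.central g₀ hg₀ z.1
    have c2 := S.central g hg z.2
    rw [e1] at c1
    rw [e2] at c2
    exact Prod.ext c1 c2
  have hcen : ∀ k, ρh k = 1 → ∀ w, w * k = k * w := by
    intro k hk w
    apply Subtype.ext
    exact hcentral k hk w.1
  have hfix : ∀ k, ρh k = 1 → τ k = k := by
    intro k hk
    apply Subtype.ext
    rw [hτval, hcentral k hk (S₀.y, S.y), mul_assoc, mul_inv_cancel, mul_one]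
  have hmin : ∀ S' : Subgroup ↥W₁, (∀ s ∈ S', τ s ∈ S') → (∀ x, ∃ s ∈ S', ρh s = x) →
      S' = ⊤ := by
    intro S' hst hon
    have h7 : S'.map W₁.subtype = W₁ := by
      apply h4
      · rintro _ ⟨s, -, rfl⟩
        exact s.2
      · rintro _ ⟨s, hs, rfl⟩
        exact ⟨τ s, hst s hs, rfl⟩
      · intro x
        obtain ⟨s, hs, hsx⟩ := hon x
        exact ⟨s.1, ⟨s, hs, rfl⟩, ⟨s.1.1, hP0 s.1 s.2⟩, rfl, hsx⟩
    rw [eq_top_iff]
    intro w _
    have h8 : (w : G₀ × X) ∈ S'.map W₁.subtype := by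
      rw [h7]
      exact w.2
    obtain ⟨s, hs, e⟩ := h8
    have h9 : s = w := Subtype.ext e
    rw [← h9]
    exact hs
  have hker := ker_le_commutator H ρh τ hsurj hτ hfix hmin
  obtain ⟨hb1, hb2⟩ := card_ker_bound H ρh τ hsurj hτ hcen hfix hker
  have hcard : Nat.card ↥W₁ = Nat.card ↥ρh.ker * Nat.card F := by
    have h9 := Subgroup.card_mul_index ρh.ker
    rw [Subgroup.index_ker, MonoidHom.range_eq_top.mpr hsurj, Subgroup.card_top] at h9
    rw [← h9]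
    rfl
  constructor
  · rw [hcard]
    calc (Nat.card ↥ρh.ker * Nat.card F) ^ 2 = Nat.card ↥ρh.ker ^ 2 * Nat.card F ^ 2 := by ring
      _ ≤ Nat.card F * Nat.card F ^ 2 := Nat.mul_le_mul_right _ hb1
      _ = Nat.card F ^ 3 := by ring
  · intro ha
    have hbot : ρh.ker = ⊥ := by
      rw [Subgroup.eq_bot_iff_forall]
      intro k hk
      exact hb2 ha k (MonoidHom.mem_ker.mp hk)
    rw [hcard, hbot, Subgroup.card_bot, one_mul]

end Cfsg.Agent.Lib.Helper55.SCH
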