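import Cfsg.Agent.Lib.Helper55.SchDefs

/-! Project SCH (S4395), piece SCH-FibC (proved by helper83): from a small invariant onto subgroup
of the fibre product to an equivariant homomorphism. -/

set_option autoImplicit false
universe u v

namespace Cfsg.Agent.Lib.Helper55.SCH

/-- From a small invariant onto subgroup of the fibre product to an equivariant homomorphism.
Proof: `pr₁ W₁ := W₁.map (MonoidHom.fst _ _)` is `≤ S₀.P` (`h1`), stable under `S₀.y` (`h2`) and onto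
`F` (`h3`), so `= S₀.P` by `S₀.minimal`.  Hence `w ↦ w.1` is a surjection `W₁ → S₀.P`, and by `hcard`
a bijection.  Define `f g := (the unique w ∈ W₁ with w.1 = g).2`; it is a homomorphism, `f g ∈ S.P`
and `S.ρ (f g) = S₀.ρ g` by `h1` (`InFib`), and `f (y₀ g y₀⁻¹) = y (f g) y⁻¹` by `h2` + uniqueness.
`pr₂ W₁` is `≤ S.P`, stable under `S.y`, onto `F` (via `h3` and `InFib`), so `= S.P` by `S.minimal`:
`f` is onto `S.P`. -/
theorem exists_hom_of_fib {p q r : ℕ} {F : Type} [Field F] {ζ : F} {G₀ : Type u} {X : Type v} [Group G₀] [Group X]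
    [Finite G₀] [Finite X] (S₀ : Sch p q r ζ G₀) (S : Sch p q r ζ X)
    (W₁ : Subgroup (G₀ × X))
    (h1 : ∀ w ∈ W₁, InFib S₀ S w)
    (h2 : ∀ w ∈ W₁, (S₀.y, S.y) * w * (S₀.y, S.y)⁻¹ ∈ W₁)
    (h3 : ∀ x : Multiplicative F, ∃ w ∈ W₁, ∃ g₀ : ↥S₀.P, (g₀ : G₀) = w.1 ∧ S₀.ρ g₀ = x)
    (hcard : Nat.card ↥W₁ ≤ Nat.card ↥S₀.P) :
    ∃ f : ↥S₀.P →* X, (∀ g, f g ∈ S.P) ∧
      (∀ g h : ↥S₀.P, (h : G₀) = S₀.y * (g : G₀) * S₀.y⁻¹ → f h = S.y * f g * S.y⁻¹) ∧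
      (∀ (g : ↥S₀.P) (g' : ↥S.P), (g' : X) = f g → S.ρ g' = S₀.ρ g) ∧
      (∀ g' : ↥S.P, ∃ g, f g = (g' : X)) := by
  classical
  -- the first projection of `W₁` is `S₀.P`
  have hA : W₁.map (MonoidHom.fst G₀ X) = S₀.P := by
    apply S₀.minimal
    · rintro _ ⟨w, hw, rfl⟩
      obtain ⟨g₀, g, hg₀, hg, hρ⟩ := h1 w hw
      show w.1 ∈ S₀.P
      rw [← hg₀]
      exact g₀.2
    · rintro _ ⟨w, hw, rfl⟩
      exact ⟨_, h2 w hw, rfl⟩
    · intro x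
      obtain ⟨w, hw, g₀, hg₀, hρ⟩ := h3 x
      exact ⟨g₀, ⟨w, hw, hg₀.symm⟩, hρ⟩
  let φ : ↥W₁ →* ↥S₀.P := ((MonoidHom.fst G₀ X).comp W₁.subtype).codRestrict S₀.P (fun w => by
    obtain ⟨g₀, g, hg₀, hg, hρ⟩ := h1 w.1 w.2
    show (w : G₀ × X).1 ∈ S₀.P
    rw [← hg₀]
    exact g₀.2)
  have hφ : ∀ w : ↥W₁, (φ w : G₀) = (w : G₀ × X).1 := fun w => rfl
  have hφs : Function.Surjective φ := by
    intro g
    have hg : (g : G₀) ∈ W₁.map (MonoidHom.fst G₀ X) := by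
      rw [hA]
      exact g.2
    obtain ⟨w, hw, hwg⟩ := hg
    exact ⟨⟨w, hw⟩, Subtype.ext hwg⟩
  have hφb : Function.Bijective φ := by
    rw [Nat.bijective_iff_surjective_and_card]
    exact ⟨hφs, le_antisymm hcard (Nat.card_le_card_of_surjective φ hφs)⟩
  let e : ↥W₁ ≃* ↥S₀.P := MulEquiv.ofBijective φ hφb
  let f : ↥S₀.P →* X := ((MonoidHom.snd G₀ X).comp W₁.subtype).comp e.symm.toMonoidHom
  have hf : ∀ g : ↥S₀.P, f g = ((e.symm g : ↥W₁) : G₀ × X).2 := fun g => rfl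
  have hfst : ∀ g : ↥S₀.P, ((e.symm g : ↥W₁) : G₀ × X).1 = (g : G₀) := by
    intro g
    have h4 : ((e (e.symm g) : ↥S₀.P) : G₀) = (g : G₀) :=
      congrArg Subtype.val (e.apply_symm_apply g)
    exact h4
  have key : ∀ (w : G₀ × X) (hw : w ∈ W₁) (g : ↥S₀.P), w.1 = (g : G₀) → f g = w.2 := by
    intro w hw g hwg
    have h : e ⟨w, hw⟩ = g := Subtype.ext hwg
    rw [hf, ← h, e.symm_apply_apply]
  refine ⟨f, ?_, ?_, ?_, ?_⟩
  · intro g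
    obtain ⟨g₀, g', hg₀, hg', hρ⟩ := h1 _ (e.symm g).2
    rw [hf, ← hg']
    exact g'.2
  · intro g h hgh
    have hw' := h2 _ (e.symm g).2
    have h5 : ((S₀.y, S.y) * ((e.symm g : ↥W₁) : G₀ × X) * (S₀.y, S.y)⁻¹).1 = (h : G₀) := by
      rw [hgh, ← hfst g]
      rfl
    rw [key _ hw' h h5, hf]
    rfl
  · intro g g' hg'
    obtain ⟨g₀, g₁, hg₀, hg₁, hρ⟩ := h1 _ (e.symm g).2
    have e0 : g₀ = g := Subtype.ext (hg₀.trans (hfst g))
    have e1 : g₁ = g' := Subtype.ext (hg₁.trans (by rw [hg', hf]))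
    rw [← e1, ← e0, hρ]
  · have hA' : W₁.map (MonoidHom.snd G₀ X) = S.P := by
      apply S.minimal
      · rintro _ ⟨w, hw, rfl⟩
        obtain ⟨g₀, g, hg₀, hg, hρ⟩ := h1 w hw
        show w.2 ∈ S.P
        rw [← hg]
        exact g.2
      · rintro _ ⟨w, hw, rfl⟩
        exact ⟨_, h2 w hw, rfl⟩
      · intro x
        obtain ⟨w, hw, g₀, hg₀, hρ⟩ := h3 x
        obtain ⟨g₀', g, hg₀', hg, hρ'⟩ := h1 w hw
        have h6 : g₀' = g₀ := Subtype.ext (hg₀'.trans hg₀.symm)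
        refine ⟨g, ⟨w, hw, hg.symm⟩, ?_⟩
        rw [← hρ', h6, hρ]
    intro g'
    have hg : (g' : X) ∈ W₁.map (MonoidHom.snd G₀ X) := by
      rw [hA']
      exact g'.2
    obtain ⟨w, hw, hwg⟩ := hg
    exact ⟨e ⟨w, hw⟩, (key w hw _ rfl).trans hwg⟩

end Cfsg.Agent.Lib.Helper55.SCH
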