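import Cfsg.Agent.Lib.Helper55.SchDefs

/-! Project SCH (S4395), piece SCH-HomExt.  PLACEHOLDER: replace the `sorry`(s) in this ONE file;
keep the statement(s), names and namespace exactly.  You may add private/auxiliary lemmas
above the main theorem(s) in this file (same namespace). -/

set_option autoImplicit false
universe u v

namespace Cfsg.Agent.Lib.Helper55.SCH

/-- independence of the representation `x = n * c ^ i` -/
theorem hom_ext_cyclic_wd {G : Type*} {X : Type*} [Group G] [Group X] [Finite G] (N : Subgroup G)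
    (c : G) (hint : ∀ i : ℕ, c ^ i ∈ N → c ^ i = 1) (f : ↥N →* X) (y : X)
    (hy : y ^ orderOf c = 1) (n n' : ↥N) (i j : ℕ)
    (h : (n : G) * c ^ i = (n' : G) * c ^ j) : f n * y ^ i = f n' * y ^ j := by
  have hd : 0 < orderOf c := orderOf_pos c
  have h1 : c ^ i * c ^ ((orderOf c - 1) * i) = 1 := by
    rw [← pow_add]
    have : i + (orderOf c - 1) * i = orderOf c * i := by
      have h2 : orderOf c - 1 + 1 = orderOf c := by omega
      calc i + (orderOf c - 1) * i = (orderOf c - 1 + 1) * i := by ring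
        _ = orderOf c * i := by rw [h2]
    rw [this, pow_mul, pow_orderOf_eq_one, one_pow]
  have h2 : (n : G) = (n' : G) * c ^ (j + (orderOf c - 1) * i) := by
    have h3 : (n : G) * c ^ i * c ^ ((orderOf c - 1) * i) =
        (n' : G) * c ^ j * c ^ ((orderOf c - 1) * i) := by rw [h]
    rw [mul_assoc, h1, mul_one, mul_assoc, ← pow_add] at h3
    exact h3
  have h4 : c ^ (j + (orderOf c - 1) * i) ∈ N := by
    have h5 : c ^ (j + (orderOf c - 1) * i) = (n' : G)⁻¹ * (n : G) := by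
      rw [h2]; group
    rw [h5]
    exact N.mul_mem (N.inv_mem n'.2) n.2
  have h6 : c ^ (j + (orderOf c - 1) * i) = 1 := hint _ h4
  have hnn : n = n' := by
    apply Subtype.ext
    rw [h2, h6, mul_one]
  have h7 : y ^ (j + (orderOf c - 1) * i) = 1 := by
    obtain ⟨k, hk⟩ := orderOf_dvd_of_pow_eq_one h6
    rw [hk, pow_mul, hy, one_pow]
  have h8 : y ^ i * y ^ ((orderOf c - 1) * i) = 1 := by
    rw [← pow_add]
    have : i + (orderOf c - 1) * i = orderOf c * i := by
      have h2 : orderOf c - 1 + 1 = orderOf c := by omega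
      calc i + (orderOf c - 1) * i = (orderOf c - 1 + 1) * i := by ring
        _ = orderOf c * i := by rw [h2]
    rw [this, pow_mul, hy, one_pow]
  have h9 : y ^ j = y ^ i := by
    have hA : y ^ (j + (orderOf c - 1) * i) * y ^ i = y ^ j := by
      rw [← pow_add]
      have hE : j + (orderOf c - 1) * i + i = j + orderOf c * i := by
        have h2 : orderOf c - 1 + 1 = orderOf c := by omega
        calc j + (orderOf c - 1) * i + i = j + (orderOf c - 1 + 1) * i := by ring
          _ = j + orderOf c * i := by rw [h2]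
      rw [hE, pow_add, pow_mul, hy, one_pow, mul_one]
    rw [h7, one_mul] at hA
    exact hA.symm
  rw [hnn, h9]

/-- conjugation by powers of `c` -/
theorem hom_ext_cyclic_conj {G : Type*} {X : Type*} [Group G] [Group X] (N : Subgroup G)
    (hN : N.Normal) (c : G) (f : ↥N →* X) (y : X)
    (hf : ∀ n m : ↥N, (m : G) = c * (n : G) * c⁻¹ → f m = y * f n * y⁻¹) (m : ↥N) (i : ℕ) :
    ∃ m' : ↥N, (m' : G) = c ^ i * (m : G) * (c ^ i)⁻¹ ∧ f m' = y ^ i * f m * (y ^ i)⁻¹ := by
  induction i with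
  | zero => exact ⟨m, by simp, by simp⟩
  | succ i ih =>
    obtain ⟨m₁, h1, h2⟩ := ih
    refine ⟨⟨c * (m₁ : G) * c⁻¹, hN.conj_mem _ m₁.2 c⟩, ?_, ?_⟩
    · show c * (m₁ : G) * c⁻¹ = c ^ (i + 1) * (m : G) * (c ^ (i + 1))⁻¹
      rw [h1, pow_succ']
      group
    · rw [hf m₁ ⟨c * (m₁ : G) * c⁻¹, hN.conj_mem _ m₁.2 c⟩ rfl, h2, pow_succ']
      group

/-- Extension of a homomorphism from a normal subgroup `N` to `G = N⟨c⟩` (`N ∩ ⟨c⟩ = 1`).
Proof: for `x : G` choose (`Classical.choose`) `n`, `i` with `x = n * c ^ i` and put `φ x = f n * y ^ i`.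
Independence: `n * c ^ i = n' * c ^ j` (say `i ≤ j`) gives `c ^ (j - i) ∈ N`, so `c ^ (j - i) = 1`,
`orderOf c ∣ j - i`, `y ^ (j - i) = 1` (`hy`), and `n = n'`.  So `φ (n * c ^ i) = f n * y ^ i` for ALL
`n`, `i`.  Multiplicativity: `(n c^i)(m c^j) = (n * (c^i m c^-i)) * c^(i+j)` and
`f (c^i m c^-i) = y^i f m y^-i` (induction on `i` from `hf`). -/
theorem hom_ext_cyclic {G : Type*} {X : Type*} [Group G] [Group X] [Finite G] (N : Subgroup G)
    (hN : N.Normal) (c : G) (hgen : ∀ x : G, ∃ n : ↥N, ∃ i : ℕ, x = (n : G) * c ^ i)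
    (hint : ∀ i : ℕ, c ^ i ∈ N → c ^ i = 1) (f : ↥N →* X) (y : X) (hy : y ^ orderOf c = 1)
    (hf : ∀ n m : ↥N, (m : G) = c * (n : G) * c⁻¹ → f m = y * f n * y⁻¹) :
    ∃ φ : G →* X, (∀ n : ↥N, φ (n : G) = f n) ∧ φ c = y := by
  classical
  let φ₀ : G → X := fun x =>
    f (Classical.choose (hgen x)) * y ^ (Classical.choose (Classical.choose_spec (hgen x)))
  have hφ : ∀ (n : ↥N) (i : ℕ), φ₀ ((n : G) * c ^ i) = f n * y ^ i := by
    intro n i
    have hs := Classical.choose_spec (Classical.choose_spec (hgen ((n : G) * c ^ i)))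
    exact hom_ext_cyclic_wd N c hint f y hy _ _ _ _ hs.symm
  have hmul : ∀ a b : G, φ₀ (a * b) = φ₀ a * φ₀ b := by
    intro a b
    obtain ⟨n, i, rfl⟩ := hgen a
    obtain ⟨m, j, rfl⟩ := hgen b
    obtain ⟨m', hm1, hm2⟩ := hom_ext_cyclic_conj N hN c f y hf m i
    have h1 : (n : G) * c ^ i * ((m : G) * c ^ j) = ((n * m' : ↥N) : G) * c ^ (i + j) := by
      rw [Subgroup.coe_mul, hm1, pow_add]
      group
    rw [h1, hφ, hφ, hφ, map_mul, hm2, pow_add]
    group
  refine ⟨MonoidHom.mk' φ₀ hmul, fun n => ?_, ?_⟩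
  · have h := hφ n 0
    rw [pow_zero, mul_one, pow_zero, mul_one] at h
    exact h
  · have h := hφ 1 1
    rw [pow_one, Subgroup.coe_one, one_mul, map_one, one_mul, pow_one] at h
    exact h

end Cfsg.Agent.Lib.Helper55.SCH
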