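import Cfsg.Agent.Lib.Helper55.SchDefs
import Cfsg.Agent.Lib.Helper55.SchBoundA
/-! Project SCH (S4395), piece SCH-LemMin.  PLACEHOLDER: replace the `sorry`(s) in this ONE file;
keep the statement(s), names and namespace exactly.  You may add private/auxiliary lemmas
above the main theorem(s) in this file (same namespace). -/

set_option autoImplicit false
universe u v

namespace Cfsg.Agent.Lib.Helper55.SCH

open scoped commutatorElement in
/-- commutators do not see central factors -/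
theorem lemmin_comm {G : Type*} [Group G] (s t k l : G) (hk : ∀ x : G, x * k = k * x)
    (hl : ∀ x : G, x * l = l * x) : ⁅s * k, t * l⁆ = ⁅s, t⁆ := by
  rw [commutatorElement_def, commutatorElement_def, mul_inv_rev, mul_inv_rev]
  have e1 : s * k * (t * l) * (k⁻¹ * s⁻¹) = s * (t * l) * s⁻¹ := by
    have h0 : k * (t * l) * k⁻¹ = t * l := by rw [← hk (t * l), mul_inv_cancel_right]
    calc s * k * (t * l) * (k⁻¹ * s⁻¹) = s * (k * (t * l) * k⁻¹) * s⁻¹ := by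
          simp only [mul_assoc]
      _ = s * (t * l) * s⁻¹ := by rw [h0]
  have e2 : s * (t * l) * s⁻¹ * (l⁻¹ * t⁻¹) = s * t * s⁻¹ * t⁻¹ := by
    have h0 : l * s⁻¹ * l⁻¹ = s⁻¹ := by rw [← hl s⁻¹, mul_inv_cancel_right]
    calc s * (t * l) * s⁻¹ * (l⁻¹ * t⁻¹) = s * t * (l * s⁻¹ * l⁻¹) * t⁻¹ := by
          simp only [mul_assoc]
      _ = s * t * s⁻¹ * t⁻¹ := by rw [h0]
  rw [e1, e2]

open scoped commutatorElement in
/-- a subgroup which together with central elements covers the group contains the commutator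
subgroup -/
theorem lemmin_le {P : Type*} [Group P] (T : Subgroup P)
    (h : ∀ a : P, ∃ s ∈ T, ∀ x : P, x * (s⁻¹ * a) = (s⁻¹ * a) * x) :
    _root_.commutator P ≤ T := by
  show ⁅(⊤ : Subgroup P), ⊤⁆ ≤ T
  rw [Subgroup.commutator_le]
  intro a _ b _
  obtain ⟨sa, hsa, hka⟩ := h a
  obtain ⟨sb, hsb, hkb⟩ := h b
  have hab : ⁅a, b⁆ = ⁅sa, sb⁆ := by
    have h' := lemmin_comm sa sb (sa⁻¹ * a) (sb⁻¹ * b) hka hkb
    rwa [mul_inv_cancel_left, mul_inv_cancel_left] at h'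
  rw [hab, commutatorElement_def]
  exact T.mul_mem (T.mul_mem (T.mul_mem hsa hsb) (T.inv_mem hsa)) (T.inv_mem hsb)

/-- In a Schmidt structure, a subgroup of `P` mapping onto `F` is `P` (no invariance needed).
Proof: apply `ker_le_commutator` to `W := ↥S₀.P`, `ρ := S₀.ρ`, `τ :=` conjugation by `S₀.y`
(`MulAut.conjNormal` for the normal subgroup `S₀.P`; `hτ` is `S₀.equiv`, `hfix` from `S₀.central`,
`hmin` from `S₀.minimal` applied to `S'.map S₀.P.subtype`).  So `ker ρ ≤ [P, P]`.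
Now `P = S * ker ρ` (given `g ∈ P` pick `s ∈ S` with the same `ρ`), and `ker ρ` is central, so
`[P, P] = [S, S] ≤ S` (commutators of `s k`, `s' k'` equal `[s, s']`); hence `ker ρ ≤ S` and `S = P`. -/
theorem sub_eq_of_onto {p q a r : ℕ} {F : Type} [Field F] {ζ : F} (H : Hyp p q a F ζ)
    {X : Type*} [Group X] [Finite X] (S₀ : Sch p q r ζ X) (S : Subgroup X) (hS : S ≤ S₀.P)
    (hon : ∀ x : Multiplicative F, ∃ s : ↥S₀.P, (s : X) ∈ S ∧ S₀.ρ s = x) : S = S₀.P := by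
  have hnorm := S₀.normal
  have hτval : ∀ w : ↥S₀.P, ((MulAut.conjNormal S₀.y w : ↥S₀.P) : X) =
      S₀.y * (w : X) * S₀.y⁻¹ := fun w => MulAut.conjNormal_apply S₀.y w
  have hτ : ∀ w : ↥S₀.P, S₀.ρ (MulAut.conjNormal S₀.y w) =
      Multiplicative.ofAdd (ζ * Multiplicative.toAdd (S₀.ρ w)) :=
    fun w => S₀.equiv w (MulAut.conjNormal S₀.y w) (hτval w)
  have hfix : ∀ k : ↥S₀.P, S₀.ρ k = 1 → MulAut.conjNormal S₀.y k = k := by
    intro k hk
    apply Subtype.ext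
    rw [hτval, S₀.central k hk S₀.y, mul_inv_cancel_right]
  have hmin : ∀ S' : Subgroup ↥S₀.P, (∀ s ∈ S', MulAut.conjNormal S₀.y s ∈ S') →
      (∀ x, ∃ s ∈ S', S₀.ρ s = x) → S' = ⊤ := by
    intro S' hinv hon'
    have h1 : S'.map S₀.P.subtype = S₀.P := by
      apply S₀.minimal (S'.map S₀.P.subtype)
      · rintro _ ⟨s, _, rfl⟩
        exact s.2
      · rintro _ ⟨s, hs, rfl⟩
        exact ⟨MulAut.conjNormal S₀.y s, hinv s hs, hτval s⟩
      · intro x
        obtain ⟨s, hs, hsx⟩ := hon' x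
        exact ⟨s, ⟨s, hs, rfl⟩, hsx⟩
    rw [eq_top_iff]
    intro g _
    have hg : (g : X) ∈ S'.map S₀.P.subtype := by
      rw [h1]
      exact g.2
    obtain ⟨s, hs, hsg⟩ := hg
    have hsg' : s = g := Subtype.ext hsg
    rw [← hsg']
    exact hs
  have hkc := ker_le_commutator H S₀.ρ (MulAut.conjNormal S₀.y) S₀.surj hτ hfix hmin
  have hdec : ∀ g : ↥S₀.P, ∃ s : ↥S₀.P, (s : X) ∈ S ∧ S₀.ρ (s⁻¹ * g) = 1 := by
    intro g
    obtain ⟨s, hs, hsg⟩ := hon (S₀.ρ g)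
    exact ⟨s, hs, by rw [map_mul, map_inv, hsg, inv_mul_cancel]⟩
  have hcen : ∀ k : ↥S₀.P, S₀.ρ k = 1 → ∀ x : ↥S₀.P, x * k = k * x := by
    intro k hk x
    apply Subtype.ext
    exact S₀.central k hk (x : X)
  have hcomm : _root_.commutator ↥S₀.P ≤ S.comap S₀.P.subtype := by
    apply lemmin_le
    intro a
    obtain ⟨sa, hsa, hka⟩ := hdec a
    exact ⟨sa, hsa, hcen _ hka⟩
  apply le_antisymm hS
  intro g hg
  obtain ⟨s, hs, hk⟩ := hdec ⟨g, hg⟩
  have hkS : ((s⁻¹ * ⟨g, hg⟩ : ↥S₀.P) : X) ∈ S := hcomm (hkc _ hk)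
  have hgs : g = (s : X) * ((s⁻¹ * ⟨g, hg⟩ : ↥S₀.P) : X) := by
    rw [Subgroup.coe_mul, Subgroup.coe_inv, mul_inv_cancel_left]
  rw [hgs]
  exact S.mul_mem hs hkS

end Cfsg.Agent.Lib.Helper55.SCH
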