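import Cfsg.Agent.Lib.Helper55.SchDefs
import Cfsg.Agent.Lib.Helper55.SchFldA
/-! Project SCH (S4395), piece SCH-ModId (proved by helper91).
Route: `Additive A` is a `ZMod p`-vector space, `T` the endomorphism given by `θ`, `μ` its minimal
polynomial; `μ ∣ X ^ q - 1` has a root `ζ ^ k` in `F` (count roots), `q ∤ k` (no fixed points);
`f ↦ f(T) v` and `f ↦ f(ζ ^ k)` are onto with `ker ⊆ ker`, which gives an additive surjection
`A → F` intertwining `T` and `ζ ^ k`; its kernel is `θ`-stable, hence trivial. -/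

set_option autoImplicit false
universe u v

namespace Cfsg.Agent.Lib.Helper55.SCH

open Polynomial

/-- linear-algebra core of `modid` -/
theorem modid_core0 {p q a : ℕ} {F : Type} [Field F] {ζ : F} (H : Hyp p q a F ζ)
    [Fact p.Prime] {M : Type*} [AddCommGroup M] [Module (ZMod p) M] [Finite M] [Nontrivial M]
    (T : Module.End (ZMod p) M) (hTq : T ^ q = 1)
    (hirr : ∀ B : AddSubgroup M, (∀ b ∈ B, T b ∈ B) → B = ⊥ ∨ B = ⊤)
    (hfix : ∀ x, T x = x → x = 0) :
    ∃ k : ℕ, ¬ q ∣ k ∧ ∃ e : M ≃+ F, ∀ x, e (T x) = ζ ^ k * e x := by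
  classical
  haveI := H.char
  haveI := H.fin
  letI : Algebra (ZMod p) F := ZMod.algebra F p
  have hq := H.hq
  have hmon : (X ^ q - C 1 : (ZMod p)[X]).Monic := monic_X_pow_sub_C 1 hq.ne_zero
  have hXT : aeval T (X ^ q - C 1 : (ZMod p)[X]) = 0 := by
    simp [hTq]
  have hint : IsIntegral (ZMod p) T := ⟨X ^ q - C 1, hmon, hXT⟩
  have hμT : aeval T (minpoly (ZMod p) T) = 0 := minpoly.aeval _ _
  have hμdvd : minpoly (ZMod p) T ∣ X ^ q - C 1 := minpoly.dvd _ _ hXT
  have hμdeg : 0 < (minpoly (ZMod p) T).natDegree := minpoly.natDegree_pos hint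
  have hμ0 : minpoly (ZMod p) T ≠ 0 := minpoly.ne_zero hint
  generalize hμeq : minpoly (ZMod p) T = μ at *
  obtain ⟨h, hh⟩ := hμdvd
  have hh0 : h ≠ 0 := by
    rintro rfl
    rw [mul_zero] at hh
    exact hmon.ne_zero hh
  -- a root of `μ` among the powers of `ζ`
  have hroot : ∃ k, k < q ∧ aeval (ζ ^ k) μ = 0 := by
    by_contra hno
    push Not at hno
    have hroots : ∀ i < q, aeval (ζ ^ i) h = 0 := by
      intro i hi
      have h1 := congrArg (aeval (ζ ^ i)) hh
      simp only [map_sub, map_pow, aeval_X, aeval_C, map_one, map_mul] at h1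
      have hz : (ζ ^ i) ^ q - 1 = 0 := by
        rw [← pow_mul, mul_comm, pow_mul, ← H.ord, pow_orderOf_eq_one, one_pow, sub_self]
      rw [hz] at h1
      exact (mul_eq_zero.mp h1.symm).resolve_left (hno i hi)
    have hh'0 : h.map (algebraMap (ZMod p) F) ≠ 0 :=
      (Polynomial.map_ne_zero_iff (algebraMap (ZMod p) F).injective).mpr hh0
    have hsub : ((Finset.range q).image (fun i => ζ ^ i)).val ⊆
        (h.map (algebraMap (ZMod p) F)).roots := by
      intro x hx
      rw [Finset.mem_val, Finset.mem_image] at hx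
      obtain ⟨i, hi, rfl⟩ := hx
      rw [mem_roots hh'0, IsRoot.def, eval_map_algebraMap]
      exact hroots i (Finset.mem_range.mp hi)
    have hcard := Polynomial.card_le_degree_of_subset_roots hsub
    have hinj : ((Finset.range q).image (fun i => ζ ^ i)).card = q := by
      rw [Finset.card_image_of_injOn, Finset.card_range]
      intro i hi j hj hij
      have hi' : i ∈ Set.Iio (orderOf ζ) := by
        rw [H.ord]; exact Finset.mem_range.mp (Finset.mem_coe.mp hi)
      have hj' : j ∈ Set.Iio (orderOf ζ) := by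
        rw [H.ord]; exact Finset.mem_range.mp (Finset.mem_coe.mp hj)
      exact pow_injOn_Iio_orderOf hi' hj' hij
    have hdeg : (h.map (algebraMap (ZMod p) F)).natDegree = h.natDegree := natDegree_map _
    have hsum : μ.natDegree + h.natDegree = q := by
      have h1 := congrArg natDegree hh
      rw [natDegree_mul hμ0 hh0, natDegree_X_pow_sub_C] at h1
      exact h1.symm
    omega
  obtain ⟨k, hkq, hk⟩ := hroot
  have hk0 : k ≠ 0 := by
    rintro rfl
    rw [pow_zero] at hk
    have h1 : μ.IsRoot 1 := by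
      have h2 : aeval (algebraMap (ZMod p) F 1) μ = algebraMap (ZMod p) F (aeval (1 : ZMod p) μ) :=
        aeval_algebraMap_apply F (1 : ZMod p) μ
      rw [map_one, hk] at h2
      have h3 := (map_eq_zero (algebraMap (ZMod p) F)).mp h2.symm
      rw [IsRoot.def, ← h3, coe_aeval_eq_eval]
    obtain ⟨g, hg⟩ := dvd_iff_isRoot.mpr h1
    have hg0 : g ≠ 0 := by
      rintro rfl
      rw [mul_zero] at hg
      exact hμ0 hg
    have hgT : aeval T g ≠ 0 := by
      intro h0
      have hd : μ ∣ g := by rw [← hμeq]; exact minpoly.dvd (ZMod p) T h0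
      have h4 := natDegree_le_of_dvd hd hg0
      have h2 := congrArg natDegree hg
      rw [natDegree_mul (X_sub_C_ne_zero 1) hg0, natDegree_X_sub_C] at h2
      omega
    obtain ⟨u, hu⟩ : ∃ u, aeval T g u ≠ 0 := by
      by_contra hcon
      push Not at hcon
      exact hgT (LinearMap.ext hcon)
    apply hu
    apply hfix
    have h3 : aeval T μ u = 0 := by rw [hμT]; rfl
    rw [hg] at h3
    simp only [map_mul, map_sub, aeval_X, aeval_C, map_one, Module.End.mul_apply,
      LinearMap.sub_apply, Module.End.one_apply] at h3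
    exact sub_eq_zero.mp h3
  have hkq' : ¬ q ∣ k := Nat.not_dvd_of_pos_of_lt (Nat.pos_of_ne_zero hk0) hkq
  refine ⟨k, hkq', ?_⟩
  obtain ⟨v, hv⟩ := exists_ne (0 : M)
  -- `f ↦ f(T) v` is onto
  have hψsurj : ∀ x : M, ∃ f : (ZMod p)[X], aeval T f v = x := by
    let B : AddSubgroup M :=
      { carrier := {x | ∃ f : (ZMod p)[X], aeval T f v = x}
        add_mem' := by
          rintro _ _ ⟨f, rfl⟩ ⟨g, rfl⟩
          exact ⟨f + g, by simp⟩
        zero_mem' := ⟨0, by simp⟩
        neg_mem' := by
          rintro _ ⟨f, rfl⟩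
          exact ⟨-f, by simp⟩ }
    have hB : ∀ b ∈ B, T b ∈ B := by
      rintro _ ⟨f, rfl⟩
      exact ⟨X * f, by simp [Module.End.mul_apply]⟩
    rcases hirr B hB with h | h
    · exfalso
      have h1 : v ∈ B := ⟨1, by simp⟩
      rw [h] at h1
      exact hv (AddSubgroup.mem_bot.mp h1)
    · intro x
      have h1 : x ∈ B := by rw [h]; exact AddSubgroup.mem_top x
      exact h1
  -- kernel inclusion
  have hK1 : ∀ f : (ZMod p)[X], aeval T f v = 0 → aeval (ζ ^ k) f = 0 := by
    intro f hf
    have hfT : aeval T f = 0 := by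
      apply LinearMap.ext
      intro x
      obtain ⟨g, rfl⟩ := hψsurj x
      have h1 : aeval T f (aeval T g v) = aeval T g (aeval T f v) := by
        rw [← Module.End.mul_apply, ← Module.End.mul_apply, ← map_mul, ← map_mul, mul_comm]
      rw [h1, hf, map_zero]; rfl
    obtain ⟨g, hg⟩ : μ ∣ f := by rw [← hμeq]; exact minpoly.dvd (ZMod p) T hfT
    rw [hg, map_mul, hk, zero_mul]
  -- `f ↦ f(ζ ^ k)` is onto
  have hχsurj : ∀ y : F, ∃ f : (ZMod p)[X], aeval (ζ ^ k) f = y := by
    let B : AddSubgroup F :=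
      { carrier := {y | ∃ f : (ZMod p)[X], aeval (ζ ^ k) f = y}
        add_mem' := by
          rintro _ _ ⟨f, rfl⟩ ⟨g, rfl⟩
          exact ⟨f + g, by simp⟩
        zero_mem' := ⟨0, by simp⟩
        neg_mem' := by
          rintro _ ⟨f, rfl⟩
          exact ⟨-f, by simp⟩ }
    have hB : ∀ b ∈ B, ζ ^ k * b ∈ B := by
      rintro _ ⟨f, rfl⟩
      exact ⟨X * f, by simp⟩
    rcases inv_sub H k hkq' B hB with h | h
    · exfalso
      have h1 : (1 : F) ∈ B := ⟨1, by simp⟩
      rw [h] at h1
      exact one_ne_zero (AddSubgroup.mem_bot.mp h1)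
    · intro y
      have h1 : y ∈ B := by rw [h]; exact AddSubgroup.mem_top y
      exact h1
  -- the map
  choose fx hfx using hψsurj
  have hkey : ∀ f : (ZMod p)[X], aeval (ζ ^ k) (fx (aeval T f v)) = aeval (ζ ^ k) f := by
    intro f
    have h1 : aeval T (fx (aeval T f v) - f) v = 0 := by
      rw [map_sub, LinearMap.sub_apply, hfx, sub_self]
    have h2 := hK1 _ h1
    rw [map_sub, sub_eq_zero] at h2
    exact h2
  have hadd : ∀ x y : M, aeval (ζ ^ k) (fx (x + y)) = aeval (ζ ^ k) (fx x) + aeval (ζ ^ k) (fx y) := by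
    intro x y
    have h1 : x + y = aeval T (fx x + fx y) v := by
      rw [map_add, LinearMap.add_apply, hfx, hfx]
    rw [h1, hkey, map_add]
  have hT : ∀ x : M, aeval (ζ ^ k) (fx (T x)) = ζ ^ k * aeval (ζ ^ k) (fx x) := by
    intro x
    have h1 : T x = aeval T (X * fx x) v := by
      rw [map_mul, aeval_X, Module.End.mul_apply, hfx]
    rw [h1, hkey, map_mul, aeval_X]
  let e₀ : M →+ F := AddMonoidHom.mk' (fun x => aeval (ζ ^ k) (fx x)) hadd
  have he₀ : ∀ x, e₀ x = aeval (ζ ^ k) (fx x) := fun x => rfl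
  have hsurj : Function.Surjective e₀ := by
    intro y
    obtain ⟨f, hf⟩ := hχsurj y
    exact ⟨aeval T f v, by rw [he₀, hkey, hf]⟩
  have hinj : Function.Injective e₀ := by
    rw [injective_iff_map_eq_zero]
    have hB : ∀ b ∈ e₀.ker, T b ∈ e₀.ker := by
      intro b hb
      rw [AddMonoidHom.mem_ker] at hb ⊢
      rw [he₀, hT, ← he₀, hb, mul_zero]
    rcases hirr e₀.ker hB with h | h
    · intro x hx
      have h1 : x ∈ e₀.ker := AddMonoidHom.mem_ker.mpr hx
      rw [h] at h1
      exact AddSubgroup.mem_bot.mp h1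
    · exfalso
      obtain ⟨x, hx⟩ := hsurj 1
      have h1 : x ∈ e₀.ker := by rw [h]; exact AddSubgroup.mem_top x
      rw [AddMonoidHom.mem_ker, hx] at h1
      exact one_ne_zero h1
  refine ⟨AddEquiv.ofBijective e₀ ⟨hinj, hsurj⟩, ?_⟩
  intro x
  exact hT x

/-- the core, stated for an additive endomorphism -/
theorem modid_core {p q a : ℕ} {F : Type} [Field F] {ζ : F} (H : Hyp p q a F ζ)
    [Fact p.Prime] {M : Type*} [AddCommGroup M] [Module (ZMod p) M] [Finite M] [Nontrivial M]
    (T₀ : M →+ M) (hTq : ∀ x, T₀^[q] x = x)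
    (hirr : ∀ B : AddSubgroup M, (∀ b ∈ B, T₀ b ∈ B) → B = ⊥ ∨ B = ⊤)
    (hfix : ∀ x, T₀ x = x → x = 0) :
    ∃ k : ℕ, ¬ q ∣ k ∧ ∃ e : M ≃+ F, ∀ x, e (T₀ x) = ζ ^ k * e x := by
  have hTq' : (AddMonoidHom.toZModLinearMap p T₀ : Module.End (ZMod p) M) ^ q = 1 := by
    apply LinearMap.ext
    intro x
    rw [Module.End.pow_apply]
    exact hTq x
  exact modid_core0 H (AddMonoidHom.toZModLinearMap p T₀) hTq' hirr hfix

/-- Identification of an irreducible module for a cyclic group of order `q` with `(F, ζ ^ ?)`.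
`A` is a nontrivial finite abelian `p`-group, `θ` an automorphism with `θ ^ q = 1`, irreducible, without
nontrivial fixed points.  Then for some `j` prime to `q` there is an isomorphism `e : A ≃* (F, +)`
with `e (θ ^ j x) = ζ * e x`.
Proof sketch (one possible route): (1) `{x | x ^ p = 1}` is a `θ`-stable nontrivial subgroup (Cauchy),
so `A` has exponent `p`: `Additive A` is a `ZMod p`-vector space and `θ` a linear endomorphism `T`.
(2) `T ^ q = 1` and `1 + T + ... + T^(q-1) = 0` (its image consists of fixed points).  Let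
`m := minpoly (ZMod p) T`; `m ∣ X ^ q - 1`; `m` is irreducible (if `m = m₁ m₂` then `ker m₁(T)` is a
`θ`-stable subgroup: `⊥` or `⊤`).  (3) `X ^ q - 1 = ∏_{i<q} (X - ζ ^ i)` over `F`, so `m` has a root
`ζ' = ζ ^ k` in `F`; `q ∤ k` (else `X - 1 ∣ m`, and then `T` has a nonzero fixed vector).
`minpoly (ZMod p) ζ' = m` (irreducible, monic, kills `ζ'`).  (4) Fix `v ≠ 0`.  The map
`(ZMod p)[X] → Additive A`, `f ↦ (aeval T f) v` is onto (image is `θ`-stable, nonzero) with kernel
`(m)` (`f(T) v = 0` ⟹ `f(T) = 0` on the span of the `T^i v`, which is everything); the map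
`(ZMod p)[X] → F`, `f ↦ aeval ζ' f` is onto (`gen_pow` for `ζ'`, or `H`-type argument: `ζ'` also has
order `q`) with the same kernel `(m)`.  This gives an additive bijection `ψ : F → A` with
`ψ (ζ' * x) = T (ψ x)`.  (5) Choose `j` with `k * j ≡ 1 [MOD q]`: `ζ' ^ j = ζ`, so `e := ψ⁻¹` satisfies
`e (θ ^ j x) = ζ * e x`.
Alternative route: the subring `E` of `End A` generated by `θ` is a finite field of order `p ^ a`
acting simply transitively on `A ∖ 0` after fixing `v`; `E ≃+* F` (`FiniteField.ringEquivOfCardEq`). -/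
theorem modid {p q a : ℕ} {F : Type} [Field F] {ζ : F} (H : Hyp p q a F ζ)
    {A : Type*} [CommGroup A] [Finite A] [Nontrivial A] (hA : IsPGroup p A) (θ : MulAut A)
    (hθq : ∀ x, (θ ^ q) x = x)
    (hirr : ∀ B : Subgroup A, (∀ b ∈ B, θ b ∈ B) → B = ⊥ ∨ B = ⊤)
    (hfix : ∀ x, θ x = x → x = 1) :
    ∃ j : ℕ, j.Coprime q ∧ ∃ e : A ≃* Multiplicative F,
      ∀ x, e ((θ ^ j) x) = Multiplicative.ofAdd (ζ * Multiplicative.toAdd (e x)) := by
  classical
  haveI : Fact p.Prime := ⟨H.hp⟩
  have hq := H.hq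
  -- `A` has exponent `p`
  have hexp : ∀ x : A, x ^ p = 1 := by
    let B : Subgroup A :=
      { carrier := {x | x ^ p = 1}
        mul_mem' := by
          intro x y hx hy
          simp only [Set.mem_setOf_eq] at *
          rw [mul_pow, hx, hy, one_mul]
        one_mem' := one_pow p
        inv_mem' := by
          intro x hx
          simp only [Set.mem_setOf_eq] at *
          rw [inv_pow, hx, inv_one] }
    have hB : ∀ b ∈ B, θ b ∈ B := by
      intro b hb
      show (θ b) ^ p = 1
      rw [← map_pow, (show b ^ p = 1 from hb), map_one]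
    rcases hirr B hB with h | h
    · exfalso
      have hcard : p ∣ Nat.card A := by
        obtain ⟨n, hn⟩ := IsPGroup.iff_card.mp hA
        have hn0 : n ≠ 0 := by
          rintro rfl
          rw [pow_zero] at hn
          have := Finite.one_lt_card (α := A)
          omega
        rw [hn]; exact dvd_pow_self p hn0
      obtain ⟨x, hx⟩ := exists_prime_orderOf_dvd_card' p hcard
      have hxB : x ∈ B := by show x ^ p = 1; rw [← hx, pow_orderOf_eq_one]
      rw [h, Subgroup.mem_bot] at hxB
      rw [hxB, orderOf_one] at hx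
      exact H.hp.one_lt.ne hx
    · intro x
      have h1 : x ∈ B := by rw [h]; exact Subgroup.mem_top x
      exact h1
  have hexp' : ∀ x : Additive A, p • x = 0 := fun x =>
    congrArg Additive.ofMul (hexp (Additive.toMul x))
  let T₀ : Additive A →+ Additive A := MonoidHom.toAdditive θ.toMonoidHom
  have hT1 : ∀ x : A, T₀ (Additive.ofMul x) = Additive.ofMul (θ x) := fun x => rfl
  have hTpow : ∀ (n : ℕ) (x : A), T₀^[n] (Additive.ofMul x) = Additive.ofMul ((θ ^ n) x) := by
    intro n
    induction n with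
    | zero => intro x; simp
    | succ n ih =>
      intro x
      rw [Function.iterate_succ_apply', ih, hT1, pow_succ', MulAut.mul_apply]
  have hTq : ∀ x : Additive A, T₀^[q] x = x := by
    intro x
    have h1 := hTpow q (Additive.toMul x)
    rw [hθq] at h1
    exact h1
  have hirr' : ∀ B : AddSubgroup (Additive A), (∀ b ∈ B, T₀ b ∈ B) → B = ⊥ ∨ B = ⊤ := by
    intro B hB
    let B' : Subgroup A :=
      { carrier := {x | Additive.ofMul x ∈ B}
        mul_mem' := fun hx hy => B.add_mem hx hy
        one_mem' := B.zero_mem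
        inv_mem' := fun hx => B.neg_mem hx }
    have hB' : ∀ b ∈ B', θ b ∈ B' := fun b hb => hB _ hb
    rcases hirr B' hB' with h | h
    · left
      rw [AddSubgroup.eq_bot_iff_forall]
      intro x hx
      have h1 : Additive.toMul x ∈ B' := hx
      rw [h, Subgroup.mem_bot] at h1
      exact congrArg Additive.ofMul h1
    · right
      rw [AddSubgroup.eq_top_iff']
      intro x
      have h1 : Additive.toMul x ∈ B' := by rw [h]; exact Subgroup.mem_top _
      exact h1
  have hfix' : ∀ x : Additive A, T₀ x = x → x = 0 := by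
    intro x hx
    have h1 : θ (Additive.toMul x) = Additive.toMul x := congrArg Additive.toMul hx
    exact congrArg Additive.ofMul (hfix _ h1)
  obtain ⟨k, hk, e, he⟩ := @modid_core p q a F _ ζ H _ (Additive A) _
    (AddCommGroup.zmodModule hexp') _ _ T₀ hTq hirr' hfix'
  -- the exponent `j`
  have hcop : Nat.Coprime k q := (Nat.coprime_comm.mp ((Nat.Prime.coprime_iff_not_dvd hq).mpr hk))
  obtain ⟨j, -, hj⟩ := Nat.exists_mul_mod_eq_one_of_coprime hcop hq.one_lt
  have hζ : (ζ ^ k) ^ j = ζ := by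
    rw [← pow_mul, ← pow_mod_orderOf, H.ord, hj, pow_one]
  have hjq : Nat.Coprime j q := by
    apply Nat.coprime_comm.mp
    rw [Nat.Prime.coprime_iff_not_dvd hq]
    intro hd
    have h1 : q ∣ k * j := Dvd.dvd.mul_left hd k
    rw [Nat.dvd_iff_mod_eq_zero, hj] at h1
    exact one_ne_zero h1
  have hepow : ∀ (n : ℕ) (x : Additive A), e (T₀^[n] x) = (ζ ^ k) ^ n * e x := by
    intro n
    induction n with
    | zero => intro x; simp
    | succ n ih =>
      intro x
      rw [Function.iterate_succ_apply', he, ih, pow_succ', mul_assoc]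
  refine ⟨j, hjq, AddEquiv.toMultiplicativeRight e, ?_⟩
  intro x
  have h1 := hepow j (Additive.ofMul x)
  rw [hTpow, hζ] at h1
  exact congrArg Multiplicative.ofAdd h1

end Cfsg.Agent.Lib.Helper55.SCH
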