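import Cfsg.Agent.Lib.Helper55.SchDefs
import Cfsg.Agent.Lib.Helper55.SchCard
/-! Project SCH (S4395), piece SCH-Nopc.  PLACEHOLDER: replace the `sorry`(s) in this ONE file;
keep the statement(s), names and namespace exactly.  You may add private/auxiliary lemmas
above the main theorem(s) in this file (same namespace). -/

set_option autoImplicit false
universe u v

namespace Cfsg.Agent.Lib.Helper55.SCH

/-- A group with a Schmidt structure has no normal `p`-complement.
Proof: suppose `P' : Sylow p X`, `N` normal, `N.IsComplement' P'`.  `|X| = |S.P| * q ^ r` (`card_eq`),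
`S.P` is a `p`-group, `q ≠ p`, so `|N| = |X| / |P'|` is the `p'`-part `q ^ r` and `X ⧸ N` is a
`p`-group; `y` has order `q ^ r`, so `y ∈ N` (its image in `X ⧸ N` has order dividing both a power
of `p` and `q ^ r`).  `N ⊓ S.P = ⊥` (coprime orders), both normal, so `y` commutes with every
`g ∈ S.P` (`y g y⁻¹ g⁻¹ ∈ N ⊓ S.P`).  Take `g` with `S.ρ g = ofAdd 1` (`S.surj`): `S.equiv g g`
gives `1 = ζ * 1`, i.e. `ζ = 1`, contradicting `orderOf ζ = q` prime. -/
theorem not_hasNormalPComplement {p q a r : ℕ} {F : Type} [Field F] {ζ : F} (H : Hyp p q a F ζ)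
    {X : Type u} [Group X] [Finite X] (S : Sch p q r ζ X) : ¬ Cfsg.HasNormalPComplement p X := by
  rintro ⟨P', N, hN, hcompl⟩
  haveI : Fact p.Prime := ⟨H.hp⟩
  haveI := hN
  have hcard : Nat.card ↥N * Nat.card ↥(P' : Subgroup X) = Nat.card X := hcompl.card_mul_card
  have hNpos : 0 < Nat.card ↥N := Nat.card_pos
  have hP'pos : 0 < Nat.card ↥(P' : Subgroup X) := Nat.card_pos
  have hNidx : N.index = Nat.card ↥(P' : Subgroup X) := by
    have h1 := Subgroup.card_mul_index N
    rw [← hcard] at h1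
    exact Nat.eq_of_mul_eq_mul_left hNpos h1
  have hNcard : Nat.card ↥N = (P' : Subgroup X).index := by
    have h1 := Subgroup.card_mul_index (P' : Subgroup X)
    rw [← hcard, mul_comm] at h1
    exact (Nat.eq_of_mul_eq_mul_right hP'pos h1).symm
  have hpN : ¬ p ∣ Nat.card ↥N := by
    rw [hNcard]
    exact P'.not_dvd_index
  obtain ⟨m, hm⟩ := IsPGroup.iff_card.mp P'.isPGroup'
  have hyN : S.y ∈ N := by
    rw [← QuotientGroup.eq_one_iff]
    have h1 : orderOf ((S.y : X) : X ⧸ N) ∣ q ^ r := by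
      rw [← S.order_y]
      exact orderOf_map_dvd (QuotientGroup.mk' N) S.y
    have h2 : orderOf ((S.y : X) : X ⧸ N) ∣ p ^ m := by
      rw [← hm, ← hNidx, Subgroup.index_eq_card]
      exact orderOf_dvd_natCard _
    have h3 : Nat.Coprime (q ^ r) (p ^ m) :=
      Nat.Coprime.pow _ _ ((Nat.coprime_primes H.hq H.hp).mpr (Ne.symm H.hpq))
    exact orderOf_eq_one_iff.mp (Nat.eq_one_of_dvd_coprimes h3 h1 h2)
  have hinter : ∀ g : X, g ∈ N → g ∈ S.P → g = 1 := by
    intro g hgN hgP
    obtain ⟨k, hk⟩ := S.pgroup ⟨g, hgP⟩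
    have hk' : g ^ p ^ k = 1 := by
      have := congrArg Subtype.val hk
      simpa using this
    have h1 : orderOf g ∣ p ^ k := orderOf_dvd_of_pow_eq_one hk'
    have h2 : orderOf g ∣ Nat.card ↥N := by
      have := orderOf_dvd_natCard (⟨g, hgN⟩ : ↥N)
      rwa [Subgroup.orderOf_mk] at this
    have h3 : Nat.Coprime (p ^ k) (Nat.card ↥N) :=
      Nat.Coprime.pow_left _ ((Nat.Prime.coprime_iff_not_dvd H.hp).mpr hpN)
    exact orderOf_eq_one_iff.mp (Nat.eq_one_of_dvd_coprimes h3 h1 h2)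
  obtain ⟨g, hg⟩ := S.surj (Multiplicative.ofAdd (1 : F))
  have hcomm : (g : X) = S.y * (g : X) * S.y⁻¹ := by
    have h1 : S.y * (g : X) * S.y⁻¹ * (g : X)⁻¹ = 1 := by
      apply hinter
      · have h2 : S.y * (g : X) * S.y⁻¹ * (g : X)⁻¹ = S.y * ((g : X) * S.y⁻¹ * (g : X)⁻¹) := by
          group
        rw [h2]
        exact N.mul_mem hyN (hN.conj_mem _ (N.inv_mem hyN) _)
      · exact S.P.mul_mem (S.normal.conj_mem _ g.2 _) (S.P.inv_mem g.2)
    exact (mul_inv_eq_one.mp h1).symm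
  have h5 := S.equiv g g hcomm
  rw [hg] at h5
  have hζ : ζ = 1 := by
    have h6 := congrArg Multiplicative.toAdd h5
    simpa using h6.symm
  have h7 := H.ord
  rw [hζ, orderOf_one] at h7
  exact H.hq.one_lt.ne h7

end Cfsg.Agent.Lib.Helper55.SCH
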