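import Cfsg.Agent.Lib.Helper55.SchDefs

/-! Project SCH (S4395), piece SCH-PexEvenA (filled by helper97). -/

set_option autoImplicit false
universe u v

namespace Cfsg.Agent.Lib.Helper55.SCH

private lemma pexA_card_roots_le {F : Type} [Field F] [Finite F] (f : Polynomial F) (hf : f ≠ 0) :
    Nat.card {x : F // f.eval x = 0} ≤ f.natDegree := by
  classical
  haveI : Fintype F := Fintype.ofFinite F
  rw [Nat.card_eq_fintype_card, Fintype.card_subtype]
  calc (Finset.univ.filter fun x => f.eval x = 0).card ≤ f.roots.toFinset.card := by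
        apply Finset.card_le_card
        intro x hx
        simp only [Finset.mem_filter, Finset.mem_univ, true_and] at hx
        simp [Polynomial.mem_roots hf, Polynomial.IsRoot, hx]
    _ ≤ Multiset.card f.roots := Multiset.toFinset_card_le _
    _ ≤ f.natDegree := Polynomial.card_roots' f

/-- Field facts for even `a`. -/
theorem bar_facts {p q a : ℕ} {F : Type} [Field F] {ζ : F} (H : Hyp p q a F ζ) (ha : a % 2 = 0) :
    (∀ w : F, (w ^ p ^ (a / 2)) ^ p ^ (a / 2) = w) ∧
    ζ ^ p ^ (a / 2) = ζ⁻¹ ∧
    (∀ n : F, n ^ p ^ (a / 2) = n → Nat.card {z : F // z + z ^ p ^ (a / 2) = n} = p ^ (a / 2)) ∧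
    (∀ w : F, w + w ^ p ^ (a / 2) = 0 → ∃ x : F, w = x ^ p ^ (a / 2) - x) := by
  classical
  haveI := H.fin
  haveI : Fintype F := Fintype.ofFinite F
  haveI := H.char
  haveI : Fact p.Prime := ⟨H.hp⟩
  haveI : Fact q.Prime := ⟨H.hq⟩
  set m := a / 2 with hm
  have ha2 : a = m + m := by omega
  have hcard : Fintype.card F = p ^ a := by rw [← Nat.card_eq_fintype_card]; exact H.card
  have ha0 : a ≠ 0 := by
    intro h0
    have : Fintype.card F = 1 := by rw [hcard, h0, pow_zero]
    have h1 := Fintype.one_lt_card (α := F)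
    omega
  have hm0 : m ≠ 0 := by omega
  have hma : m < a := by omega
  have hpm1 : 1 < p ^ m := Nat.one_lt_pow hm0 H.hp.one_lt
  have hpm0 : 0 < p ^ m := by omega
  -- (1)
  have h1 : ∀ w : F, (w ^ p ^ m) ^ p ^ m = w := by
    intro w
    rw [← pow_mul, ← pow_add, ← ha2, ← hcard]
    exact FiniteField.pow_card w
  -- (2)
  have h2 : ζ ^ p ^ m = ζ⁻¹ := by
    have hx2 : ((p : ZMod q) ^ m) ^ 2 = 1 := by
      rw [← pow_mul, show m * 2 = a by omega, H.ha]
      exact pow_orderOf_eq_one _
    have hx1 : (p : ZMod q) ^ m ≠ 1 := by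
      apply pow_ne_one_of_lt_orderOf hm0
      rw [← H.ha]; exact hma
    have hx : (p : ZMod q) ^ m = -1 := by
      rcases sq_eq_one_iff.1 hx2 with h | h
      · exact absurd h hx1
      · exact h
    have hdvd : q ∣ p ^ m + 1 := by
      rw [← ZMod.natCast_eq_zero_iff]
      push_cast
      rw [hx]; ring
    have hz : ζ ^ (p ^ m + 1) = 1 := by
      rw [← H.ord] at hdvd
      exact orderOf_dvd_iff_pow_eq_one.1 hdvd
    rw [pow_succ] at hz
    exact eq_inv_of_mul_eq_one_left hz
  -- the additive maps
  let bar : F →+* F := iterateFrobenius F p m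
  have hbar : ∀ x, bar x = x ^ p ^ m := fun x => iterateFrobenius_def p m x
  let T : F →+ F := AddMonoidHom.id F + bar.toAddMonoidHom
  let D : F →+ F := bar.toAddMonoidHom - AddMonoidHom.id F
  have hT : ∀ z, T z = z + z ^ p ^ m := fun z => by simp [T, hbar]
  have hD : ∀ z, D z = z ^ p ^ m - z := fun z => by simp [D, hbar]
  have hbb : ∀ x, bar (bar x) = x := fun x => by rw [hbar, hbar]; exact h1 x
  have hT' : ∀ z, T z = z + bar z := fun z => by rw [hT, hbar]
  have hD' : ∀ z, D z = bar z - z := fun z => by rw [hD, hbar]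
  -- polynomial bounds
  have hKle : Nat.card T.ker ≤ p ^ m := by
    let f : Polynomial F := Polynomial.X ^ p ^ m + Polynomial.X
    have hdeg : f.natDegree = p ^ m := by
      have h1' : (Polynomial.X : Polynomial F).natDegree < ((Polynomial.X : Polynomial F) ^ p ^ m).natDegree := by
        rw [Polynomial.natDegree_X_pow, Polynomial.natDegree_X]; exact hpm1
      rw [Polynomial.natDegree_add_eq_left_of_natDegree_lt h1', Polynomial.natDegree_X_pow]
    have hf0 : f ≠ 0 := by
      intro h0
      rw [h0, Polynomial.natDegree_zero] at hdeg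
      omega
    have := pexA_card_roots_le f hf0
    rw [hdeg] at this
    refine le_trans (le_of_eq ?_) this
    apply Nat.card_congr
    apply Equiv.subtypeEquivRight
    intro x
    rw [AddMonoidHom.mem_ker, hT]
    simp [f, add_comm]
  have hF0le : Nat.card D.ker ≤ p ^ m := by
    let f : Polynomial F := Polynomial.X ^ p ^ m - Polynomial.X
    have hdeg : f.natDegree = p ^ m := FiniteField.X_pow_card_sub_X_natDegree_eq F hpm1
    have hf0 : f ≠ 0 := by
      intro h0
      rw [h0, Polynomial.natDegree_zero] at hdeg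
      omega
    have := pexA_card_roots_le f hf0
    rw [hdeg] at this
    refine le_trans (le_of_eq ?_) this
    apply Nat.card_congr
    apply Equiv.subtypeEquivRight
    intro x
    rw [AddMonoidHom.mem_ker, hD]
    simp [f]
  have hTr : T.range ≤ D.ker := by
    rintro x ⟨z, rfl⟩
    rw [AddMonoidHom.mem_ker, hD', hT', map_add, hbb]; ring
  have hDr : D.range ≤ T.ker := by
    rintro x ⟨z, rfl⟩
    rw [AddMonoidHom.mem_ker, hT', hD', map_sub, hbb]; ring
  have hcF : Nat.card F = p ^ m * p ^ m := by rw [H.card, ha2, pow_add]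
  have eT : Nat.card T.ker * Nat.card T.range = p ^ m * p ^ m := by
    rw [← AddSubgroup.index_ker, AddSubgroup.card_mul_index, hcF]
  have eD : Nat.card D.ker * Nat.card D.range = p ^ m * p ^ m := by
    rw [← AddSubgroup.index_ker, AddSubgroup.card_mul_index, hcF]
  have hTr' : Nat.card T.range ≤ Nat.card D.ker := AddSubgroup.card_le_of_le hTr
  have hDr' : Nat.card D.range ≤ Nat.card T.ker := AddSubgroup.card_le_of_le hDr
  have hkT : Nat.card T.ker = p ^ m := by
    by_contra hne
    have hlt : Nat.card T.ker < p ^ m := lt_of_le_of_ne hKle hne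
    have : Nat.card T.ker * Nat.card T.range < p ^ m * p ^ m :=
      Nat.mul_lt_mul_of_lt_of_le hlt (le_trans hTr' hF0le) hpm0
    omega
  have hrT : Nat.card T.range = p ^ m := by
    rw [hkT] at eT
    exact Nat.eq_of_mul_eq_mul_left hpm0 eT
  have hkD : Nat.card D.ker = p ^ m := le_antisymm hF0le (hrT ▸ hTr')
  have hrD : Nat.card D.range = p ^ m := by
    rw [hkD] at eD
    exact Nat.eq_of_mul_eq_mul_left hpm0 eD
  have hTeq : T.range = D.ker := AddSubgroup.eq_of_le_of_card_ge hTr (by rw [hkD, hrT])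
  have hDeq : D.range = T.ker := AddSubgroup.eq_of_le_of_card_ge hDr (by rw [hkT, hrD])
  refine ⟨h1, h2, ?_, ?_⟩
  · intro n hn
    have hnk : n ∈ D.ker := by rw [AddMonoidHom.mem_ker, hD, hn, sub_self]
    rw [← hTeq] at hnk
    obtain ⟨z₀, hz₀⟩ := hnk
    have e : {z : F // z + z ^ p ^ m = n} ≃ T.ker :=
      { toFun := fun z => ⟨z.1 - z₀, by
          rw [AddMonoidHom.mem_ker, map_sub, hz₀, hT, z.2, sub_self]⟩
        invFun := fun k => ⟨k.1 + z₀, by
          have hk := k.2
          rw [AddMonoidHom.mem_ker] at hk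
          rw [← hT, map_add, hk, hz₀, zero_add]⟩
        left_inv := fun z => by simp
        right_inv := fun k => by simp }
    rw [Nat.card_congr e]; exact hkT
  · intro w hw
    have hwk : w ∈ T.ker := by rw [AddMonoidHom.mem_ker, hT]; exact hw
    rw [← hDeq] at hwk
    obtain ⟨x, hx⟩ := hwk
    exact ⟨x, by rw [← hD, hx]⟩

end Cfsg.Agent.Lib.Helper55.SCH
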