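import Cfsg.Agent.Lib.Helper55.SchDefs
import Cfsg.Agent.Lib.Helper55.SchPexEvenA
/-! Project SCH (S4395), piece SCH-PexEvenB (filled by helper97). -/

set_option autoImplicit false
universe u v

namespace Cfsg.Agent.Lib.Helper55.SCH

/-- Carrier of the unitary group `{(x, z) | z + bar z = x * bar x}`. -/
def PexBU {F : Type} [CommRing F] (b : F →+* F) : Type :=
  {u : F × F // u.2 + b u.2 = u.1 * b u.1}

/-- The group structure `(x, z) * (x', z') = (x + x', z + z' + bar x * x')`. -/
def pexBGroup {F : Type} [CommRing F] (b : F →+* F) (hb : ∀ x, b (b x) = x) :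
    Group (PexBU b) where
  mul u v := ⟨(u.1.1 + v.1.1, u.1.2 + v.1.2 + b u.1.1 * v.1.1), by
    have hu := u.2; have hv := v.2
    simp only [map_add, map_mul, hb]
    linear_combination hu + hv⟩
  one := ⟨(0, 0), by simp⟩
  inv u := ⟨(-u.1.1, b u.1.1 * u.1.1 - u.1.2), by
    have hu := u.2
    simp only [map_sub, map_mul, map_neg, hb]
    linear_combination (-1 : F) * hu⟩
  mul_assoc u v w := by
    apply Subtype.ext
    apply Prod.ext
    · show u.1.1 + v.1.1 + w.1.1 = u.1.1 + (v.1.1 + w.1.1)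
      ring
    · show u.1.2 + v.1.2 + b u.1.1 * v.1.1 + w.1.2 + b (u.1.1 + v.1.1) * w.1.1
        = u.1.2 + (v.1.2 + w.1.2 + b v.1.1 * w.1.1) + b u.1.1 * (v.1.1 + w.1.1)
      rw [map_add]; ring
  one_mul u := by
    apply Subtype.ext
    apply Prod.ext
    · show (0 : F) + u.1.1 = u.1.1
      ring
    · show (0 : F) + u.1.2 + b 0 * u.1.1 = u.1.2
      rw [map_zero]; ring
  mul_one u := by
    apply Subtype.ext
    apply Prod.ext
    · show u.1.1 + (0 : F) = u.1.1
      ring
    · show u.1.2 + (0 : F) + b u.1.1 * 0 = u.1.2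
      ring
  inv_mul_cancel u := by
    apply Subtype.ext
    apply Prod.ext
    · show -u.1.1 + u.1.1 = (0 : F)
      ring
    · show b u.1.1 * u.1.1 - u.1.2 + u.1.2 + b (-u.1.1) * u.1.1 = (0 : F)
      rw [map_neg]; ring

/-- The `p`-part of the universal group for even `a`. -/
theorem pex_even {p q a : ℕ} {F : Type} [Field F] {ζ : F} (H : Hyp p q a F ζ) (ha : a % 2 = 0) : PEx q ζ (p ^ (3 * a / 2)) := by
  classical
  haveI := H.fin
  haveI : Fintype F := Fintype.ofFinite F
  haveI := H.char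
  haveI : Fact p.Prime := ⟨H.hp⟩
  obtain ⟨h1, h2, h3, h4⟩ := bar_facts H ha
  set m := a / 2 with hm
  have hpm0 : 0 < p ^ m := pow_pos H.hp.pos m
  let b : F →+* F := iterateFrobenius F p m
  have hbdef : ∀ x, b x = x ^ p ^ m := fun x => iterateFrobenius_def p m x
  have hb : ∀ x, b (b x) = x := fun x => by rw [hbdef, hbdef]; exact h1 x
  have hζq : ζ ^ q = 1 := by rw [← H.ord]; exact pow_orderOf_eq_one ζ
  have hζ0 : ζ ≠ 0 := by
    intro h0
    rw [h0, zero_pow H.hq.ne_zero] at hζq
    exact zero_ne_one hζq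
  have hζ : ζ * b ζ = 1 := by rw [hbdef, h2]; exact mul_inv_cancel₀ hζ0
  have hζ' : b ζ * b (b ζ) = 1 := by rw [hb, mul_comm]; exact hζ
  letI : Group (PexBU b) := pexBGroup b hb
  have hmulval : ∀ u v : PexBU b, (u * v).1 = (u.1.1 + v.1.1, u.1.2 + v.1.2 + b u.1.1 * v.1.1) :=
    fun u v => rfl
  have hinvval : ∀ u : PexBU b, (u⁻¹).1 = (-u.1.1, b u.1.1 * u.1.1 - u.1.2) := fun u => rfl
  haveI : Finite (PexBU b) := by unfold PexBU; infer_instance
  let ρ : PexBU b →* Multiplicative F :=
    { toFun := fun u => Multiplicative.ofAdd u.1.1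
      map_one' := rfl
      map_mul' := fun u v => rfl }
  have hρ : ∀ u : PexBU b, ρ u = Multiplicative.ofAdd u.1.1 := fun u => rfl
  have hmem : ∀ (c : F), c * b c = 1 → ∀ u : PexBU b,
      (c * u.1.1, u.1.2).2 + b (c * u.1.1, u.1.2).2 = (c * u.1.1, u.1.2).1 * b (c * u.1.1, u.1.2).1 := by
    intro c hc u
    have hu := u.2
    simp only [map_mul]
    linear_combination hu - (u.1.1 * b u.1.1) * hc
  let τ : MulAut (PexBU b) :=
    { toFun := fun u => ⟨(ζ * u.1.1, u.1.2), hmem ζ hζ u⟩
      invFun := fun u => ⟨(b ζ * u.1.1, u.1.2), hmem (b ζ) hζ' u⟩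
      left_inv := fun u => by
        apply Subtype.ext; apply Prod.ext
        · show b ζ * (ζ * u.1.1) = u.1.1
          rw [← mul_assoc, mul_comm (b ζ), hζ, one_mul]
        · rfl
      right_inv := fun u => by
        apply Subtype.ext; apply Prod.ext
        · show ζ * (b ζ * u.1.1) = u.1.1
          rw [← mul_assoc, hζ, one_mul]
        · rfl
      map_mul' := fun u v => by
        apply Subtype.ext; apply Prod.ext
        · show ζ * (u.1.1 + v.1.1) = ζ * u.1.1 + ζ * v.1.1
          ring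
        · show u.1.2 + v.1.2 + b u.1.1 * v.1.1 = u.1.2 + v.1.2 + b (ζ * u.1.1) * (ζ * v.1.1)
          rw [map_mul]; linear_combination (-(b u.1.1 * v.1.1)) * hζ }
  have hτ : ∀ u : PexBU b, (τ u).1 = (ζ * u.1.1, u.1.2) := fun u => rfl
  have hfix : ∀ x : F, (x * x ^ p ^ m) ^ p ^ m = x * x ^ p ^ m := by
    intro x
    rw [mul_pow, h1 x, mul_comm]
  have hsurj : Function.Surjective ρ := by
    intro x
    have hc := h3 (Multiplicative.toAdd x * Multiplicative.toAdd x ^ p ^ m) (hfix _)
    have hne : Nonempty {z : F // z + z ^ p ^ m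
        = Multiplicative.toAdd x * Multiplicative.toAdd x ^ p ^ m} := by
      by_contra hemp
      rw [not_nonempty_iff] at hemp
      rw [Nat.card_of_isEmpty] at hc
      omega
    obtain ⟨z, hz⟩ := hne
    refine ⟨⟨(Multiplicative.toAdd x, z), ?_⟩, rfl⟩
    show z + b z = Multiplicative.toAdd x * b (Multiplicative.toAdd x)
    rw [hbdef, hbdef]; exact hz
  have hker : ∀ u : PexBU b, ρ u = 1 → u.1.1 = 0 := by
    intro u hu
    rw [hρ] at hu
    exact ofAdd_eq_one.1 hu
  refine ⟨PexBU b, inferInstance, inferInstance, ρ, τ, hsurj, ?_, ?_, ?_, ?_, ?_⟩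
  · -- cardinality
    let e : PexBU b ≃ Σ x : F, {z : F // z + z ^ p ^ m = x * x ^ p ^ m} :=
      { toFun := fun u => ⟨u.1.1, ⟨u.1.2, by
          have := u.2; rw [hbdef, hbdef] at this; exact this⟩⟩
        invFun := fun s => ⟨(s.1, s.2.1), by
          show s.2.1 + b s.2.1 = s.1 * b s.1
          rw [hbdef, hbdef]; exact s.2.2⟩
        left_inv := fun u => rfl
        right_inv := fun s => rfl }
    rw [Nat.card_congr e, Nat.card_sigma]
    have : ∀ x : F, Nat.card {z : F // z + z ^ p ^ m = x * x ^ p ^ m} = p ^ m :=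
      fun x => h3 _ (hfix x)
    simp_rw [this]
    rw [Finset.sum_const, Finset.card_univ, smul_eq_mul, ← Nat.card_eq_fintype_card, H.card,
      ← pow_add]
    congr 1; omega
  · intro u; rfl
  · intro u hu
    have hx := hker u hu
    refine ⟨?_, ?_⟩
    · apply Subtype.ext; apply Prod.ext
      · show ζ * u.1.1 = u.1.1
        rw [hx, mul_zero]
      · rfl
    · intro v
      apply Subtype.ext
      rw [hmulval, hmulval, hx, map_zero]
      apply Prod.ext
      · show v.1.1 + 0 = 0 + v.1.1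
        ring
      · show v.1.2 + u.1.2 + b v.1.1 * 0 = u.1.2 + v.1.2 + 0 * v.1.1
        ring
  · intro S hS
    -- kernel inside S
    have hkS : ∀ u : PexBU b, ρ u = 1 → u ∈ S := by
      intro u hu
      have hx := hker u hu
      have hw : u.1.2 + u.1.2 ^ p ^ m = 0 := by
        have := u.2
        rw [hx, zero_mul, hbdef] at this
        exact this
      obtain ⟨x, hxw⟩ := h4 _ hw
      obtain ⟨s1, hs1, hs1ρ⟩ := hS (Multiplicative.ofAdd 1)
      obtain ⟨sx, hsx, hsxρ⟩ := hS (Multiplicative.ofAdd x)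
      have e1 : s1.1.1 = 1 := by
        rw [hρ] at hs1ρ; exact Multiplicative.ofAdd.injective hs1ρ
      have ex : sx.1.1 = x := by
        rw [hρ] at hsxρ; exact Multiplicative.ofAdd.injective hsxρ
      have key : u * (s1 * sx) = sx * s1 := by
        apply Subtype.ext
        rw [hmulval, hmulval, hmulval, hx, e1, ex, map_zero, map_one, hxw, ← hbdef]
        apply Prod.ext
        · show 0 + (1 + x) = x + 1
          ring
        · show b x - x + (s1.1.2 + sx.1.2 + 1 * x) + 0 * (1 + x) = sx.1.2 + s1.1.2 + b x * 1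
          ring
      have : u = sx * s1 * (s1 * sx)⁻¹ := by rw [← key]; group
      rw [this]
      exact S.mul_mem (S.mul_mem hsx hs1) (S.inv_mem (S.mul_mem hs1 hsx))
    rw [eq_top_iff]
    intro u _
    obtain ⟨s, hs, hsρ⟩ := hS (ρ u)
    have : u * s⁻¹ ∈ S := hkS _ (by rw [map_mul, map_inv, hsρ, mul_inv_cancel])
    have h2' := S.mul_mem this hs
    rwa [inv_mul_cancel_right] at h2'
  · intro u
    have key : ∀ (n : ℕ) (u : PexBU b), ((τ ^ n) u).1 = (ζ ^ n * u.1.1, u.1.2) := by
      intro n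
      induction n with
      | zero => intro u; simp
      | succ n ih =>
        intro u
        rw [pow_succ, MulAut.mul_apply, ih, hτ]
        apply Prod.ext
        · show ζ ^ n * (ζ * u.1.1) = ζ ^ (n + 1) * u.1.1
          ring
        · rfl
    apply Subtype.ext
    rw [key, hζq, one_mul]

end Cfsg.Agent.Lib.Helper55.SCH
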