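import Cfsg.Agent.Lib.Helper55.SchDefs

/-! Project SCH (S4395), piece SCH-PexOdd (filled in place by helper89, job 3581). -/

set_option autoImplicit false
universe u v

namespace Cfsg.Agent.Lib.Helper55.SCH

/-- multiplication by a nonzero scalar as an additive automorphism of `F` -/
private noncomputable def pexOddAdd {F : Type} [Field F] (ζ : F) (hζ : ζ ≠ 0) : F ≃+ F where
  toFun x := ζ * x
  invFun x := ζ⁻¹ * x
  left_inv x := by
    show ζ⁻¹ * (ζ * x) = x
    rw [← mul_assoc, inv_mul_cancel₀ hζ, one_mul]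
  right_inv x := by
    show ζ * (ζ⁻¹ * x) = x
    rw [← mul_assoc, mul_inv_cancel₀ hζ, one_mul]
  map_add' x y := mul_add ζ x y

/-- multiplication by a nonzero scalar as an automorphism of `Multiplicative F` -/
private noncomputable def pexOddTau {F : Type} [Field F] (ζ : F) (hζ : ζ ≠ 0) :
    MulAut (Multiplicative F) :=
  AddEquiv.toMultiplicative (pexOddAdd ζ hζ)

private theorem pexOddTau_apply {F : Type} [Field F] (ζ : F) (hζ : ζ ≠ 0)
    (u : Multiplicative F) :
    pexOddTau ζ hζ u = Multiplicative.ofAdd (ζ * Multiplicative.toAdd u) := rfl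

private theorem pexOddTau_pow {F : Type} [Field F] (ζ : F) (hζ : ζ ≠ 0) (k : ℕ)
    (u : Multiplicative F) :
    (pexOddTau ζ hζ ^ k) u = Multiplicative.ofAdd (ζ ^ k * Multiplicative.toAdd u) := by
  induction k generalizing u with
  | zero =>
    rw [pow_zero, pow_zero, one_mul]
    rfl
  | succ k ih =>
    rw [pow_succ, MulAut.mul_apply, ih, pexOddTau_apply, pow_succ, mul_assoc]
    rfl

/-- The `p`-part of the universal group for odd `a` (in fact for every `a`): `U = (F, +)`.
Proof: `U := Multiplicative F`, `ρ := MonoidHom.id _`, `τ :=` multiplication by `ζ` (a `MulAut` of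
`Multiplicative F`; inverse is multiplication by `ζ⁻¹`; e.g. `AddEquiv.toMultiplicative` of
`AddAut.mulLeft`/`AddEquiv.mulLeft₀ ζ hζ`).  `Nat.card U = p ^ a` (`H.card`), `τ ^ q = 1` since
`ζ ^ q = 1`; `ρ u = 1 → u = 1`; a subgroup onto `F` is `⊤`. -/
theorem pex_odd {p q a : ℕ} {F : Type} [Field F] {ζ : F} (H : Hyp p q a F ζ) : PEx q ζ (p ^ a) := by
  have hζq : ζ ^ q = 1 := by
    rw [← H.ord]
    exact pow_orderOf_eq_one ζ
  have hζ : ζ ≠ 0 := by
    intro h0
    rw [h0, zero_pow H.hq.ne_zero] at hζq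
    exact zero_ne_one hζq
  have hfin : Finite F := H.fin
  refine ⟨Multiplicative F, inferInstance, inferInstance, MonoidHom.id _, pexOddTau ζ hζ,
    Function.surjective_id, ?_, ?_, ?_, ?_, ?_⟩
  · rw [Nat.card_congr (Multiplicative.toAdd (α := F)), H.card]
  · intro u
    rfl
  · intro u hu
    have hu1 : u = 1 := hu
    subst hu1
    exact ⟨map_one _, fun v => mul_comm _ _⟩
  · intro S hS
    rw [eq_top_iff]
    intro x _
    obtain ⟨s, hs, hsx⟩ := hS x
    have : s = x := hsx
    rw [← this]
    exact hs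
  · intro u
    rw [pexOddTau_pow, hζq, one_mul]
    rfl

end Cfsg.Agent.Lib.Helper55.SCH
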