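import Cfsg.Agent.Lib.Helper55.SchDefs

/-! Project SCH (S4395), piece SCH-ProperA1 (proved by helper40). -/

set_option autoImplicit false
universe u v

namespace Cfsg.Agent.Lib.Helper55.SCH

/-- Every subgroup `K` of a group with a Schmidt structure is `(K ⊓ P)⟨w⟩` for a `q`-element `w ∈ K`.
Proof: the image of `K` in the cyclic group `X ⧸ P` (generated by the image of `y`) is generated by
the image of some `w₀ ∈ K`; with `n = Nat.card ↥S.P` put `w = w₀ ^ n`: it is a `q`-element, and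
its image still generates the image of `K` since `n` is coprime to `q`. -/
theorem exists_qelt {p q r : ℕ} {F : Type} [Field F] {ζ : F} (hp : p.Prime) (hq : q.Prime) (hpq : p ≠ q)
    {X : Type*} [Group X] [Finite X] (S : Sch p q r ζ X) (K : Subgroup X) :
    ∃ w ∈ K, (∃ n : ℕ, orderOf w = q ^ n) ∧
      ∀ k ∈ K, ∃ h ∈ K ⊓ S.P, ∃ i : ℕ, k = h * w ^ i := by
  classical
  haveI := S.normal
  haveI : Fact p.Prime := ⟨hp⟩
  -- the quotient map
  obtain ⟨π, hπ⟩ : ∃ π : X →* X ⧸ S.P, π = QuotientGroup.mk' S.P := ⟨_, rfl⟩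
  have hπ1 : ∀ x : X, π x = 1 ↔ x ∈ S.P := by
    intro x
    rw [hπ]
    exact QuotientGroup.eq_one_iff x
  have hπs : Function.Surjective π := by
    rw [hπ]
    exact QuotientGroup.mk'_surjective S.P
  have hyN : S.y ^ (q ^ r) = 1 := by
    rw [← S.order_y]
    exact pow_orderOf_eq_one S.y
  -- every element of the quotient is a power of the image of `y`
  have hpow : ∀ x : X, ∃ i : ℕ, π x = π S.y ^ i := by
    intro x
    obtain ⟨g, i, hx⟩ := S.gen x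
    refine ⟨i, ?_⟩
    rw [hx, map_mul, map_pow, (hπ1 g).2 g.2, one_mul]
  haveI hcyc : IsCyclic (X ⧸ S.P) := by
    refine ⟨⟨π S.y, fun x => ?_⟩⟩
    obtain ⟨x', rfl⟩ := hπs x
    obtain ⟨i, hi⟩ := hpow x'
    exact ⟨(i : ℤ), by simp only [zpow_natCast]; exact hi.symm⟩
  haveI : IsCyclic ↥(K.map π) := Subgroup.isCyclic _
  obtain ⟨c, hc⟩ := IsCyclic.exists_monoid_generator (α := ↥(K.map π))
  obtain ⟨w₀, hw₀K, hw₀⟩ := Subgroup.mem_map.1 c.2
  have hgenK : ∀ k ∈ K, ∃ m : ℕ, π k = π w₀ ^ m := by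
    intro k hk
    obtain ⟨m, hm⟩ := (Submonoid.mem_powers_iff _ _).1
      (hc ⟨π k, Subgroup.mem_map_of_mem π hk⟩)
    refine ⟨m, ?_⟩
    have h1 := congrArg Subtype.val hm
    simp only [Subgroup.coe_pow] at h1
    rw [hw₀, h1]
  -- the orders
  obtain ⟨α, hα⟩ := (IsPGroup.iff_card (p := p) (G := ↥S.P)).1 S.pgroup
  have hPn : ∀ x ∈ S.P, x ^ Nat.card ↥S.P = 1 := by
    intro x hx
    have h1 := pow_card_eq_one' (G := ↥S.P) (x := ⟨x, hx⟩)
    have h2 : (((⟨x, hx⟩ : ↥S.P) ^ Nat.card ↥S.P : ↥S.P) : X) = ((1 : ↥S.P) : X) :=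
      congrArg Subtype.val h1
    rw [Subgroup.coe_pow] at h2
    exact h2
  have hπw₀N : π w₀ ^ (q ^ r) = 1 := by
    obtain ⟨i, hi⟩ := hpow w₀
    rw [hi, ← pow_mul, mul_comm, pow_mul, ← map_pow, hyN, map_one, one_pow]
  have hw₀N : w₀ ^ (q ^ r) ∈ S.P := by
    rw [← hπ1, map_pow]
    exact hπw₀N
  have hwN : (w₀ ^ Nat.card ↥S.P) ^ (q ^ r) = 1 := by
    rw [← pow_mul, mul_comm, pow_mul]
    exact hPn _ hw₀N
  have hcop : (Nat.card ↥S.P).Coprime (orderOf (π w₀)) := by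
    have h1 : orderOf (π w₀) ∣ q ^ r := orderOf_dvd_of_pow_eq_one hπw₀N
    rw [hα]
    exact Nat.Coprime.coprime_dvd_right h1
      (Nat.Coprime.pow _ _ ((Nat.coprime_primes hp hq).2 hpq))
  obtain ⟨m, hm⟩ := exists_pow_eq_self_of_coprime hcop
  refine ⟨w₀ ^ Nat.card ↥S.P, K.pow_mem hw₀K _, ?_, ?_⟩
  · obtain ⟨t, -, ht⟩ := (Nat.dvd_prime_pow hq).1 (orderOf_dvd_of_pow_eq_one hwN)
    exact ⟨t, ht⟩
  · intro k hk
    obtain ⟨m', hm'⟩ := hgenK k hk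
    refine ⟨k * ((w₀ ^ Nat.card ↥S.P) ^ (m * m'))⁻¹, ⟨?_, ?_⟩, m * m', ?_⟩
    · exact K.mul_mem hk (K.inv_mem (K.pow_mem (K.pow_mem hw₀K _) _))
    · show k * ((w₀ ^ Nat.card ↥S.P) ^ (m * m'))⁻¹ ∈ S.P
      rw [← hπ1, map_mul, map_inv, map_pow, map_pow, pow_mul, hm, hm', mul_inv_cancel]
    · rw [inv_mul_cancel_right]
end Cfsg.Agent.Lib.Helper55.SCH
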