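import Cfsg.Agent.Lib.Helper55.SchDefs
import Cfsg.Agent.Lib.Helper55.SchFldA
import Cfsg.Agent.Lib.Helper55.SchLemMin
/-! Project SCH (S4395), piece SCH-ProperA2 (proved by helper40). -/

set_option autoImplicit false
universe u v

namespace Cfsg.Agent.Lib.Helper55.SCH

/-- Conjugation by `y ^ j` acts on `F` as multiplication by `ζ ^ j`. -/
theorem pA2_conj_rho {p q r : ℕ} {F : Type} [Field F] {ζ : F} {X : Type*} [Group X]
    (S : Sch p q r ζ X) (j : ℕ) : ∀ g h : ↥S.P, (h : X) = S.y ^ j * (g : X) * (S.y ^ j)⁻¹ →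
      S.ρ h = Multiplicative.ofAdd (ζ ^ j * Multiplicative.toAdd (S.ρ g)) := by
  induction j with
  | zero =>
    intro g h hh
    have : h = g := Subtype.ext (by rw [hh]; simp)
    rw [this, pow_zero, one_mul]
    rfl
  | succ j ih =>
    intro g h hh
    have hmem : S.y ^ j * (g : X) * (S.y ^ j)⁻¹ ∈ S.P := S.normal.conj_mem g g.2 (S.y ^ j)
    have h1 := ih g ⟨_, hmem⟩ rfl
    have h2 := S.equiv ⟨_, hmem⟩ h (by
      rw [hh, pow_succ']
      simp only [mul_inv_rev, mul_assoc])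
    rw [h2, h1, toAdd_ofAdd, pow_succ', mul_assoc]

/-- An element of `P` of `q`-power order is trivial. -/
theorem pA2_trivial {p q r : ℕ} {F : Type} [Field F] {ζ : F} (hp : p.Prime) (hq : q.Prime)
    (hpq : p ≠ q) {X : Type*} [Group X] (S : Sch p q r ζ X) (g : ↥S.P) (N : ℕ)
    (h : (g : X) ^ (q ^ N) = 1) : g = 1 := by
  obtain ⟨n', hn'⟩ := S.pgroup g
  have h1 : orderOf g ∣ p ^ n' := orderOf_dvd_of_pow_eq_one hn'
  have h2 : orderOf g ∣ q ^ N := by
    apply orderOf_dvd_of_pow_eq_one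
    apply Subtype.ext
    rw [Subgroup.coe_pow]
    exact h
  have h3 : orderOf g ∣ Nat.gcd (p ^ n') (q ^ N) := Nat.dvd_gcd h1 h2
  have h4 : Nat.gcd (p ^ n') (q ^ N) = 1 :=
    Nat.Coprime.pow _ _ ((Nat.coprime_primes hp hq).2 hpq)
  rw [h4] at h3
  exact orderOf_eq_one_iff.1 (Nat.dvd_one.1 h3)

/-- `y ^ q` is central. -/
theorem pA2_yq_central {p q a r : ℕ} {F : Type} [Field F] {ζ : F} (H : Hyp p q a F ζ)
    {X : Type*} [Group X] (S : Sch p q r ζ X) : ∀ x : X, S.y ^ q * x = x * S.y ^ q := by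
  have hζq : ζ ^ q = 1 := by
    rw [← H.ord]
    exact pow_orderOf_eq_one ζ
  have hyN : S.y ^ (q ^ r) = 1 := by
    rw [← S.order_y]
    exact pow_orderOf_eq_one S.y
  have hP : ∀ g : ↥S.P, S.y ^ q * (g : X) = (g : X) * S.y ^ q := by
    intro g
    have hmem : S.y ^ q * (g : X) * (S.y ^ q)⁻¹ ∈ S.P := S.normal.conj_mem g g.2 (S.y ^ q)
    have hρ := pA2_conj_rho S q g ⟨_, hmem⟩ rfl
    rw [hζq, one_mul, ofAdd_toAdd] at hρ
    -- `k = g⁻¹ * (y^q g y^-q)`
    obtain ⟨k, hk⟩ : ∃ k : ↥S.P, k = g⁻¹ * ⟨_, hmem⟩ := ⟨_, rfl⟩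
    have hρk : S.ρ k = 1 := by
      rw [hk, map_mul, map_inv, hρ, inv_mul_cancel]
    have hkc := S.central k hρk
    have hkX : S.y ^ q * (g : X) * (S.y ^ q)⁻¹ = (g : X) * (k : X) := by
      rw [hk]
      show _ = (g : X) * ((g : X)⁻¹ * (S.y ^ q * (g : X) * (S.y ^ q)⁻¹))
      rw [mul_inv_cancel_left]
    have hkpow : ∀ m : ℕ, ∀ x : X, x * (k : X) ^ m = (k : X) ^ m * x := by
      intro m x
      exact ((show Commute x (k : X) from hkc x).pow_right m)
    have hiter : ∀ m : ℕ, S.y ^ (q * m) * (g : X) * (S.y ^ (q * m))⁻¹ = (g : X) * (k : X) ^ m := by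
      intro m
      induction m with
      | zero => simp
      | succ m ih =>
        have e1 : S.y ^ (q * (m + 1)) = S.y ^ q * S.y ^ (q * m) := by
          rw [← pow_add]
          congr 1
          ring
        calc S.y ^ (q * (m + 1)) * (g : X) * (S.y ^ (q * (m + 1)))⁻¹
            = S.y ^ q * (S.y ^ (q * m) * (g : X) * (S.y ^ (q * m))⁻¹) * (S.y ^ q)⁻¹ := by
              rw [e1]
              simp only [mul_inv_rev, mul_assoc]
          _ = S.y ^ q * ((g : X) * (k : X) ^ m) * (S.y ^ q)⁻¹ := by rw [ih]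
          _ = (S.y ^ q * (g : X) * (S.y ^ q)⁻¹) * (k : X) ^ m := by
              rw [mul_assoc (S.y ^ q) ((g : X) * (k : X) ^ m), mul_assoc (g : X),
                ← hkpow m ((S.y ^ q)⁻¹)]
              simp only [mul_assoc]
          _ = (g : X) * (k : X) ^ (m + 1) := by
              rw [hkX, pow_succ', mul_assoc]
    have h1 := hiter (q ^ r)
    have e2 : S.y ^ (q * q ^ r) = 1 := by
      rw [mul_comm, pow_mul, hyN, one_pow]
    rw [e2, one_mul, inv_one, mul_one] at h1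
    have h2 : (k : X) ^ (q ^ r) = 1 := by
      have := congrArg (fun z => (g : X)⁻¹ * z) h1
      simp only [inv_mul_cancel, inv_mul_cancel_left] at this
      exact this.symm
    have hk1 : k = 1 := pA2_trivial H.hp H.hq H.hpq S k r h2
    rw [hk1, Subgroup.coe_one, mul_one] at hkX
    calc S.y ^ q * (g : X) = (S.y ^ q * (g : X) * (S.y ^ q)⁻¹) * S.y ^ q := by
          rw [inv_mul_cancel_right]
      _ = (g : X) * S.y ^ q := by rw [hkX]
  intro x
  obtain ⟨g, i, hx⟩ := S.gen x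
  rw [hx, ← mul_assoc, hP g, mul_assoc, mul_assoc, ← pow_add, ← pow_add, add_comm]

/-- In a proper subgroup `K = (K ⊓ P)⟨w⟩` (`w` a `q`-element), `w` centralizes `K ⊓ P`. -/
theorem qelt_centralizes {p q a r : ℕ} {F : Type} [Field F] {ζ : F} (H : Hyp p q a F ζ)
    {X : Type*} [Group X] [Finite X] (S : Sch p q r ζ X) (K : Subgroup X) (hK : K ≠ ⊤)
    (w : X) (hw : w ∈ K) (n : ℕ) (hn : orderOf w = q ^ n)
    (hgen : ∀ k ∈ K, ∃ h ∈ K ⊓ S.P, ∃ i : ℕ, k = h * w ^ i) :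
    ∀ h ∈ K ⊓ S.P, w * h = h * w := by
  classical
  obtain ⟨g, i, hwg⟩ := S.gen w
  by_cases hqi : q ∣ i
  · -- `y ^ i` is central
    obtain ⟨t, ht⟩ := hqi
    have hc : ∀ x : X, Commute (S.y ^ i) x := by
      intro x
      rw [ht, pow_mul]
      exact (show Commute (S.y ^ q) x from pA2_yq_central H S x).pow_left t
    have hwN : w ^ (q ^ n) = 1 := by
      rw [← hn]
      exact pow_orderOf_eq_one w
    rw [hwg, ((hc (g : X)).symm).mul_pow] at hwN
    have hyP : (S.y ^ i) ^ (q ^ n) ∈ S.P := by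
      have e : (S.y ^ i) ^ (q ^ n) = ((g : X) ^ (q ^ n))⁻¹ := eq_inv_of_mul_eq_one_right hwN
      rw [e]
      exact S.P.inv_mem (S.P.pow_mem g.2 _)
    rw [← pow_mul] at hyP
    have hy1 := S.inter _ hyP
    rw [← pow_mul, hy1, mul_one] at hwN
    have hg1 : g = 1 := pA2_trivial H.hp H.hq H.hpq S g n hwN
    intro h _
    rw [hwg, hg1, Subgroup.coe_one, one_mul]
    exact hc h
  · -- `q ∤ i`
    have hconj : ∀ h' : ↥S.P, (h' : X) ∈ K → ∃ h'' : ↥S.P, (h'' : X) ∈ K ∧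
        S.ρ h'' = Multiplicative.ofAdd (ζ ^ i * Multiplicative.toAdd (S.ρ h')) := by
      intro h' hh'
      have hmem : w * (h' : X) * w⁻¹ ∈ S.P := S.normal.conj_mem h' h'.2 w
      have hmem1 : S.y ^ i * (h' : X) * (S.y ^ i)⁻¹ ∈ S.P := S.normal.conj_mem h' h'.2 (S.y ^ i)
      refine ⟨⟨_, hmem⟩, K.mul_mem (K.mul_mem hw hh') (K.inv_mem hw), ?_⟩
      have h1 := pA2_conj_rho S i h' ⟨_, hmem1⟩ rfl
      have e : (⟨_, hmem⟩ : ↥S.P) = g * ⟨_, hmem1⟩ * g⁻¹ := by
        apply Subtype.ext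
        show w * (h' : X) * w⁻¹ = (g : X) * (S.y ^ i * (h' : X) * (S.y ^ i)⁻¹) * (g : X)⁻¹
        rw [hwg]
        simp only [mul_inv_rev, mul_assoc]
      rw [e, map_mul, map_mul, map_inv, mul_comm, inv_mul_cancel_left]
      exact h1
    let B : AddSubgroup F :=
      { carrier := {b | ∃ h' : ↥S.P, (h' : X) ∈ K ∧ S.ρ h' = Multiplicative.ofAdd b}
        zero_mem' := ⟨1, K.one_mem, by rw [map_one]; rfl⟩
        add_mem' := by
          rintro b₁ b₂ ⟨h₁, hk₁, e₁⟩ ⟨h₂, hk₂, e₂⟩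
          exact ⟨h₁ * h₂, K.mul_mem hk₁ hk₂, by rw [map_mul, e₁, e₂]; rfl⟩
        neg_mem' := by
          rintro b ⟨h₁, hk₁, e₁⟩
          exact ⟨h₁⁻¹, K.inv_mem hk₁, by rw [map_inv, e₁]; rfl⟩ }
    have hBmem : ∀ b : F, b ∈ B ↔ ∃ h' : ↥S.P, (h' : X) ∈ K ∧ S.ρ h' = Multiplicative.ofAdd b :=
      fun b => Iff.rfl
    have hB : ∀ b ∈ B, ζ ^ i * b ∈ B := by
      intro b hb
      obtain ⟨h', hh', e⟩ := (hBmem b).1 hb
      obtain ⟨h'', hh'', e'⟩ := hconj h' hh'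
      refine (hBmem _).2 ⟨h'', hh'', ?_⟩
      rw [e', e, toAdd_ofAdd]
    rcases inv_sub H i hqi B hB with hbot | htop
    · intro h hh
      have h1 : Multiplicative.toAdd (S.ρ ⟨h, hh.2⟩) ∈ B :=
        (hBmem _).2 ⟨⟨h, hh.2⟩, hh.1, by rw [ofAdd_toAdd]⟩
      rw [hbot, AddSubgroup.mem_bot] at h1
      have h2 : S.ρ ⟨h, hh.2⟩ = 1 := by
        have := congrArg Multiplicative.ofAdd h1
        rw [ofAdd_toAdd] at this
        exact this
      exact S.central ⟨h, hh.2⟩ h2 w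
    · exfalso
      have hon : ∀ x : Multiplicative F, ∃ s : ↥S.P, (s : X) ∈ K ⊓ S.P ∧ S.ρ s = x := by
        intro x
        have h1 : Multiplicative.toAdd x ∈ B := by
          rw [htop]
          exact AddSubgroup.mem_top _
        obtain ⟨s, hs, e⟩ := (hBmem _).1 h1
        exact ⟨s, ⟨hs, s.2⟩, by rw [e, ofAdd_toAdd]⟩
      have heq := sub_eq_of_onto H S (K ⊓ S.P) inf_le_right hon
      have hPK : S.P ≤ K := by
        rw [← heq]
        exact inf_le_left
      have hyi : S.y ^ i ∈ K := by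
        have e : S.y ^ i = (g : X)⁻¹ * w := by rw [hwg, inv_mul_cancel_left]
        rw [e]
        exact K.mul_mem (K.inv_mem (hPK g.2)) hw
      have hcop : i.Coprime (orderOf S.y) := by
        rw [S.order_y]
        exact Nat.Coprime.pow_right r ((Nat.Prime.coprime_iff_not_dvd H.hq).2 hqi).symm
      obtain ⟨m, hm⟩ := exists_pow_eq_self_of_coprime hcop
      have hy : S.y ∈ K := by
        rw [← hm]
        exact K.pow_mem hyi m
      apply hK
      rw [eq_top_iff]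
      intro x _
      obtain ⟨g', j, hx⟩ := S.gen x
      rw [hx]
      exact K.mul_mem (hPK g'.2) (K.pow_mem hy j)

end Cfsg.Agent.Lib.Helper55.SCH
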