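import Cfsg.Agent.Lib.Helper55.SchDefs

/-! Project SCH (S4395), piece SCH-ProperB (filled by helper31). -/

set_option autoImplicit false
universe u v

namespace Cfsg.Agent.Lib.Helper55.SCH

open scoped Pointwise

/-- A finite group `K = P⟨w⟩` with `P` a `p`-subgroup and `w` a `q`-element centralizing `P` has a
normal `p`-complement.
Proof: `w` is central in `K` (commutes with `P` and with its own powers, `hgen`), so
`N := Subgroup.zpowers w` is normal.  `P ⊓ N = ⊥` (orders `p`-power and `q`-power), `P ⊔ N = ⊤`, so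
`|K| = |P| * |N|` and `P.index = |N|` is prime to `p`: `P` is a Sylow `p`-subgroup
(`IsPGroup.toSylow` needs `¬ p ∣ P.index`).  `N.IsComplement' P`
(`Subgroup.isComplement'_of_coprime` or `isComplement'_of_disjoint_and_mul_eq_univ`). -/
theorem hasNormalPComplement_of_struct {p q : ℕ} (hp : p.Prime) (hq : q.Prime) (hpq : p ≠ q)
    {K : Type*} [Group K] [Finite K] (P : Subgroup K) (hP : IsPGroup p ↥P) (w : K) (n : ℕ)
    (hn : orderOf w = q ^ n) (hgen : ∀ k : K, ∃ h ∈ P, ∃ i : ℕ, k = h * w ^ i)
    (hcomm : ∀ h ∈ P, w * h = h * w) : Cfsg.HasNormalPComplement p K := by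
  classical
  have : Fact p.Prime := ⟨hp⟩
  -- `w` is central
  have hcent : ∀ k : K, k * w = w * k := by
    intro k
    obtain ⟨h, hh, i, rfl⟩ := hgen k
    have h1 : w ^ i * w = w * w ^ i := by rw [← pow_succ, ← pow_succ']
    calc h * w ^ i * w = h * (w ^ i * w) := by group
      _ = h * (w * w ^ i) := by rw [h1]
      _ = (h * w) * w ^ i := by group
      _ = (w * h) * w ^ i := by rw [hcomm h hh]
      _ = w * (h * w ^ i) := by group
  have hnormal : (Subgroup.zpowers w).Normal := by
    refine ⟨fun x hx k => ?_⟩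
    obtain ⟨j, rfl⟩ := Subgroup.mem_zpowers_iff.1 hx
    have h1 : Commute k (w ^ j) := (show Commute k w from hcent k).zpow_right j
    have h2 : k * w ^ j * k⁻¹ = w ^ j := by
      rw [h1.eq]; group
    rw [h2]
    exact Subgroup.zpow_mem_zpowers w j
  have hcardN : Nat.card (Subgroup.zpowers w) = q ^ n := by rw [Nat.card_zpowers, hn]
  obtain ⟨m, hm⟩ := IsPGroup.iff_card.1 hP
  have hcop : Nat.Coprime (Nat.card (Subgroup.zpowers w)) (Nat.card P) := by
    rw [hcardN, hm]
    exact Nat.Coprime.pow _ _ ((Nat.coprime_primes hq hp).2 (Ne.symm hpq))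
  have hdisj : Disjoint (Subgroup.zpowers w) P := Subgroup.disjoint_of_coprime_natCard hcop
  have hmul : ((Subgroup.zpowers w : Subgroup K) : Set K) * (P : Set K) = Set.univ := by
    rw [Set.eq_univ_iff_forall]
    intro k
    obtain ⟨h, hh, i, rfl⟩ := hgen k
    refine Set.mem_mul.2 ⟨w ^ i, Subgroup.pow_mem _ (Subgroup.mem_zpowers w) i, h, hh, ?_⟩
    have h1 : Commute w h := hcomm h hh
    exact (h1.pow_left i).eq
  have hcompl : (Subgroup.zpowers w).IsComplement' P :=
    Subgroup.isComplement'_of_disjoint_and_mul_eq_univ hdisj hmul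
  have hidx : P.index = q ^ n := by rw [hcompl.index_eq_card, hcardN]
  have hnd : ¬ p ∣ P.index := by
    rw [hidx]
    intro h
    exact hpq ((Nat.prime_dvd_prime_iff_eq hp hq).1 (hp.dvd_of_dvd_pow h))
  refine ⟨hP.toSylow hnd, Subgroup.zpowers w, hnormal, ?_⟩
  rw [IsPGroup.toSylow_coe]
  exact hcompl

end Cfsg.Agent.Lib.Helper55.SCH
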