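import Cfsg.Agent.Lib.Helper55.SchDefs
/-! Project SCH (S4395), piece SCH-Semi: the semidirect product with a cyclic group of order
`q ^ r` carries a Schmidt structure. -/

set_option autoImplicit false
universe u v

namespace Cfsg.Agent.Lib.Helper55.SCH

/-- Semidirect product with a cyclic group of order `q ^ r`: a Schmidt structure on
`G₀ := U ⋊[φ] Multiplicative (ZMod (q ^ r))`, where `φ (ofAdd i) = τ ^ i`. -/
theorem semi {p q a r : ℕ} {F : Type} [Field F] {ζ : F} (H : Hyp p q a F ζ) (hr : 1 ≤ r)
    {U : Type u} [Group U] [Finite U] (k : ℕ) (hU : Nat.card U = p ^ k)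
    (ρ : U →* Multiplicative F) (τ : MulAut U) (hsurj : Function.Surjective ρ)
    (hτ : ∀ u, ρ (τ u) = Multiplicative.ofAdd (ζ * Multiplicative.toAdd (ρ u)))
    (hker : ∀ u, ρ u = 1 → τ u = u ∧ ∀ v, v * u = u * v)
    (hmin : ∀ S : Subgroup U, (∀ x, ∃ s ∈ S, ρ s = x) → S = ⊤)
    (hq' : ∀ u, (τ ^ q) u = u) :
    ∃ (G₀ : Type u) (_ : Group G₀) (_ : Finite G₀) (S : Sch p q r ζ G₀), Nat.card ↥S.P = p ^ k := by
  have hτq : τ ^ q = 1 := MulEquiv.ext hq'
  have hτqr : τ ^ (q ^ r) = 1 := by
    obtain ⟨s, rfl⟩ : ∃ s, r = s + 1 := ⟨r - 1, by omega⟩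
    rw [pow_succ', pow_mul, hτq, one_pow]
  have hn1 : 1 < q ^ r := Nat.one_lt_pow (by omega) H.hq.one_lt
  have : Fact (1 < q ^ r) := ⟨hn1⟩
  have : NeZero (q ^ r) := ⟨by omega⟩
  let φ : Multiplicative (ZMod (q ^ r)) →* MulAut U :=
    MonoidHom.mk' (fun c => τ ^ (Multiplicative.toAdd c).val) (by
      intro c d
      show τ ^ (Multiplicative.toAdd (c * d)).val = _
      rw [toAdd_mul, ZMod.val_add, ← pow_eq_pow_mod _ hτqr, pow_add])
  have hφ : ∀ c, φ c = τ ^ (Multiplicative.toAdd c).val := fun c => rfl
  let c₁ : Multiplicative (ZMod (q ^ r)) := Multiplicative.ofAdd 1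
  have hφ1 : φ c₁ = τ := by
    rw [hφ]; show τ ^ (1 : ZMod (q ^ r)).val = τ; rw [ZMod.val_one, pow_one]
  let G₀ := U ⋊[φ] Multiplicative (ZMod (q ^ r))
  have : Finite G₀ := Finite.of_equiv _ SemidirectProduct.equivProd.symm
  let inl : U →* G₀ := SemidirectProduct.inl
  let inr : Multiplicative (ZMod (q ^ r)) →* G₀ := SemidirectProduct.inr
  let iso : U ≃* ↥inl.range := MonoidHom.ofInjective SemidirectProduct.inl_injective
  let ρ' : ↥inl.range →* Multiplicative F := ρ.comp iso.symm.toMonoidHom
  have hρ'' : ∀ g : ↥inl.range, ∃ u, inl u = (g : G₀) ∧ ρ' g = ρ u := by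
    intro g
    exact ⟨iso.symm g, congrArg Subtype.val (iso.apply_symm_apply g), rfl⟩
  have hfix : ∀ u, ρ u = 1 → ∀ c, φ c u = u := by
    intro u hu c
    rw [hφ]
    generalize (Multiplicative.toAdd c).val = i
    induction i with
    | zero => simp
    | succ i ih => rw [pow_succ, MulAut.mul_apply, (hker u hu).1, ih]
  have hcard : Nat.card ↥inl.range = p ^ k := by
    rw [← Nat.card_congr iso.toEquiv, hU]
  have hc₁ : ∀ c : Multiplicative (ZMod (q ^ r)), ∃ i : ℕ, c = c₁ ^ i := by
    intro c
    refine ⟨(Multiplicative.toAdd c).val, ?_⟩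
    show c = Multiplicative.ofAdd 1 ^ _
    rw [← ofAdd_nsmul, nsmul_one, ZMod.natCast_zmod_val]
    rfl
  refine ⟨G₀, inferInstance, inferInstance,
    { P := inl.range
      y := inr c₁
      ρ := ρ'
      normal := by
        show (SemidirectProduct.inl : U →* G₀).range.Normal
        rw [SemidirectProduct.range_inl_eq_ker_rightHom]; infer_instance
      pgroup := IsPGroup.of_card hcard
      surj := by
        intro x
        obtain ⟨u, hu⟩ := hsurj x
        refine ⟨iso u, ?_⟩
        show ρ (iso.symm (iso u)) = x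
        rw [iso.symm_apply_apply]; exact hu
      equiv := by
        intro g h hgh
        obtain ⟨u, hu, hgu⟩ := hρ'' g
        obtain ⟨v, hv, hhv⟩ := hρ'' h
        rw [hgu, hhv]
        rw [← hu, ← hv] at hgh
        have h1 : inl v = inl (φ c₁ u) := by
          have h8 := SemidirectProduct.inl_aut (φ := φ) c₁ u
          rw [map_inv] at h8
          exact hgh.trans h8.symm
        have h2 : v = τ u := by
          rw [← hφ1]; exact SemidirectProduct.inl_injective h1
        rw [h2]; exact hτ u
      central := by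
        intro g hg x
        obtain ⟨u, hu, hgu⟩ := hρ'' g
        rw [hgu] at hg
        rw [← hu]
        have hx : x = inl x.left * inr x.right := (SemidirectProduct.inl_left_mul_inr_right x).symm
        rw [hx]
        have h3 : inr x.right * inl u = inl u * inr x.right := by
          have h6 : inl u = inr x.right * inl u * (inr x.right)⁻¹ := by
            have h6' := SemidirectProduct.inl_aut (φ := φ) x.right u
            rw [hfix u hg, map_inv] at h6'
            exact h6'
          calc inr x.right * inl u = (inr x.right * inl u * (inr x.right)⁻¹) * inr x.right :=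
                (inv_mul_cancel_right _ _).symm
            _ = inl u * inr x.right := by rw [← h6]
        rw [mul_assoc, h3, ← mul_assoc, ← mul_assoc, ← map_mul, ← map_mul, (hker u hg).2 x.left]
      minimal := by
        intro S hSP _ hS
        have h4 := hmin (S.comap inl) (by
          intro x
          obtain ⟨s, hs, hsx⟩ := hS x
          obtain ⟨u, hu, hsu⟩ := hρ'' s
          refine ⟨u, ?_, ?_⟩
          · show inl u ∈ S
            rw [hu]; exact hs
          · rw [← hsu]; exact hsx)
        refine le_antisymm hSP ?_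
        rintro _ ⟨u, rfl⟩
        have h7 : u ∈ S.comap inl := by rw [h4]; trivial
        exact h7
      order_y := by
        rw [orderOf_injective inr SemidirectProduct.inr_injective]
        show orderOf (Multiplicative.ofAdd (1 : ZMod (q ^ r))) = q ^ r
        rw [orderOf_ofAdd_eq_addOrderOf, ZMod.addOrderOf_one]
      gen := by
        intro x
        obtain ⟨i, hi⟩ := hc₁ x.right
        refine ⟨iso x.left, i, ?_⟩
        show x = inl x.left * inr c₁ ^ i
        rw [← map_pow, ← hi]
        exact (SemidirectProduct.inl_left_mul_inr_right x).symm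
      inter := by
        intro i hi
        rw [← map_pow] at hi ⊢
        obtain ⟨u, hu⟩ := hi
        have h5 := congrArg SemidirectProduct.rightHom hu
        rw [SemidirectProduct.rightHom_inl, SemidirectProduct.rightHom_inr] at h5
        rw [← h5, map_one] }, hcard⟩

end Cfsg.Agent.Lib.Helper55.SCH
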