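import Cfsg.Agent.Lib.Helper55.SchDefs
import Cfsg.Agent.S0132
import Cfsg.Agent.Lib.Helper4.NilAux
/-! Project SCH (S4395), piece SCH-St1 (proved by helper10). -/

set_option autoImplicit false
universe u v

namespace Cfsg.Agent.Lib.Helper55.SCH

open scoped Pointwise

/-- an element stabilising a finite subgroup under conjugation normalises it -/
theorem st1_mem_normalizer {X : Type*} [Group X] [Finite X] (S : Subgroup X) (y : X)
    (h : ∀ s ∈ S, y * s * y⁻¹ ∈ S) : y ∈ Subgroup.normalizer (S : Set X) := by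
  rw [Subgroup.mem_normalizer_iff]
  intro g
  refine ⟨h g, fun hg => ?_⟩
  let φ : ↥S → ↥S := fun s => ⟨y * s.1 * y⁻¹, h s.1 s.2⟩
  have hinj : Function.Injective φ := by
    intro a b hab
    have h1 : y * a.1 * y⁻¹ = y * b.1 * y⁻¹ := congrArg Subtype.val hab
    apply Subtype.ext
    have h2 : y * a.1 = y * b.1 := mul_right_cancel h1
    exact mul_left_cancel h2
  have hsurj : Function.Surjective φ := Finite.injective_iff_surjective.mp hinj
  obtain ⟨s, hs⟩ := hsurj ⟨y * g * y⁻¹, hg⟩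
  have h1 : y * s.1 * y⁻¹ = y * g * y⁻¹ := congrArg Subtype.val hs
  have h2 : s.1 = g := mul_left_cancel (mul_right_cancel h1)
  rw [← h2]
  exact s.2

theorem struct1 {X : Type*} [Group X] [Finite X] {p q r t : ℕ} [Fact p.Prime] (hq : q.Prime)
    (hpq : p ≠ q) (hr : 1 ≤ r)
    (h1 : ¬ Cfsg.HasNormalPComplement p X)
    (h2 : ∀ K : Subgroup X, K ≠ ⊤ → Cfsg.HasNormalPComplement p ↥K)
    (hcard : Nat.card X = p ^ t * q ^ r) :
    ∃ (P : Subgroup X) (y : X), P.Normal ∧ IsPGroup p ↥P ∧ orderOf y = q ^ r ∧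
      (∀ x : X, ∃ g ∈ P, ∃ i : ℕ, x = g * y ^ i) ∧ (∀ i : ℕ, y ^ i ∈ P → y ^ i = 1) ∧
      (∃ g ∈ P, y * g ≠ g * y) ∧
      (∀ S : Subgroup X, S ≤ P → S ≠ P → (∀ s ∈ S, y * s * y⁻¹ ∈ S) → ∀ s ∈ S, y * s = s * y) ∧
      (∀ g ∈ P, y ^ q * g = g * y ^ q) := by
  classical
  have hp : p.Prime := Fact.out
  obtain ⟨P₀⟩ : Nonempty (Sylow p X) := inferInstance
  obtain ⟨hnil, -, hPnorm⟩ := Cfsg.Agent.S0132.result h1 h2
  obtain ⟨y, hyo, hPy, -, hyC⟩ := Cfsg.Agent.S0132.exists_pair h1 h2 P₀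
  haveI hPn : (P₀ : Subgroup X).Normal := hPnorm P₀
  -- the order of `P`
  have hfac : (p ^ t * q ^ r).factorization p = t := by
    rw [Nat.factorization_mul (pow_ne_zero _ hp.ne_zero) (pow_ne_zero _ hq.ne_zero),
      hp.factorization_pow, hq.factorization_pow, Finsupp.add_apply, Finsupp.single_eq_same,
      Finsupp.single_eq_of_ne hpq, add_zero]
  have hPcard : Nat.card (P₀ : Subgroup X) = p ^ t := by
    have := P₀.card_eq_multiplicity
    rw [hcard, hfac] at this
    exact this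
  have hcop : Nat.Coprime q p := (Nat.coprime_primes hq hp).mpr hpq.symm
  have hcopqr : Nat.Coprime (q ^ r) (p ^ t) := Nat.Coprime.pow r t hcop
  -- the order of `y` divides `q ^ r`
  have hyd : orderOf y ∣ q ^ r := by
    have h3 : orderOf y ∣ p ^ t * q ^ r := by
      rw [← hcard]
      exact orderOf_dvd_natCard y
    exact (Nat.Coprime.pow_right t hyo).dvd_of_dvd_mul_left h3
  have hycop : Nat.Coprime (orderOf y) (p ^ t) := Nat.Coprime.pow_right t hyo
  have hinf : (P₀ : Subgroup X) ⊓ Subgroup.zpowers y = ⊥ := by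
    apply disjoint_iff.mp
    apply Subgroup.disjoint_of_coprime_natCard
    rw [hPcard, Nat.card_zpowers]
    exact hycop.symm
  have hmul : ((P₀ : Subgroup X) : Set X) * (Subgroup.zpowers y : Set X) = Set.univ := by
    rw [← Subgroup.normal_mul, hPy]
    rfl
  have hcompl : Subgroup.IsComplement' (P₀ : Subgroup X) (Subgroup.zpowers y) :=
    Subgroup.isComplement'_of_disjoint_and_mul_eq_univ (disjoint_iff.mpr hinf) hmul
  have hyord : orderOf y = q ^ r := by
    have h3 := hcompl.card_mul_card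
    rw [hPcard, Nat.card_zpowers, hcard] at h3
    exact Nat.eq_of_mul_eq_mul_left (pow_pos hp.pos t) h3
  have hPord : ∀ g ∈ (P₀ : Subgroup X), orderOf g ∣ p ^ t := by
    intro g hg
    rw [← hPcard]
    exact Subgroup.orderOf_dvd_natCard _ hg
  have hinter : ∀ i : ℕ, y ^ i ∈ (P₀ : Subgroup X) → y ^ i = 1 := by
    intro i hi
    have h3 : y ^ i ∈ (P₀ : Subgroup X) ⊓ Subgroup.zpowers y :=
      ⟨hi, Subgroup.pow_mem _ (Subgroup.mem_zpowers y) i⟩
    rw [hinf] at h3
    exact Subgroup.mem_bot.mp h3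
  refine ⟨(P₀ : Subgroup X), y, hPn, P₀.2, hyord, ?_, hinter, ?_, ?_, ?_⟩
  · -- product decomposition
    intro x
    have hx : x ∈ ((P₀ : Subgroup X) : Set X) * (Subgroup.zpowers y : Set X) := by
      rw [hmul]; trivial
    obtain ⟨g, hg, z, hz, rfl⟩ := Set.mem_mul.mp hx
    obtain ⟨i, hi⟩ := (mem_powers_iff_mem_zpowers (x := y) (y := z)).mpr hz
    exact ⟨g, hg, i, by rw [← hi]⟩
  · -- `y` does not centralise `P`
    by_contra hcon
    apply hyC
    rw [Subgroup.mem_centralizer_iff]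
    intro g hg
    by_contra hne
    exact hcon ⟨g, hg, fun h => hne h.symm⟩
  · -- proper `y`-stable subgroups are centralised
    intro S hSP hSne hSy s hs
    have hyN : Subgroup.zpowers y ≤ Subgroup.normalizer (S : Set X) :=
      (Subgroup.zpowers_le).mpr (st1_mem_normalizer S y hSy)
    have hKne : S ⊔ Subgroup.zpowers y ≠ ⊤ := by
      intro htop
      apply hSne
      apply le_antisymm hSP
      intro g hg
      have hgK : g ∈ ((S ⊔ Subgroup.zpowers y : Subgroup X) : Set X) := by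
        rw [htop]; trivial
      rw [Subgroup.coe_mul_of_right_le_normalizer_left S _ hyN] at hgK
      obtain ⟨s', hs', z, hz, rfl⟩ := Set.mem_mul.mp hgK
      have hzP : z ∈ (P₀ : Subgroup X) := by
        have : z = s'⁻¹ * (s' * z) := by group
        rw [this]
        exact Subgroup.mul_mem _ (Subgroup.inv_mem _ (hSP hs')) hg
      have hz1 : z ∈ (P₀ : Subgroup X) ⊓ Subgroup.zpowers y := ⟨hzP, hz⟩
      rw [hinf] at hz1
      rw [Subgroup.mem_bot.mp hz1, mul_one]
      exact hs'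
    haveI : Group.IsNilpotent ↥(S ⊔ Subgroup.zpowers y) := hnil _ hKne
    have hyK : y ∈ S ⊔ Subgroup.zpowers y := Subgroup.mem_sup_right (Subgroup.mem_zpowers y)
    have hsK : s ∈ S ⊔ Subgroup.zpowers y := Subgroup.mem_sup_left hs
    have h3 := Cfsg.Agent.Lib.Helper4.commute_of_coprime_of_isNilpotent
      ↥(S ⊔ Subgroup.zpowers y) ⟨y, hyK⟩ ⟨s, hsK⟩ (by
        rw [Subgroup.orderOf_mk, Subgroup.orderOf_mk, hyord]
        exact Nat.Coprime.coprime_dvd_right (hPord s (hSP hs)) hcopqr)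
    exact congrArg Subtype.val h3
  · -- `y ^ q` centralises `P`
    intro g hg
    have hqd : q ∣ orderOf y := by
      rw [hyord]
      exact dvd_pow_self q (by omega)
    have hyq : orderOf (y ^ q) = q ^ r / q := by
      rw [orderOf_pow_of_dvd hq.ne_zero hqd, hyord]
    have hKne : (P₀ : Subgroup X) ⊔ Subgroup.zpowers (y ^ q) ≠ ⊤ := by
      intro htop
      have hyK : y ∈ (((P₀ : Subgroup X) ⊔ Subgroup.zpowers (y ^ q) : Subgroup X) : Set X) := by
        rw [htop]; trivial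
      rw [Subgroup.normal_mul] at hyK
      obtain ⟨g', hg', z, hz, hgz⟩ := Set.mem_mul.mp hyK
      have hzy : z ∈ Subgroup.zpowers y :=
        (Subgroup.zpowers_le.mpr (Subgroup.pow_mem _ (Subgroup.mem_zpowers y) q)) hz
      have hg'y : g' ∈ Subgroup.zpowers y := by
        have : g' = y * z⁻¹ := by rw [← hgz]; group
        rw [this]
        exact Subgroup.mul_mem _ (Subgroup.mem_zpowers y) (Subgroup.inv_mem _ hzy)
      have hg'1 : g' ∈ (P₀ : Subgroup X) ⊓ Subgroup.zpowers y := ⟨hg', hg'y⟩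
      rw [hinf] at hg'1
      rw [Subgroup.mem_bot.mp hg'1, one_mul] at hgz
      rw [hgz] at hz
      have h4 : orderOf y ∣ orderOf (y ^ q) := orderOf_dvd_of_mem_zpowers hz
      rw [hyq, hyord] at h4
      have hqr : 0 < q ^ r := pow_pos hq.pos r
      have h5 : q ^ r / q < q ^ r := Nat.div_lt_self hqr hq.one_lt
      have h6 : 0 < q ^ r / q := Nat.div_pos (Nat.le_of_dvd hqr (dvd_pow_self q (by omega))) hq.pos
      exact absurd (Nat.le_of_dvd h6 h4) (not_le.mpr h5)
    haveI : Group.IsNilpotent ↥((P₀ : Subgroup X) ⊔ Subgroup.zpowers (y ^ q)) := hnil _ hKne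
    have hyK : y ^ q ∈ (P₀ : Subgroup X) ⊔ Subgroup.zpowers (y ^ q) :=
      Subgroup.mem_sup_right (Subgroup.mem_zpowers _)
    have hgK : g ∈ (P₀ : Subgroup X) ⊔ Subgroup.zpowers (y ^ q) := Subgroup.mem_sup_left hg
    have h3 := Cfsg.Agent.Lib.Helper4.commute_of_coprime_of_isNilpotent
      ↥((P₀ : Subgroup X) ⊔ Subgroup.zpowers (y ^ q)) ⟨y ^ q, hyK⟩ ⟨g, hgK⟩ (by
        rw [Subgroup.orderOf_mk, Subgroup.orderOf_mk]
        have h7 : orderOf (y ^ q) ∣ q ^ r := by
          rw [← hyord]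
          exact orderOf_pow_dvd q
        exact Nat.Coprime.coprime_dvd_left h7 (Nat.Coprime.coprime_dvd_right (hPord g hg) hcopqr))
    exact congrArg Subtype.val h3

end Cfsg.Agent.Lib.Helper55.SCH
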