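import Cfsg.Agent.Lib.Helper55.SchDefs

/-! Project SCH (S4395), piece SCH-St2.  PLACEHOLDER: replace the `sorry`(s) in this ONE file;
keep the statement(s), names and namespace exactly.  You may add private/auxiliary lemmas
above the main theorem(s) in this file (same namespace). -/

set_option autoImplicit false
universe u v

namespace Cfsg.Agent.Lib.Helper55.SCH

/-- coprime trick: if `y g y⁻¹ = g * k` with `k ∈ P` fixed by `y`, then `k = 1` -/
theorem st2_coprime {X : Type*} [Group X] {p q r : ℕ} (hp : p.Prime) (hq : q.Prime) (hpq : p ≠ q)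
    (P : Subgroup X) (hP : IsPGroup p ↥P) (y : X) (hy : orderOf y = q ^ r) (g k : X) (hk : k ∈ P)
    (hyk : y * k = k * y) (h : y * g * y⁻¹ = g * k) : k = 1 := by
  have hykm : ∀ m : ℕ, y * k ^ m * y⁻¹ = k ^ m := by
    intro m
    have hc : Commute y (k ^ m) := (show Commute y k from hyk).pow_right m
    rw [hc.eq, mul_inv_cancel_right]
  have hpow : ∀ m : ℕ, y ^ m * g * (y ^ m)⁻¹ = g * k ^ m := by
    intro m
    induction m with
    | zero => simp
    | succ m ih =>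
      have e1 : y ^ (m + 1) * g * (y ^ (m + 1))⁻¹ = y * (y ^ m * g * (y ^ m)⁻¹) * y⁻¹ := by
        rw [pow_succ']
        group
      rw [e1, ih]
      have e2 : y * (g * k ^ m) * y⁻¹ = (y * g * y⁻¹) * (y * k ^ m * y⁻¹) := by group
      rw [e2, h, hykm, mul_assoc, ← pow_succ']
  have h1 := hpow (q ^ r)
  rw [← hy, pow_orderOf_eq_one, one_mul, inv_one, mul_one] at h1
  have h2 : k ^ orderOf y = 1 := by
    apply mul_left_cancel (a := g)
    rw [mul_one]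
    exact h1.symm
  have hdvd1 : orderOf k ∣ q ^ r := by
    rw [← hy]
    exact orderOf_dvd_of_pow_eq_one h2
  obtain ⟨j, hj⟩ := hP ⟨k, hk⟩
  have hj' : k ^ p ^ j = 1 := by
    have h3 := congrArg Subtype.val hj
    simpa using h3
  have hdvd2 : orderOf k ∣ p ^ j := orderOf_dvd_of_pow_eq_one hj'
  have hcop : Nat.Coprime (p ^ j) (q ^ r) :=
    Nat.Coprime.pow _ _ ((Nat.coprime_primes hp hq).2 hpq)
  have h3 : orderOf k = 1 :=
    Nat.Coprime.eq_one_of_dvd (Nat.Coprime.coprime_dvd_left hdvd2 hcop) hdvd1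
  exact orderOf_eq_one_iff.mp h3

/-- membership in `P ⊓ C(t)` -/
theorem st2_mem_cent {X : Type*} [Group X] (P : Subgroup X) (t g : X) :
    g ∈ P ⊓ Subgroup.centralizer ({t} : Set X) ↔ g ∈ P ∧ t * g = g * t := by
  rw [Subgroup.mem_inf, Subgroup.mem_centralizer_iff]
  constructor
  · rintro ⟨h1, h2⟩
    exact ⟨h1, h2 t rfl⟩
  · rintro ⟨h1, h2⟩
    refine ⟨h1, ?_⟩
    intro h hh
    rw [Set.mem_singleton_iff] at hh
    rw [hh]
    exact h2

/-- Structure step 2: `Z := C_P(y)` is central, contains every proper `y`-stable subgroup of `P`,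
contains `[P, P]`, and `y` has no fixed points on `P / Z`.
Proof: `Z := {g ∈ P | y * g = g * y}` (a subgroup, `y`-stable, `≠ P` by `hnc`); by `hmin` it contains
every proper `y`-stable subgroup of `P`.  (a) `[P, P]` (as a subgroup of `X`, e.g.
`(commutator ↥P).map P.subtype`) is `y`-stable and `≠ P` (`P` is a nontrivial `p`-group, hence
nilpotent: `IsSolvable.commutator_lt_top_of_nontrivial`), so `[P,P] ≤ Z`; in particular `Z` is
normalized by `P`.  (b) coprime trick: if `g ∈ P` and `y g y⁻¹ = g * k` with `y k = k y` then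
`y^m g y^-m = g * k^m`, so `k ^ (q^r) = 1`, and `k ∈ P` is a `p`-element, so `k = 1`.
(c) `Z` central in `P`: fix `z ∈ Z`; `C := {g ∈ P | g z = z g}` is a `y`-stable subgroup.  For `g ∈ P`,
`[g, z] ∈ [P,P] ≤ Z` is fixed by `y`, so `[y g y⁻¹, z] = [g, z]`, which gives `c_g := g⁻¹ * (y g y⁻¹) ∈ C`.
If `C ≠ P` then `C ≤ Z`, so every `c_g ∈ Z` commutes with `y`, and by (b) `c_g = 1` for all `g ∈ P`,
contradicting `hnc`.  So `C = P`.  With `hgen`, `z` is central in `X`.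
(d) fixed points: `B := {g ∈ P | y g y⁻¹ g⁻¹ ∈ Z}` is a subgroup (`Z` central), `y`-stable.  If
`B = P` then `y g y⁻¹ = k * g` with `k ∈ Z` central and fixed by `y`; by (b) `k = 1` for all `g`:
contradiction with `hnc`.  So `B ≠ P`, hence `B ≤ Z`. -/
theorem struct2 {X : Type*} [Group X] [Finite X] {p q r : ℕ} (hp : p.Prime) (hq : q.Prime) (hpq : p ≠ q)
    (P : Subgroup X) (y : X) (hN : P.Normal) (hP : IsPGroup p ↥P) (hy : orderOf y = q ^ r)
    (hgen : ∀ x : X, ∃ g ∈ P, ∃ i : ℕ, x = g * y ^ i)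
    (hnc : ∃ g ∈ P, y * g ≠ g * y)
    (hmin : ∀ S : Subgroup X, S ≤ P → S ≠ P → (∀ s ∈ S, y * s * y⁻¹ ∈ S) → ∀ s ∈ S, y * s = s * y) :
    ∃ Z : Subgroup X, Z ≤ P ∧ Z ≠ P ∧ (∀ z ∈ Z, ∀ x : X, x * z = z * x) ∧
      (∀ S : Subgroup X, S ≤ P → S ≠ P → (∀ s ∈ S, y * s * y⁻¹ ∈ S) → S ≤ Z) ∧
      (∀ g ∈ P, ∀ h ∈ P, g * h * g⁻¹ * h⁻¹ ∈ Z) ∧
      (∀ g ∈ P, y * g * y⁻¹ * g⁻¹ ∈ Z → g ∈ Z) := by
  classical
  have hpF : Fact p.Prime := ⟨hp⟩
  obtain ⟨g₀, hg₀P, hg₀⟩ := hnc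
  obtain ⟨Z, hZdef⟩ : ∃ Z : Subgroup X, Z = P ⊓ Subgroup.centralizer ({y} : Set X) := ⟨_, rfl⟩
  have hZmem : ∀ g, g ∈ Z ↔ g ∈ P ∧ y * g = g * y := by
    intro g
    rw [hZdef]
    exact st2_mem_cent P y g
  have hZP : Z ≤ P := fun g hg => ((hZmem g).1 hg).1
  have hZne : Z ≠ P := by
    intro h
    have h1 : g₀ ∈ Z := by rw [h]; exact hg₀P
    exact hg₀ ((hZmem g₀).1 h1).2
  have hcontain : ∀ S : Subgroup X, S ≤ P → S ≠ P → (∀ s ∈ S, y * s * y⁻¹ ∈ S) → S ≤ Z := by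
    intro S hSP hSne hSy s hs
    exact (hZmem s).2 ⟨hSP hs, hmin S hSP hSne hSy s hs⟩
  -- (a) the commutator subgroup
  have hDP : ⁅P, P⁆ ≤ P := by
    rw [Subgroup.commutator_le]
    intro g₁ h₁ g₂ h₂
    rw [commutatorElement_def]
    exact P.mul_mem (P.mul_mem (P.mul_mem h₁ h₂) (P.inv_mem h₁)) (P.inv_mem h₂)
  have hDne : ⁅P, P⁆ ≠ P := by
    intro h
    have hnt : Nontrivial ↥P := by
      refine ⟨⟨⟨g₀, hg₀P⟩, 1, ?_⟩⟩
      intro h1
      have h2 : g₀ = 1 := congrArg Subtype.val h1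
      apply hg₀
      rw [h2, mul_one, one_mul]
    have hnil : Group.IsNilpotent ↥P := hP.isNilpotent
    have hlt := Group.IsSolvable.commutator_lt_top_of_nontrivial ↥P
    have h3 : (commutator ↥P).map P.subtype = ⁅P, P⁆ := by
      rw [commutator_def, Subgroup.map_commutator, ← MonoidHom.range_eq_map,
        Subgroup.range_subtype]
    have h4 : (commutator ↥P).map P.subtype = (⊤ : Subgroup ↥P).map P.subtype := by
      rw [h3, h, ← MonoidHom.range_eq_map, Subgroup.range_subtype]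
    have h5 := Subgroup.map_injective (Subgroup.subtype_injective P) h4
    exact (ne_of_lt hlt) h5
  have hDy : ∀ s ∈ ⁅P, P⁆, y * s * y⁻¹ ∈ ⁅P, P⁆ := by
    intro s hs
    have hDn : (⁅P, P⁆ : Subgroup X).Normal := Subgroup.commutator_normal P P
    exact hDn.conj_mem s hs y
  have hDZ : ⁅P, P⁆ ≤ Z := hcontain _ hDP hDne hDy
  have hcomm : ∀ g ∈ P, ∀ h ∈ P, g * h * g⁻¹ * h⁻¹ ∈ Z := by
    intro g hg h hh
    rw [← commutatorElement_def]
    exact hDZ (Subgroup.commutator_mem_commutator hg hh)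
  have hncall : ¬ (∀ g ∈ P, y * g * y⁻¹ = g) := by
    intro hall
    apply hg₀
    have h1 := hall g₀ hg₀P
    calc y * g₀ = (y * g₀ * y⁻¹) * y := by group
      _ = g₀ * y := by rw [h1]
  -- (c) `Z` is centralized by `P`
  have hZcP : ∀ z ∈ Z, ∀ g ∈ P, g * z = z * g := by
    intro z hz
    obtain ⟨hzP, hzy⟩ := (hZmem z).1 hz
    by_contra hne
    push Not at hne
    obtain ⟨C, hCdef⟩ : ∃ C : Subgroup X, C = P ⊓ Subgroup.centralizer ({z} : Set X) := ⟨_, rfl⟩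
    have hCmem : ∀ g, g ∈ C ↔ g ∈ P ∧ z * g = g * z := by
      intro g
      rw [hCdef]
      exact st2_mem_cent P z g
    have hCP : C ≤ P := fun g hg => ((hCmem g).1 hg).1
    have hCne : C ≠ P := by
      intro h
      obtain ⟨g, hg, hgz⟩ := hne
      have h1 : g ∈ C := by rw [h]; exact hg
      exact hgz ((hCmem g).1 h1).2.symm
    have e2 : y * z * y⁻¹ = z := by rw [hzy, mul_inv_cancel_right]
    have hCy : ∀ s ∈ C, y * s * y⁻¹ ∈ C := by
      intro s hs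
      obtain ⟨hsP, hsz⟩ := (hCmem s).1 hs
      refine (hCmem _).2 ⟨hN.conj_mem s hsP y, ?_⟩
      calc z * (y * s * y⁻¹) = (y * z * y⁻¹) * (y * s * y⁻¹) := by rw [e2]
        _ = y * (z * s) * y⁻¹ := by group
        _ = y * (s * z) * y⁻¹ := by rw [hsz]
        _ = (y * s * y⁻¹) * (y * z * y⁻¹) := by group
        _ = (y * s * y⁻¹) * z := by rw [e2]
    have hCZ : C ≤ Z := hcontain C hCP hCne hCy
    apply hncall
    intro g hg
    have hcP : g⁻¹ * (y * g * y⁻¹) ∈ P := P.mul_mem (P.inv_mem hg) (hN.conj_mem g hg y)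
    have hcC : g⁻¹ * (y * g * y⁻¹) ∈ C := by
      refine (hCmem _).2 ⟨hcP, ?_⟩
      have h1 : g * z * g⁻¹ * z⁻¹ ∈ Z := hcomm g hg z hzP
      have h2 := ((hZmem _).1 h1).2
      have e1 : y * (g * z * g⁻¹ * z⁻¹) * y⁻¹ =
          (y * g * y⁻¹) * (y * z * y⁻¹) * (y * g * y⁻¹)⁻¹ * (y * z * y⁻¹)⁻¹ := by group
      have e3 : y * (g * z * g⁻¹ * z⁻¹) * y⁻¹ = g * z * g⁻¹ * z⁻¹ := by
        rw [h2, mul_inv_cancel_right]
      rw [e2, e3] at e1
      have e4 : g * z * g⁻¹ = (y * g * y⁻¹) * z * (y * g * y⁻¹)⁻¹ := mul_right_cancel e1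
      calc z * (g⁻¹ * (y * g * y⁻¹)) = g⁻¹ * (g * z * g⁻¹) * (y * g * y⁻¹) := by group
        _ = g⁻¹ * ((y * g * y⁻¹) * z * (y * g * y⁻¹)⁻¹) * (y * g * y⁻¹) := by rw [e4]
        _ = (g⁻¹ * (y * g * y⁻¹)) * z := by group
    have hc1 := st2_coprime hp hq hpq P hP y hy g (g⁻¹ * (y * g * y⁻¹)) hcP
      ((hZmem _).1 (hCZ hcC)).2 (by group)
    exact (inv_mul_eq_one.mp hc1).symm
  -- `Z` is central in `X`
  have hZc : ∀ z ∈ Z, ∀ x : X, x * z = z * x := by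
    intro z hz x
    obtain ⟨g, hg, i, rfl⟩ := hgen x
    have h1 : Commute g z := hZcP z hz g hg
    have h2 : Commute y z := ((hZmem z).1 hz).2
    exact (h1.mul_left (h2.pow_left i)).eq
  -- (d) fixed points modulo `Z`
  have hfix : ∀ g ∈ P, y * g * y⁻¹ * g⁻¹ ∈ Z → g ∈ Z := by
    let B : Subgroup X :=
      { carrier := {g | g ∈ P ∧ y * g * y⁻¹ * g⁻¹ ∈ Z}
        mul_mem' := by
          rintro a b ⟨haP, haZ⟩ ⟨hbP, hbZ⟩
          refine ⟨P.mul_mem haP hbP, ?_⟩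
          have e : y * (a * b) * y⁻¹ * (a * b)⁻¹ =
              (y * a * y⁻¹ * a⁻¹) * (a * (y * b * y⁻¹ * b⁻¹) * a⁻¹) := by group
          rw [e, hZc _ hbZ a, mul_inv_cancel_right]
          exact Z.mul_mem haZ hbZ
        one_mem' := ⟨P.one_mem, by simp⟩
        inv_mem' := by
          rintro a ⟨haP, haZ⟩
          refine ⟨P.inv_mem haP, ?_⟩
          have e : y * a⁻¹ * y⁻¹ * a⁻¹⁻¹ = a⁻¹ * (y * a * y⁻¹ * a⁻¹)⁻¹ * a := by group
          rw [e, hZc _ (Z.inv_mem haZ) a⁻¹, inv_mul_cancel_right]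
          exact Z.inv_mem haZ }
    have hBP : B ≤ P := fun g hg => hg.1
    have hBy : ∀ s ∈ B, y * s * y⁻¹ ∈ B := by
      rintro s ⟨hsP, hsZ⟩
      refine ⟨hN.conj_mem s hsP y, ?_⟩
      have e : y * (y * s * y⁻¹) * y⁻¹ * (y * s * y⁻¹)⁻¹ = y * (y * s * y⁻¹ * s⁻¹) * y⁻¹ := by
        group
      show y * (y * s * y⁻¹) * y⁻¹ * (y * s * y⁻¹)⁻¹ ∈ Z
      rw [e, ((hZmem _).1 hsZ).2, mul_inv_cancel_right]
      exact hsZ
    have hBne : B ≠ P := by
      intro h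
      apply hncall
      intro g hg
      have hgB : g ∈ B := by rw [h]; exact hg
      have hk : y * g * y⁻¹ * g⁻¹ ∈ Z := hgB.2
      have h1 := st2_coprime hp hq hpq P hP y hy g (y * g * y⁻¹ * g⁻¹) (hZP hk)
        ((hZmem _).1 hk).2 (by rw [hZc _ hk g]; group)
      exact mul_inv_eq_one.mp h1
    have hBZ : B ≤ Z := hcontain B hBP hBne hBy
    intro g hg hgZ
    exact hBZ ⟨hg, hgZ⟩
  exact ⟨Z, hZP, hZne, hZc, hcontain, hcomm, hfix⟩

end Cfsg.Agent.Lib.Helper55.SCH
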