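import Cfsg.Agent.Lib.Helper55.SchDefs
import Cfsg.Agent.Lib.Helper55.SchModId
/-! Project SCH (S4395), piece SCH-St3 (proved by helper82; the only black box used is the
piece `modid` of `SchModId`).  Auxiliary lemmas: `schst3_commGroup`, `schst3_core`. -/

set_option autoImplicit false
universe u v

namespace Cfsg.Agent.Lib.Helper55.SCH

/-- a group with commutative multiplication, as a commutative group -/
@[reducible] def schst3_commGroup (A : Type*) [Group A] (h : ∀ a b : A, a * b = b * a) :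
    CommGroup A :=
  { (inferInstance : Group A) with mul_comm := h }

/-- the core of `struct3`, for an arbitrary commutative quotient `π : P → A` with kernel `Z` -/
theorem schst3_core {r : ℕ} {p q a : ℕ} {F : Type} [Field F] {ζ : F} (H : Hyp p q a F ζ)
    {X : Type u} [Group X] [Finite X]
    (P : Subgroup X) (y : X) (hN : P.Normal) (hP : IsPGroup p ↥P) (hy : orderOf y = q ^ r)
    (hgen : ∀ x : X, ∃ g ∈ P, ∃ i : ℕ, x = g * y ^ i)
    (hint : ∀ i : ℕ, y ^ i ∈ P → y ^ i = 1) (hyq : ∀ g ∈ P, y ^ q * g = g * y ^ q)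
    (Z : Subgroup X) (hZP : Z ≤ P) (hZne : Z ≠ P) (hZc : ∀ z ∈ Z, ∀ x : X, x * z = z * x)
    (hZmax : ∀ S : Subgroup X, S ≤ P → S ≠ P → (∀ s ∈ S, y * s * y⁻¹ ∈ S) → S ≤ Z)
    (hZfix : ∀ g ∈ P, y * g * y⁻¹ * g⁻¹ ∈ Z → g ∈ Z)
    {A : Type v} [Group A] (hAc : ∀ a b : A, a * b = b * a)
    (π : ↥P →* A) (hπs : Function.Surjective π) (hπk : ∀ g : ↥P, π g = 1 ↔ (g : X) ∈ Z) :
    Nonempty (Sch p q r ζ X) := by
  classical
  haveI : P.Normal := hN
  haveI : Finite A := Finite.of_surjective π hπs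
  haveI : Nontrivial A := by
    have h1 : ∃ g ∈ P, g ∉ Z := by
      by_contra hcon
      push Not at hcon
      exact hZne (le_antisymm hZP hcon)
    obtain ⟨g, hgP, hgZ⟩ := h1
    exact ⟨⟨π ⟨g, hgP⟩, 1, fun h => hgZ ((hπk ⟨g, hgP⟩).mp h)⟩⟩
  have hA : IsPGroup p A := IsPGroup.of_surjective hP π hπs
  -- conjugation by `y` on `P` and the induced automorphism of `A`
  have hCapp : ∀ g : ↥P, ((MulAut.conjNormal y g : ↥P) : X) = y * g * y⁻¹ :=
    fun g => MulAut.conjNormal_apply y g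
  have hCpow : ∀ (k : ℕ) (g : ↥P),
      ((((MulAut.conjNormal y : MulAut ↥P) ^ k) g : ↥P) : X) = y ^ k * g * (y ^ k)⁻¹ := by
    intro k g
    rw [← map_pow]
    exact MulAut.conjNormal_apply (y ^ k) g
  have hZconj : ∀ z ∈ Z, y * z * y⁻¹ = z := by
    intro z hz
    rw [hZc z hz y, mul_inv_cancel_right]
  have hker : π.ker ≤ (π.comp (MulAut.conjNormal y : MulAut ↥P).toMonoidHom).ker := by
    intro g hg
    rw [MonoidHom.mem_ker] at hg ⊢
    have h1 : (g : X) ∈ Z := (hπk g).mp hg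
    show π (MulAut.conjNormal y g) = 1
    rw [hπk, hCapp, hZconj _ h1]
    exact h1
  obtain ⟨θh, hθh⟩ : ∃ θh : A →* A, ∀ g : ↥P, θh (π g) = π (MulAut.conjNormal y g) :=
    ⟨π.liftOfSurjective hπs ⟨π.comp (MulAut.conjNormal y : MulAut ↥P).toMonoidHom, hker⟩,
      fun g => MonoidHom.liftOfRightInverse_comp_apply _ _ _ _ g⟩
  have hθinj : Function.Injective θh := by
    rw [injective_iff_map_eq_one]
    intro x hx
    obtain ⟨g, rfl⟩ := hπs x
    rw [hθh, hπk, hCapp] at hx
    rw [hπk]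
    have h1 : (g : X) = y⁻¹ * (y * g * y⁻¹) * y := by group
    have h2 : y⁻¹ * (y * (g : X) * y⁻¹) * y = y * (g : X) * y⁻¹ := by
      have h3 := hZc _ hx y⁻¹
      rw [h3, inv_mul_cancel_right]
    rw [h1, h2]
    exact hx
  obtain ⟨θ, hθ⟩ : ∃ θ : MulAut A, ∀ g : ↥P, θ (π g) = π (MulAut.conjNormal y g) :=
    ⟨MulEquiv.ofBijective θh (Finite.injective_iff_bijective.mp hθinj), fun g => hθh g⟩
  have hθpow : ∀ (k : ℕ) (g : ↥P),
      (θ ^ k) (π g) = π (((MulAut.conjNormal y : MulAut ↥P) ^ k) g) := by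
    intro k
    induction k with
    | zero =>
      intro g
      rw [pow_zero, pow_zero, MulAut.one_apply, MulAut.one_apply]
    | succ k ih =>
      intro g
      rw [pow_succ, pow_succ, MulAut.mul_apply, MulAut.mul_apply, hθ, ih]
  have hθq : ∀ x, (θ ^ q) x = x := by
    intro x
    obtain ⟨g, rfl⟩ := hπs x
    rw [hθpow]
    congr 1
    apply Subtype.ext
    rw [hCpow, hyq g g.2, mul_inv_cancel_right]
  have hirr : ∀ B : Subgroup A, (∀ b ∈ B, θ b ∈ B) → B = ⊥ ∨ B = ⊤ := by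
    intro B hB
    have hle : (B.comap π).map P.subtype ≤ P := by
      rintro _ ⟨g, -, rfl⟩
      exact g.2
    by_cases hS : (B.comap π).map P.subtype = P
    · right
      rw [eq_top_iff]
      intro b _
      obtain ⟨g, rfl⟩ := hπs b
      have h1 : (g : X) ∈ (B.comap π).map P.subtype := by
        rw [hS]
        exact g.2
      obtain ⟨g', hg', hgg⟩ := h1
      have h2 : g' = g := Subtype.ext hgg
      rw [← h2]
      exact hg'
    · left
      have hstab : ∀ s ∈ (B.comap π).map P.subtype, y * s * y⁻¹ ∈ (B.comap π).map P.subtype := by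
        rintro _ ⟨g, hg, rfl⟩
        refine ⟨MulAut.conjNormal y g, ?_, hCapp g⟩
        show π (MulAut.conjNormal y g) ∈ B
        rw [← hθ]
        exact hB _ hg
      have hSZ := hZmax _ hle hS hstab
      rw [eq_bot_iff]
      intro b hb
      obtain ⟨g, rfl⟩ := hπs b
      have h1 : (g : X) ∈ Z := hSZ ⟨g, hb, rfl⟩
      rw [Subgroup.mem_bot]
      exact (hπk g).mpr h1
  have hfix : ∀ x, θ x = x → x = 1 := by
    intro x hx
    obtain ⟨g, rfl⟩ := hπs x
    rw [hθ] at hx
    have h1 : π (MulAut.conjNormal y g * g⁻¹) = 1 := by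
      rw [map_mul, map_inv, hx, mul_inv_cancel]
    have h2 := (hπk _).mp h1
    have h3 : ((MulAut.conjNormal y g * g⁻¹ : ↥P) : X) = y * g * y⁻¹ * (g : X)⁻¹ := by
      rw [Subgroup.coe_mul, Subgroup.coe_inv, hCapp]
    rw [h3] at h2
    exact (hπk g).mpr (hZfix g g.2 h2)
  obtain ⟨j, hj, e, he⟩ :=
    @modid p q a F _ ζ H A (schst3_commGroup A hAc) _ _ hA θ hθq hirr hfix
  obtain ⟨m, hm⟩ : ∃ m : ℕ, (y ^ j) ^ m = y :=
    exists_pow_eq_self_of_coprime (by rw [hy]; exact Nat.Coprime.pow_right r hj)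
  have hρ1 : ∀ g : ↥P, e (π g) = 1 ↔ (g : X) ∈ Z := by
    intro g
    rw [← hπk]
    constructor
    · intro h1
      exact e.injective (h1.trans e.map_one.symm)
    · intro h1
      rw [h1]
      exact e.map_one
  refine ⟨{
    P := P
    y := y ^ j
    ρ := { toFun := fun g => e (π g)
           map_one' := by rw [map_one]; exact e.map_one
           map_mul' := fun g h => by rw [map_mul]; exact e.map_mul _ _ }
    normal := hN
    pgroup := hP
    surj := e.surjective.comp hπs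
    equiv := ?_
    central := ?_
    minimal := ?_
    order_y := ?_
    gen := ?_
    inter := ?_ }⟩
  · intro g h hgh
    have h1 : h = ((MulAut.conjNormal y : MulAut ↥P) ^ j) g := by
      apply Subtype.ext
      rw [hgh, hCpow]
    show e (π h) = Multiplicative.ofAdd (ζ * Multiplicative.toAdd (e (π g)))
    rw [h1, ← hθpow]
    exact he (π g)
  · intro g hg x
    exact hZc g ((hρ1 g).mp hg) x
  · intro S hSP hstab honto
    by_contra hne
    have hstabk : ∀ k : ℕ, ∀ s ∈ S, (y ^ j) ^ k * s * ((y ^ j) ^ k)⁻¹ ∈ S := by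
      intro k
      induction k with
      | zero =>
        intro s hs
        simpa using hs
      | succ k ih =>
        intro s hs
        have h1 := hstab _ (ih s hs)
        have e1 : (y ^ j) ^ (k + 1) * s * ((y ^ j) ^ (k + 1))⁻¹
            = y ^ j * ((y ^ j) ^ k * s * ((y ^ j) ^ k)⁻¹) * (y ^ j)⁻¹ := by
          rw [pow_succ']
          group
        rw [e1]
        exact h1
    have hstaby : ∀ s ∈ S, y * s * y⁻¹ ∈ S := by
      intro s hs
      have h1 := hstabk m s hs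
      rwa [hm] at h1
    have hSZ := hZmax S hSP hne hstaby
    obtain ⟨s, hsS, hs⟩ := honto (Multiplicative.ofAdd (1 : F))
    have h2 : e (π s) = 1 := (hρ1 s).mpr (hSZ hsS)
    have h3 : (1 : Multiplicative F) = Multiplicative.ofAdd (1 : F) := h2.symm.trans hs
    have h4 : (0 : F) = 1 := congrArg Multiplicative.toAdd h3
    exact zero_ne_one h4
  · rw [Nat.Coprime.orderOf_pow (by rw [hy]; exact Nat.Coprime.pow_left r hj.symm), hy]
  · intro x
    obtain ⟨g, hg, i, rfl⟩ := hgen x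
    exact ⟨⟨g, hg⟩, m * i, by rw [pow_mul, hm]⟩
  · intro i hi
    rw [← pow_mul] at hi ⊢
    exact hint _ hi

/-- Structure step 3: build the Schmidt structure.
Proof: `Z' := Z.subgroupOf P` is normal in `↥P` (central), `A := ↥P ⧸ Z'` is commutative (`hZcomm`;
build the `CommGroup` instance by hand), finite, nontrivial (`hZne`), a `p`-group.  Conjugation by `y`
(`MulAut.conjNormal` for `P` normal) preserves `Z'` and induces `θ : MulAut A`
(`QuotientGroup.congr`).  `θ ^ q = 1` from `hyq`.  Irreducible: a `θ`-stable `B ≤ A` has preimage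
`S` in `P` (mapped to `X`) which is `y`-stable and contains `Z`; if `S ≠ P` then `S ≤ Z` (`hZmax`), so
`B = ⊥`; else `B = ⊤`.  No fixed points: `hZfix`.  `modid` gives `j` coprime to `q` and `e`.
Put `y' := y ^ j`, `ρ := e ∘ QuotientGroup.mk' Z'`.  Fields of `Sch p q r ζ X` with `P`, `y'`, `ρ`:
`surj` clear; `equiv`: conjugation by `y ^ j` induces `θ ^ j`; `central`: `ker ρ = Z`, `hZc`;
`order_y`: `orderOf (y ^ j) = q ^ r` as `j` is coprime to `q ^ r`; moreover `y ∈ zpowers (y ^ j)`, which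
gives `gen` (from `hgen`), `inter` (from `hint`) and: `y'`-stable subgroups are `y`-stable;
`minimal`: a `y`-stable `S ≤ P` with `S ≠ P` lies in `Z` (`hZmax`), so `ρ` is trivial on it, not onto
(`F` has more than one element). -/
theorem struct3 {r : ℕ} {p q a : ℕ} {F : Type} [Field F] {ζ : F} (H : Hyp p q a F ζ)
    {X : Type u} [Group X] [Finite X]
    (P : Subgroup X) (y : X) (hN : P.Normal) (hP : IsPGroup p ↥P) (hy : orderOf y = q ^ r)
    (hgen : ∀ x : X, ∃ g ∈ P, ∃ i : ℕ, x = g * y ^ i)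
    (hint : ∀ i : ℕ, y ^ i ∈ P → y ^ i = 1) (hyq : ∀ g ∈ P, y ^ q * g = g * y ^ q)
    (Z : Subgroup X) (hZP : Z ≤ P) (hZne : Z ≠ P) (hZc : ∀ z ∈ Z, ∀ x : X, x * z = z * x)
    (hZmax : ∀ S : Subgroup X, S ≤ P → S ≠ P → (∀ s ∈ S, y * s * y⁻¹ ∈ S) → S ≤ Z)
    (hZcomm : ∀ g ∈ P, ∀ h ∈ P, g * h * g⁻¹ * h⁻¹ ∈ Z)
    (hZfix : ∀ g ∈ P, y * g * y⁻¹ * g⁻¹ ∈ Z → g ∈ Z) :
    Nonempty (Sch p q r ζ X) := by
  haveI hZn : (Z.subgroupOf P).Normal := by
    refine ⟨fun n hn g => ?_⟩
    rw [Subgroup.mem_subgroupOf] at hn ⊢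
    have h1 : ((g * n * g⁻¹ : ↥P) : X) = (n : X) := by
      rw [Subgroup.coe_mul, Subgroup.coe_mul, Subgroup.coe_inv, hZc _ hn, mul_inv_cancel_right]
    rw [h1]
    exact hn
  have hAc : ∀ a b : ↥P ⧸ Z.subgroupOf P, a * b = b * a := by
    intro a b
    induction a using QuotientGroup.induction_on with
    | H g =>
      induction b using QuotientGroup.induction_on with
      | H h =>
        rw [← QuotientGroup.mk_mul, ← QuotientGroup.mk_mul, QuotientGroup.eq,
          Subgroup.mem_subgroupOf]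
        have h1 := hZcomm (h : X)⁻¹ (P.inv_mem h.2) (g : X)⁻¹ (P.inv_mem g.2)
        have h2 : (((g * h)⁻¹ * (h * g) : ↥P) : X) = (h : X)⁻¹ * (g : X)⁻¹ * (h : X)⁻¹⁻¹ *
            (g : X)⁻¹⁻¹ := by
          simp only [Subgroup.coe_mul, Subgroup.coe_inv]
          group
        rw [h2]
        exact h1
  exact schst3_core H P y hN hP hy hgen hint hyq Z hZP hZne hZc hZmax hZfix hAc
    (QuotientGroup.mk' (Z.subgroupOf P)) (QuotientGroup.mk'_surjective _)
    (fun g => by
      rw [QuotientGroup.mk'_apply, QuotientGroup.eq_one_iff, Subgroup.mem_subgroupOf])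

end Cfsg.Agent.Lib.Helper55.SCH
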