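import Cfsg.Agent.Lib.Helper55.SchDefs
import Cfsg.Agent.Lib.Helper55.SchFibA
import Cfsg.Agent.Lib.Helper55.SchFibB
import Cfsg.Agent.Lib.Helper55.SchFibC
import Cfsg.Agent.Lib.Helper55.SchHomExt
/-! Project SCH (S4395), piece SCH-Univ (filled by helper75). -/

set_option autoImplicit false
universe u v

namespace Cfsg.Agent.Lib.Helper55.SCH

/-- Universality: a Schmidt structure with `|P₀| = p ^ a₀` maps onto every other one with central kernel.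
Proof: `exists_min_fib` gives `W₁`; `card_min_fib_le` gives `|W₁|^2 ≤ |F|^3 = p^(3a)` and, for odd `a`,
`|W₁| ≤ p^a`.  If `a` is odd, `a₀ = a`.  If `a` is even, `a₀ = 3*a/2`, `(p^a₀)^2 = p^(3a)`, so
`|W₁| ≤ p^a₀` (`lt_of_pow_lt_pow_left`).  So `hcard` of `exists_hom_of_fib` holds; get `f`.
`hom_ext_cyclic` with `N := S₀.P`, `c := S₀.y`, `y := S.y` (`S.y ^ orderOf S₀.y = S.y ^ (q^r) = 1`) gives
`φ` with `φ g = f g` on `S₀.P`, `φ S₀.y = S.y`.  Surjective: `S.gen`, `f` onto `S.P`.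
Kernel: `x = g * c^i` (`S₀.gen`), `1 = f g * y^i`, so `y^i = (f g)⁻¹ ∈ S.P`, `y^i = 1` (`S.inter`),
`q^r ∣ i`, `c^i = 1`, `x = g`, `f g = 1`; the compatibility (with `g' = 1`) gives `S₀.ρ g = 1`, so `g`
is central (`S₀.central`). -/
theorem exists_surj {a : ℕ} {p q r : ℕ} {F : Type} [Field F] {ζ : F} {G₀ : Type u} {X : Type v} [Group G₀] [Group X]
    [Finite G₀] [Finite X] (S₀ : Sch p q r ζ G₀) (S : Sch p q r ζ X) (H : Hyp p q a F ζ)
    (a₀ : ℕ) (ha₀ : a₀ = if a % 2 = 1 then a else 3 * a / 2) (hc : Nat.card ↥S₀.P = p ^ a₀) :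
    ∃ φ : G₀ →* X, Function.Surjective φ ∧ φ.ker ≤ Subgroup.center G₀ := by
  obtain ⟨W₁, h1, h2, h3, h4⟩ := exists_min_fib S₀ S
  obtain ⟨hc2, hcodd⟩ := card_min_fib_le S₀ S H W₁ h1 h2 h3 h4
  have hp := H.hp
  have hcard : Nat.card ↥W₁ ≤ Nat.card ↥S₀.P := by
    rw [hc]
    by_cases hodd : a % 2 = 1
    · have := hcodd hodd
      rw [H.card] at this
      rw [ha₀, if_pos hodd]
      exact this
    · rw [ha₀, if_neg hodd]
      have h2a : 2 * (3 * a / 2) = 3 * a := by omega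
      rw [H.card] at hc2
      have h5 : Nat.card ↥W₁ ^ 2 ≤ (p ^ (3 * a / 2)) ^ 2 := by
        calc Nat.card ↥W₁ ^ 2 ≤ (p ^ a) ^ 3 := hc2
          _ = p ^ (2 * (3 * a / 2)) := by rw [h2a, ← pow_mul, mul_comm]
          _ = (p ^ (3 * a / 2)) ^ 2 := by rw [← pow_mul, mul_comm]
      exact (Nat.pow_le_pow_iff_left (by norm_num)).mp h5
  obtain ⟨f, hfP, hfeq, hfρ, hfsurj⟩ := exists_hom_of_fib S₀ S W₁ h1 h2 h3 hcard
  have hy : S.y ^ orderOf S₀.y = 1 := by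
    rw [S₀.order_y, ← S.order_y]
    exact pow_orderOf_eq_one _
  obtain ⟨φ, hφN, hφc⟩ := hom_ext_cyclic S₀.P S₀.normal S₀.y S₀.gen S₀.inter f S.y hy hfeq
  refine ⟨φ, ?_, ?_⟩
  · intro x
    obtain ⟨g', i, hx⟩ := S.gen x
    obtain ⟨g, hg⟩ := hfsurj g'
    refine ⟨(g : G₀) * S₀.y ^ i, ?_⟩
    rw [map_mul, map_pow, hφN, hφc, hg, hx]
  · intro x hx
    rw [MonoidHom.mem_ker] at hx
    obtain ⟨g, i, hxg⟩ := S₀.gen x
    rw [hxg, map_mul, map_pow, hφN, hφc] at hx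
    have hyi : S.y ^ i ∈ S.P := by
      have h6 : S.y ^ i = (f g)⁻¹ := eq_inv_of_mul_eq_one_right hx
      rw [h6]
      exact S.P.inv_mem (hfP g)
    have hyi1 : S.y ^ i = 1 := S.inter i hyi
    have hdvd : orderOf S₀.y ∣ i := by
      rw [S₀.order_y, ← S.order_y]
      exact orderOf_dvd_of_pow_eq_one hyi1
    have hci : S₀.y ^ i = 1 := orderOf_dvd_iff_pow_eq_one.mp hdvd
    rw [hyi1, mul_one] at hx
    rw [hci, mul_one] at hxg
    have hρ : S₀.ρ g = 1 := by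
      have h7 := hfρ g 1 (by rw [hx]; rfl)
      rw [map_one] at h7
      exact h7.symm
    rw [Subgroup.mem_center_iff, hxg]
    intro z
    exact S₀.central g hρ z

end Cfsg.Agent.Lib.Helper55.SCH
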