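import Mathlib

/-!
Piece MCB for S4130 (poster helper66): three lemmas comparing the derived subgroup of `G`
with the derived subgroup of a quotient `G ⧸ N`.
-/

namespace Cfsg.Agent.Lib.Helper55.SqfMCB

theorem map_commutator_mk {G : Type*} [Group G] (N : Subgroup G) [N.Normal] :
    (commutator G).map (QuotientGroup.mk' N) = commutator (G ⧸ N) := by
  rw [commutator_def, commutator_def, Subgroup.map_commutator,
    Subgroup.map_top_of_surjective _ (QuotientGroup.mk'_surjective N)]

theorem card_derived_quotient {G : Type*} [Group G] [Finite G] (N : Subgroup G) [N.Normal] :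
    Nat.card (commutator G) =
      Nat.card (N ⊓ commutator G : Subgroup G) * Nat.card (commutator (G ⧸ N)) := by
  have h1 : (QuotientGroup.mk' N).ker.relIndex (commutator G)
      = Nat.card ((commutator G).map (QuotientGroup.mk' N)) :=
    Subgroup.relIndex_ker (commutator G) (QuotientGroup.mk' N)
  rw [QuotientGroup.ker_mk', map_commutator_mk] at h1
  have h2 : Nat.card (N.subgroupOf (commutator G)) * (N.subgroupOf (commutator G)).index
      = Nat.card (commutator G) := Subgroup.card_mul_index _
  have h3 : Nat.card (N.subgroupOf (commutator G)) = Nat.card (N ⊓ commutator G : Subgroup G) := by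
    rw [← Subgroup.inf_subgroupOf_right]
    exact Nat.card_congr (Subgroup.subgroupOfEquivOfLe inf_le_right).toEquiv
  rw [← h2, h3, ← h1]
  rfl

theorem derived_of_quotient_disjoint {G : Type*} [Group G] [Finite G] (N : Subgroup G) [N.Normal]
    (hdisj : N ⊓ commutator G = ⊥)
    (hc : IsCyclic (commutator (G ⧸ N))) (hs : Squarefree (Nat.card (commutator (G ⧸ N)))) :
    IsCyclic (commutator G) ∧ Squarefree (Nat.card (commutator G)) := by
  set g : ↥(commutator G) →* G ⧸ N := (QuotientGroup.mk' N).comp (commutator G).subtype with hg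
  have hinj : Function.Injective g := by
    rw [injective_iff_map_eq_one]
    intro x hx
    have hx' : ((x : G) : G ⧸ N) = 1 := hx
    rw [QuotientGroup.eq_one_iff] at hx'
    have h1 : (x : G) ∈ N ⊓ commutator G := ⟨hx', x.2⟩
    rw [hdisj, Subgroup.mem_bot] at h1
    exact Subtype.ext h1
  have hrange : g.range = commutator (G ⧸ N) := by
    rw [hg, MonoidHom.range_comp, Subgroup.range_subtype, map_commutator_mk]
  have e : ↥(commutator G) ≃* ↥g.range := MonoidHom.ofInjective hinj
  have hc' : IsCyclic ↥g.range := hrange.symm ▸ hc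
  have hcard : Nat.card (commutator G) = Nat.card (commutator (G ⧸ N)) := by
    rw [Nat.card_congr e.toEquiv, hrange]
  refine ⟨isCyclic_of_surjective e.symm e.symm.surjective, ?_⟩
  rw [hcard]
  exact hs

theorem derived_abelian_of_quotient {G : Type*} [Group G] [Finite G] (N : Subgroup G) [N.Normal]
    (hN : (Nat.card N).Prime) (hle : N ≤ commutator G)
    (hc : IsCyclic (commutator (G ⧸ N))) :
    ∀ a ∈ commutator G, ∀ b ∈ commutator G, a * b = b * a := by
  have : Fact (Nat.card N).Prime := ⟨hN⟩
  have : IsCyclic N := isCyclic_of_prime_card rfl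
  -- conjugations commute on the cyclic group `N`
  have hcomm : ∀ a b : G, (MulAut.conjNormal a : MulAut N) * MulAut.conjNormal b
      = MulAut.conjNormal b * MulAut.conjNormal a := by
    intro a b
    apply (IsCyclic.mulAutMulEquiv N).injective
    rw [map_mul, map_mul, mul_comm]
  -- the derived subgroup centralizes `N`
  have hcent : commutator G ≤ Subgroup.centralizer (N : Set G) := by
    rw [commutator_eq_closure, Subgroup.closure_le]
    rintro c ⟨a, b, rfl⟩
    rw [commutatorElement_def]
    intro n hn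
    have h1 : (MulAut.conjNormal (a * b * a⁻¹ * b⁻¹) : MulAut N) = 1 := by
      rw [map_mul, map_mul, map_mul, map_inv, map_inv, hcomm a b,
        mul_assoc (MulAut.conjNormal b), mul_inv_cancel, mul_one, mul_inv_cancel]
    have h2 : ((MulAut.conjNormal (a * b * a⁻¹ * b⁻¹) : MulAut N) ⟨n, hn⟩ : G) = n := by
      rw [h1]; rfl
    rw [MulAut.conjNormal_apply] at h2
    have h3 : (a * b * a⁻¹ * b⁻¹) * n = n * (a * b * a⁻¹ * b⁻¹) := by
      calc (a * b * a⁻¹ * b⁻¹) * n
          = (a * b * a⁻¹ * b⁻¹) * n * (a * b * a⁻¹ * b⁻¹)⁻¹ * (a * b * a⁻¹ * b⁻¹) := by group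
        _ = n * (a * b * a⁻¹ * b⁻¹) := by rw [h2]
    exact h3.symm
  -- a generator of the image
  obtain ⟨y, hy⟩ := IsCyclic.exists_generator (α := ↥(commutator (G ⧸ N)))
  have hymem : (y : G ⧸ N) ∈ (commutator G).map (QuotientGroup.mk' N) := by
    rw [map_commutator_mk]; exact y.2
  obtain ⟨c, hcD, hcy⟩ := hymem
  have key : ∀ x ∈ commutator G, ∃ k : ℤ, ∃ n ∈ N, x = c ^ k * n := by
    intro x hx
    have hxm : (QuotientGroup.mk' N x) ∈ commutator (G ⧸ N) := by
      rw [← map_commutator_mk]; exact Subgroup.mem_map_of_mem _ hx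
    obtain ⟨k, hk⟩ := Subgroup.mem_zpowers_iff.1 (hy ⟨_, hxm⟩)
    have hk' : (QuotientGroup.mk' N c) ^ k = QuotientGroup.mk' N x := by
      have := congrArg Subtype.val hk
      rw [Subgroup.coe_zpow] at this
      rw [hcy]; exact this
    refine ⟨k, (c ^ k)⁻¹ * x, ?_, by group⟩
    have h4 : QuotientGroup.mk' N ((c ^ k)⁻¹ * x) = 1 := by
      rw [map_mul, map_inv, map_zpow, hk', inv_mul_cancel]
    exact (QuotientGroup.eq_one_iff _).1 h4
  intro a ha b hb
  obtain ⟨k, n, hn, rfl⟩ := key a ha
  obtain ⟨l, m, hm, rfl⟩ := key b hb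
  have hck : ∀ j : ℤ, c ^ j ∈ commutator G := fun j => Subgroup.zpow_mem _ hcD j
  have e1 : n * c ^ l = c ^ l * n := hcent (hck l) n hn
  have e2 : m * c ^ k = c ^ k * m := hcent (hck k) m hm
  have e3 : m * n = n * m := hcent (hle hn) m hm
  have e4 : c ^ k * c ^ l = c ^ l * c ^ k := by rw [← zpow_add, ← zpow_add, add_comm]
  calc c ^ k * n * (c ^ l * m) = c ^ k * (n * c ^ l) * m := by group
    _ = c ^ k * (c ^ l * n) * m := by rw [e1]
    _ = (c ^ k * c ^ l) * (n * m) := by group
    _ = (c ^ l * c ^ k) * (m * n) := by rw [e4, e3]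
    _ = c ^ l * (c ^ k * m) * n := by group
    _ = c ^ l * (m * c ^ k) * n := by rw [e2]
    _ = c ^ l * m * (c ^ k * n) := by group

end Cfsg.Agent.Lib.Helper55.SqfMCB
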