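import Mathlib
import Cfsg.Agent.S1137
import Cfsg.Agent.Lib.Helper55.Sz2Defs

/-! Project SZ2 (S1138), piece A1 (placeholder posted by helper55; the taker replaces the `sorry`).

Build the configuration `Conf φ M C` (see `Sz2Defs.lean`) from the element `d` of piece A0.
Tools on main (`Cfsg/Agent/S1137.lean`, namespace `Cfsg.Agent.S1137`): `invol_central hp hreg`,
`hig _ P K φ rfl hp htwo hreg hnab : ∀ z ∈ center P, z * z = 1`, `aut_center`, `Esub`, `mem_Esub`.

CONSTRUCTION.  `Z = {x | x * x = 1}` = centre of `P` (by `invol_central` and `hig`).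
`M` := the subgroup with carrier `{m | ∀ y, (m⁻¹ * y⁻¹ * m * y) * (m⁻¹ * y⁻¹ * m * y) = 1}`
(= comap of the centre of `P ⧸ Z`), `C := Subgroup.centralizer (M : Set P)`.
Write `[a,b] = a⁻¹ * b⁻¹ * a * b`.  Fields of `Conf`:
* `invol_central`, `center_sq` (= `hig`), `two`: given.  `free`: if `φ k x = x`, `x ≠ 1`, take an
  involution `u = x ^ m` (`exists_invol_pow hp`), `φ k u = u`, uniqueness in `hreg u u`.  `trans`: `hreg`.
* `M_exp`: for `m ∈ M`, `c = [m,y]` is central of square 1, `y⁻¹ * m * y = m * c`, so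
  `y⁻¹ * (m*m) * y = m*m`; hence `m * m ∈ center P` and `(m*m)*(m*m) = 1` by `hig`.
* `M_inv`, `C_inv`: automorphisms preserve the defining properties (use `φ k⁻¹` for the converse).
  `M_normal`, `C_normal`: same with inner automorphisms.  `mem_C`: `Subgroup.mem_centralizer_iff`.
* `sq_surj`: `z = 1`: `m = 1`.  `z ≠ 1`: `d * d` is an involution (`d ∈ M`, `M_exp`, `hd`), so
  `φ k (d * d) = z` for some `k`; take `m = φ k d ∈ M`.
* `M_le` (i.e. `M` is abelian): let `x ∈ M`.  If `x * x = 1`, `x` is central.  Otherwise take `k`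
  with `φ k (d * d) = x * x` and `d' = φ k d`: `d' ∈ M`, `d'` commutes with every element of `M`
  (transport `hdC` by `φ k`), `d' * d' = x * x`; so `(x * d'⁻¹) * (x * d'⁻¹) = 1`, `x * d'⁻¹` is central,
  and `x = (x * d'⁻¹) * d'` commutes with every element of `M`.
* `sq_mem`: for `m ∈ M`, `y ↦ [m,y]` is a homomorphism into `Z` (values central), so
  `[m, y * y] = [m,y] * [m,y] = 1`: `y * y` commutes with `m`.
* `comm_sq`: definition of `M`.  `invol_mem`: involutions are central, so all `[z,y] = 1`.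
* `C_four`: `x ∈ C`, `(x*x)*(x*x) = 1`: take `m ∈ M` with `m * m = x * x` (`sq_surj`); `x` commutes
  with `m`, so `(x * m⁻¹) * (x * m⁻¹) = 1`, `x * m⁻¹ ∈ Z ⊆ M`, `x ∈ M`.
* `C_ne`: if `C = ⊤` then `d ∈ M` is central, so `d * d = 1` by `hig`, contradicting `hd`. -/

set_option autoImplicit false

namespace Cfsg.Agent.Lib.Helper55.Sz2
open Cfsg.Agent.S1137

theorem conf_of_d0 {P : Type*} [Group P] [Finite P] {K : Type*} [CommGroup K] {φ : K →* MulAut P}
    (hp : IsPGroup 2 P) (hreg : Reg φ)
    (htwo : ∃ x y : P, x ≠ y ∧ x ≠ 1 ∧ x * x = 1 ∧ y ≠ 1 ∧ y * y = 1)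
    (hnab : ∃ x y : P, x * y ≠ y * x) (d : P) (hd : d * d ≠ 1)
    (hdM : ∀ y : P, (d⁻¹ * y⁻¹ * d * y) * (d⁻¹ * y⁻¹ * d * y) = 1)
    (hdC : ∀ m : P, (∀ y : P, (m⁻¹ * y⁻¹ * m * y) * (m⁻¹ * y⁻¹ * m * y) = 1) → m * d = d * m) :
    ∃ M C : Subgroup P, Conf φ M C := by
  have hc := invol_central hp hreg
  have hZ : ∀ z ∈ Subgroup.center P, z * z = 1 := hig _ P K φ rfl hp htwo hreg hnab
  have hcen : ∀ z : P, z * z = 1 → ∀ g : P, g * z = z * g := fun z hz g =>
    (Subgroup.mem_center_iff.1 (hc z hz)) g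
  have memM : ∀ m : P, m ∈ Subgroup.upperCentralSeries P 2 ↔
      ∀ y : P, (m⁻¹ * y⁻¹ * m * y) * (m⁻¹ * y⁻¹ * m * y) = 1 := by
    intro m
    constructor
    · intro hm y
      have h1 : m⁻¹ ∈ Subgroup.upperCentralSeries P 2 := Subgroup.inv_mem _ hm
      have h2 := (Subgroup.mem_upperCentralSeries_succ_iff (n := 1)).1 h1 y⁻¹
      rw [Subgroup.upperCentralSeries_one, commutatorElement_def, inv_inv, inv_inv] at h2
      exact hZ _ h2
    · intro h
      have h1 : m⁻¹ ∈ Subgroup.upperCentralSeries P 2 := by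
        refine (Subgroup.mem_upperCentralSeries_succ_iff (n := 1)).2 (fun y => ?_)
        rw [Subgroup.upperCentralSeries_one, commutatorElement_def, inv_inv]
        have h2 := h y⁻¹
        rw [inv_inv] at h2
        exact hc _ h2
      have h3 := Subgroup.inv_mem _ h1
      rwa [inv_inv] at h3
  -- the basic commutator identity: `m * y = y * m * c`, `c` central of square one
  have hswap : ∀ m ∈ Subgroup.upperCentralSeries P 2, ∀ y : P,
      ∃ c : P, c * c = 1 ∧ (∀ g : P, g * c = c * g) ∧ m * y = y * m * c := by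
    intro m hm y
    refine ⟨m⁻¹ * y⁻¹ * m * y, (memM m).1 hm y, hcen _ ((memM m).1 hm y), ?_⟩
    group
  have hMexp : ∀ m ∈ Subgroup.upperCentralSeries P 2, (m * m) * (m * m) = 1 := by
    intro m hm
    apply hZ
    rw [Subgroup.mem_center_iff]
    intro y
    obtain ⟨c, hc2, hcc, hmy⟩ := hswap m hm y
    -- y * (m * m) = m * m * y
    have h1 : m * m * y = y * m * m * (c * c) := by
      calc m * m * y = m * (m * y) := by group
        _ = m * (y * m * c) := by rw [hmy]
        _ = (m * y) * m * c := by group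
        _ = (y * m * c) * m * c := by rw [hmy]
        _ = y * m * (c * m) * c := by group
        _ = y * m * (m * c) * c := by rw [hcc m]
        _ = y * m * m * (c * c) := by group
    rw [hc2, mul_one] at h1
    rw [h1]
    group
  have hMinv : ∀ k : K, ∀ x ∈ Subgroup.upperCentralSeries P 2,
      φ k x ∈ Subgroup.upperCentralSeries P 2 := by
    intro k x hx
    rw [memM] at hx ⊢
    intro y
    have h1 := hx ((φ k).symm y)
    have h2 := congrArg (φ k) h1
    simpa [map_mul, map_inv] using h2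
  have hdMem : d ∈ Subgroup.upperCentralSeries P 2 := (memM d).2 hdM
  have hdd : (d * d) * (d * d) = 1 := hMexp d hdMem
  have hsq : ∀ z : P, z * z = 1 → ∃ m ∈ Subgroup.upperCentralSeries P 2, m * m = z := by
    intro z hz
    by_cases hz1 : z = 1
    · exact ⟨1, Subgroup.one_mem _, by rw [hz1, mul_one]⟩
    · obtain ⟨k, hk, -⟩ := hreg (d * d) z hd hdd hz1 hz
      refine ⟨φ k d, hMinv k d hdMem, ?_⟩
      rw [← map_mul]
      exact hk
  have hinvol : ∀ z : P, z * z = 1 → z ∈ Subgroup.upperCentralSeries P 2 := by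
    intro z hz
    rw [memM]
    intro y
    have h1 : z⁻¹ * y⁻¹ * z * y = 1 := by
      calc z⁻¹ * y⁻¹ * z * y = z⁻¹ * (y⁻¹ * z) * y := by group
        _ = z⁻¹ * (z * y⁻¹) * y := by rw [hcen z hz y⁻¹]
        _ = 1 := by group
    rw [h1, mul_one]
  have hMab : ∀ x ∈ Subgroup.upperCentralSeries P 2, ∀ m ∈ Subgroup.upperCentralSeries P 2,
      m * x = x * m := by
    intro x hx m hm
    by_cases hx2 : x * x = 1
    · exact hcen x hx2 m
    · obtain ⟨k, hk, -⟩ := hreg (d * d) (x * x) hd hdd hx2 (hMexp x hx)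
      have hd'M : φ k d ∈ Subgroup.upperCentralSeries P 2 := hMinv k d hdMem
      have hd'c : ∀ m' ∈ Subgroup.upperCentralSeries P 2, m' * φ k d = φ k d * m' := by
        intro m' hm'
        have h1 : (φ k).symm m' ∈ Subgroup.upperCentralSeries P 2 := by
          have h2 := hMinv k⁻¹ m' hm'
          rwa [map_inv] at h2
        have h3 := hdC ((φ k).symm m') ((memM _).1 h1)
        have h4 := congrArg (φ k) h3
        simpa [map_mul] using h4
      have hd'2 : φ k d * φ k d = x * x := by rw [← map_mul]; exact hk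
      have hxd : x * φ k d = φ k d * x := hd'c x hx
      have hu : (x * (φ k d)⁻¹) * (x * (φ k d)⁻¹) = 1 := by
        have h5 : (φ k d)⁻¹ * x = x * (φ k d)⁻¹ := by
          calc (φ k d)⁻¹ * x = (φ k d)⁻¹ * (x * φ k d) * (φ k d)⁻¹ := by group
            _ = (φ k d)⁻¹ * (φ k d * x) * (φ k d)⁻¹ := by rw [hxd]
            _ = x * (φ k d)⁻¹ := by group
        calc (x * (φ k d)⁻¹) * (x * (φ k d)⁻¹) = x * ((φ k d)⁻¹ * x) * (φ k d)⁻¹ := by group
          _ = x * (x * (φ k d)⁻¹) * (φ k d)⁻¹ := by rw [h5]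
          _ = (x * x) * (φ k d * φ k d)⁻¹ := by group
          _ = 1 := by rw [hd'2, mul_inv_cancel]
      have hucen := hcen _ hu
      calc m * x = m * (x * (φ k d)⁻¹) * φ k d := by group
        _ = (x * (φ k d)⁻¹) * m * φ k d := by rw [hucen m]
        _ = (x * (φ k d)⁻¹) * (m * φ k d) := by group
        _ = (x * (φ k d)⁻¹) * (φ k d * m) := by rw [hd'c m hm]
        _ = x * m := by group
  refine ⟨Subgroup.upperCentralSeries P 2,
    Subgroup.centralizer (Subgroup.upperCentralSeries P 2 : Set P), ?_⟩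
  refine
    { invol_central := hc
      center_sq := hZ
      free := ?_
      trans := ?_
      two := htwo
      M_le := ?_
      mem_C := ?_
      M_inv := hMinv
      C_inv := ?_
      M_normal := inferInstance
      C_normal := inferInstance
      sq_mem := ?_
      comm_sq := fun m hm => (memM m).1 hm
      M_exp := hMexp
      sq_surj := hsq
      invol_mem := hinvol
      C_four := ?_
      C_ne := ?_ }
  · -- free
    intro k x hx hkx
    obtain ⟨n, hn1, hn2⟩ := exists_invol_pow hp hx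
    have h1 : φ k (x ^ n) = x ^ n := by rw [map_pow, hkx]
    have h2 : φ 1 (x ^ n) = x ^ n := by rw [map_one]; rfl
    exact (hreg (x ^ n) (x ^ n) hn1 hn2 hn1 hn2).unique h1 h2
  · -- trans
    intro z z' hz hz2 hz' hz'2
    exact (hreg z z' hz hz2 hz' hz'2).exists
  · -- M_le
    intro x hx
    rw [Subgroup.mem_centralizer_iff]
    intro m hm
    exact hMab x hx m hm
  · -- mem_C
    intro y
    exact Subgroup.mem_centralizer_iff
  · -- C_inv
    intro k x hx
    rw [Subgroup.mem_centralizer_iff] at hx ⊢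
    intro m hm
    have h1 : (φ k).symm m ∈ Subgroup.upperCentralSeries P 2 := by
      have h2 := hMinv k⁻¹ m hm
      rwa [map_inv] at h2
    have h3 := hx _ h1
    have h4 := congrArg (φ k) h3
    simpa [map_mul] using h4
  · -- sq_mem
    intro y
    rw [Subgroup.mem_centralizer_iff]
    intro m hm
    obtain ⟨c, hc2, hcc, hmy⟩ := hswap m hm y
    calc m * (y * y) = (m * y) * y := by group
      _ = (y * m * c) * y := by rw [hmy]
      _ = y * m * (c * y) := by group
      _ = y * m * (y * c) := by rw [← hcc y]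
      _ = y * (m * y) * c := by group
      _ = y * (y * m * c) * c := by rw [hmy]
      _ = y * y * m * (c * c) := by group
      _ = y * y * m := by rw [hc2, mul_one]
  · -- C_four
    intro x hx hx4
    rw [Subgroup.mem_centralizer_iff] at hx
    obtain ⟨m, hm, hmm⟩ := hsq (x * x) hx4
    have hmx : m * x = x * m := hx m hm
    have hu : (x * m⁻¹) * (x * m⁻¹) = 1 := by
      have h5 : m⁻¹ * x = x * m⁻¹ := by
        calc m⁻¹ * x = m⁻¹ * (x * m) * m⁻¹ := by group
          _ = m⁻¹ * (m * x) * m⁻¹ := by rw [hmx]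
          _ = x * m⁻¹ := by group
      calc (x * m⁻¹) * (x * m⁻¹) = x * (m⁻¹ * x) * m⁻¹ := by group
        _ = x * (x * m⁻¹) * m⁻¹ := by rw [h5]
        _ = (x * x) * (m * m)⁻¹ := by group
        _ = 1 := by rw [hmm, mul_inv_cancel]
    have h6 := Subgroup.mul_mem _ (hinvol _ hu) hm
    have h7 : x * m⁻¹ * m = x := by group
    rwa [h7] at h6
  · -- C_ne
    by_contra hcon
    push Not at hcon
    apply hd
    apply hZ
    rw [Subgroup.mem_center_iff]
    intro g
    have h1 := hcon g
    rw [Subgroup.mem_centralizer_iff] at h1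
    exact (h1 d hdMem).symm

end Cfsg.Agent.Lib.Helper55.Sz2
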