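import Mathlib
import Cfsg.Agent.S1137
import Cfsg.Agent.Lib.Helper55.Sz2Defs

/-! Project SZ2 (S1138), piece B (placeholder posted by helper55; proof filled in by helper79).

In a configuration `Conf φ M C` (see `Sz2Defs.lean`) with `C` abelian, `C` has exponent 4.

Notation: `Z = {z | z * z = 1}` (central, `Z ≤ M ≤ C`), `[a,y] = a⁻¹ * y⁻¹ * a * y` (so
`y⁻¹ * a * y = a * [a,y]`).  `C` is abelian, normal, contains all squares (`h.sq_mem`); for `y : P`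
the map `c ↦ [c,y]` is an endomorphism of `C`.  `K` is finite (`k ↦ φ k u` is injective by `h.free`)
and has an element `k ≠ 1` (`h.two`, `h.trans`).

PROOF by contradiction.  Suppose `x ∈ C` with `(x*x)*(x*x) ≠ 1`; a suitable power `h₀` of `x`
satisfies `h₀^8 = 1`, `h₀^4 ≠ 1` (2-group).
(1) Every `z ∈ Z` is `h^4` for some `h ∈ C` with `h^8 = 1` (`z = 1`: `h = 1`; else `φ k (h₀^4) = z`
    by `h.trans`, take `h = φ k h₀`, `h.C_inv`).
(2) For `h ∈ C` with `h^8 = 1` and `y : P`: `m := [h,y] ∈ C` and `m^4 = [h^4, y] = 1` (`h^4 ∈ Z` is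
    central), so `m ∈ M` by `h.C_four`; also `h * h ∈ M` and `[h*h, y] = m * m`.
(3) For `y : P` define `E y : Z → Z`, `E y z := [m, y]` for any `m ∈ M` with `m * m = z`
    (`h.sq_surj`; well defined: two such `m` differ by an element of `Z` because `M` is abelian, and
    `[·,y]` is a homomorphism on `M` killing `Z`; values in `Z` by `h.comm_sq`).  Then:
    `E y` is a homomorphism of the elementary abelian group `Z`;
    `E (y * y') z = E y z * E y' z` (`[m, y*y'] = [m,y'] * y'⁻¹ * [m,y] * y'`, `[m,y]` central);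
    `E y = 1 ↔ y ∈ C` (`h.mem_C`);  `E (φ k y) (φ k z) = φ k (E y z)`.
(4) `E y` is idempotent: for `z = h^4` as in (1) and `m := [h,y]`: `E y z = [h*h, y] = m * m`.
    As `y * y ∈ C` and `C` is abelian, `h = (y*y)⁻¹ * h * (y*y) = h * m * m * [m,y]`, so
    `[m,y] = (m*m)⁻¹ = m*m`, i.e. `E y (E y z) = E y (m*m) = [m,y] = m*m = E y z`.
(5) `E y` and `E y'` commute: `E (y*y') = E y * E y'` (pointwise) is idempotent, `Z` has exponent 2.
(6) Fix `y₁ ∉ C` (`h.C_ne`), `E₁ := E y₁ ≠ 1`, and `E_k := E (φ k y₁) = φ k ∘ E₁ ∘ φ k⁻¹`.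
    Choose `z* ∈ Z`, `z* ≠ 1`, maximising `#{k | E_k z* = z*}`.  Then `E_k z* ∈ {1, z*}` for all `k`:
    otherwise `z' := E_k z* ∉ {1, z*}` has `E_k z' = z'` and `E_k' z' = z'` for every `k'` with
    `E_k' z* = z*` (commutation), so `z'` has strictly more.  By transitivity and equivariance every
    `z ∈ Z` satisfies `E_k z ∈ {1, z}` for all `k`, in particular `E₁ z ∈ {1, z}`.  If `E₁ z₀ = z₀ ≠ 1`
    and `E₁ z₁ = 1`, `z₁ ≠ 1`, then `E₁ (z₀ * z₁) = z₀ ∉ {1, z₀ * z₁}`: contradiction.  As `E₁ ≠ 1`,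
    `E₁ = id`.  The same for every `y ∉ C`: `E y = id`.
(7) So for `y, y' ∉ C`: `E (y*y') z = z * z = 1`, i.e. `y * y' ∈ C`.  Take `k ≠ 1`; `φ k y₁ ∉ C`
    (`h.C_inv k⁻¹`), `y₁⁻¹ ∉ C`, so `c₁ := y₁⁻¹ * φ k y₁ ∈ C`.  The map `b ↦ b * (φ k b)⁻¹` is an
    injective endomorphism of the finite abelian group `C` (its kernel consists of fixed points of
    `φ k`, trivial by `h.free`), hence surjective: there is `b ∈ C` with `b * (φ k b)⁻¹ = c₁`.  Then
    `φ k (y₁ * b) = y₁ * c₁ * φ k b = y₁ * b` and `y₁ * b ≠ 1` (`y₁ ∉ C`), contradicting `h.free`. -/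

set_option autoImplicit false

namespace Cfsg.Agent.Lib.Helper55.Sz2
open Cfsg.Agent.S1137

/-- the commutator `m⁻¹ y⁻¹ m y` -/
def sz2b_cm {P : Type*} [Group P] (m y : P) : P := m⁻¹ * y⁻¹ * m * y

theorem sz2b_conj {P : Type*} [Group P] (m y : P) : y⁻¹ * m * y = m * sz2b_cm m y := by
  unfold sz2b_cm
  group

theorem sz2b_inv_of_sq {P : Type*} [Group P] {z : P} (hz : z * z = 1) : z⁻¹ = z :=
  inv_eq_of_mul_eq_one_left hz

theorem sz2b_pow4 {P : Type*} [Group P] (x : P) : x ^ 4 = (x * x) * (x * x) := by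
  rw [show (4 : ℕ) = 2 + 2 from rfl, pow_add, pow_two]

theorem sz2b_pow8 {P : Type*} [Group P] (x : P) :
    x ^ 8 = ((x * x) * (x * x)) * ((x * x) * (x * x)) := by
  rw [show (8 : ℕ) = 4 + 4 from rfl, pow_add, sz2b_pow4]

section

variable {P : Type*} [Group P] {K : Type*} [CommGroup K] {φ : K →* MulAut P} {M C : Subgroup P}

theorem sz2b_conj_mem (h : Conf φ M C) {c : P} (hc : c ∈ C) (y : P) : y⁻¹ * c * y ∈ C := by
  have h1 := h.C_normal.conj_mem c hc y⁻¹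
  rwa [inv_inv] at h1

theorem sz2b_cm_mem_C (h : Conf φ M C) {c : P} (hc : c ∈ C) (y : P) : sz2b_cm c y ∈ C := by
  have h1 : sz2b_cm c y = c⁻¹ * (y⁻¹ * c * y) := by
    unfold sz2b_cm
    group
  rw [h1]
  exact C.mul_mem (C.inv_mem hc) (sz2b_conj_mem h hc y)

theorem sz2b_cm_mul (h : Conf φ M C) (hCc : ∀ a ∈ C, ∀ b ∈ C, a * b = b * a) {c c' : P}
    (hc : c ∈ C) (hc' : c' ∈ C) (y : P) :
    sz2b_cm (c * c') y = sz2b_cm c y * sz2b_cm c' y := by
  have h2 := hCc c'⁻¹ (C.inv_mem hc') (c⁻¹ * (y⁻¹ * c * y))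
    (C.mul_mem (C.inv_mem hc) (sz2b_conj_mem h hc y))
  unfold sz2b_cm
  calc (c * c')⁻¹ * y⁻¹ * (c * c') * y
      = (c'⁻¹ * (c⁻¹ * (y⁻¹ * c * y))) * (y⁻¹ * c' * y) := by group
    _ = (c⁻¹ * (y⁻¹ * c * y)) * c'⁻¹ * (y⁻¹ * c' * y) := by rw [h2]
    _ = c⁻¹ * y⁻¹ * c * y * (c'⁻¹ * y⁻¹ * c' * y) := by group

theorem sz2b_cm_central {z : P} (hz : z ∈ Subgroup.center P) (y : P) : sz2b_cm z y = 1 := by
  unfold sz2b_cm
  have h1 := Subgroup.mem_center_iff.mp hz y⁻¹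
  calc z⁻¹ * y⁻¹ * z * y = z⁻¹ * (y⁻¹ * z) * y := by group
    _ = z⁻¹ * (z * y⁻¹) * y := by rw [h1]
    _ = 1 := by group

theorem sz2b_cm_pow (h : Conf φ M C) (hCc : ∀ a ∈ C, ∀ b ∈ C, a * b = b * a) {c : P}
    (hc : c ∈ C) (y : P) (j : ℕ) : sz2b_cm (c ^ j) y = sz2b_cm c y ^ j := by
  induction j with
  | zero =>
    rw [pow_zero, pow_zero]
    exact sz2b_cm_central (Subgroup.one_mem _) y
  | succ j ih =>
    rw [pow_succ, pow_succ, sz2b_cm_mul h hCc (C.pow_mem hc j) hc, ih]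

/-- well-definedness of `E` -/
theorem sz2b_cm_eq (h : Conf φ M C) (hCc : ∀ a ∈ C, ∀ b ∈ C, a * b = b * a) {m m' : P}
    (hm : m ∈ M) (hm' : m' ∈ M) (heq : m' * m' = m * m) (y : P) :
    sz2b_cm m' y = sz2b_cm m y := by
  have hmC := h.M_le hm
  have hmC' := h.M_le hm'
  have hz : (m⁻¹ * m') * (m⁻¹ * m') = 1 := by
    have h1 := hCc m' hmC' m⁻¹ (C.inv_mem hmC)
    calc (m⁻¹ * m') * (m⁻¹ * m') = m⁻¹ * (m' * m⁻¹) * m' := by group
      _ = m⁻¹ * (m⁻¹ * m') * m' := by rw [h1]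
      _ = (m * m)⁻¹ * (m' * m') := by group
      _ = 1 := by rw [heq, inv_mul_cancel]
  have hzc := h.invol_central _ hz
  have h2 : m' = m * (m⁻¹ * m') := by group
  rw [h2, sz2b_cm_mul h hCc hmC (C.mul_mem (C.inv_mem hmC) hmC'), sz2b_cm_central hzc, mul_one]

open Classical in
/-- the map `E y : Z → Z` -/
noncomputable def sz2b_E (M : Subgroup P) (y z : P) : P :=
  if hz : ∃ m ∈ M, m * m = z then sz2b_cm (Classical.choose hz) y else 1

theorem sz2b_E_spec (h : Conf φ M C) (hCc : ∀ a ∈ C, ∀ b ∈ C, a * b = b * a) {m : P}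
    (hm : m ∈ M) (y : P) : sz2b_E M y (m * m) = sz2b_cm m y := by
  have hz : ∃ m' ∈ M, m' * m' = m * m := ⟨m, hm, rfl⟩
  unfold sz2b_E
  rw [dif_pos hz]
  exact sz2b_cm_eq h hCc hm (Classical.choose_spec hz).1 (Classical.choose_spec hz).2 y

theorem sz2b_E_sq (h : Conf φ M C) (hCc : ∀ a ∈ C, ∀ b ∈ C, a * b = b * a) (y : P) {z : P}
    (hz : z * z = 1) : sz2b_E M y z * sz2b_E M y z = 1 := by
  obtain ⟨m, hm, rfl⟩ := h.sq_surj z hz
  rw [sz2b_E_spec h hCc hm]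
  exact h.comm_sq m hm y

theorem sz2b_E_mul (h : Conf φ M C) (hCc : ∀ a ∈ C, ∀ b ∈ C, a * b = b * a) (y : P) {z z' : P}
    (hz : z * z = 1) (hz' : z' * z' = 1) :
    sz2b_E M y (z * z') = sz2b_E M y z * sz2b_E M y z' := by
  obtain ⟨m, hm, rfl⟩ := h.sq_surj z hz
  obtain ⟨m', hm', rfl⟩ := h.sq_surj z' hz'
  have h1 := hCc m' (h.M_le hm') m (h.M_le hm)
  have h2 : m * m * (m' * m') = (m * m') * (m * m') := by
    calc m * m * (m' * m') = m * (m * m') * m' := by group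
      _ = m * (m' * m) * m' := by rw [h1]
      _ = (m * m') * (m * m') := by group
  rw [h2, sz2b_E_spec h hCc (M.mul_mem hm hm'), sz2b_E_spec h hCc hm, sz2b_E_spec h hCc hm',
    sz2b_cm_mul h hCc (h.M_le hm) (h.M_le hm')]

theorem sz2b_E_mul_left (h : Conf φ M C) (hCc : ∀ a ∈ C, ∀ b ∈ C, a * b = b * a) (y y' : P)
    {z : P} (hz : z * z = 1) :
    sz2b_E M (y * y') z = sz2b_E M y z * sz2b_E M y' z := by
  obtain ⟨m, hm, rfl⟩ := h.sq_surj z hz
  rw [sz2b_E_spec h hCc hm, sz2b_E_spec h hCc hm, sz2b_E_spec h hCc hm]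
  have hw : sz2b_cm m y ∈ Subgroup.center P := h.invol_central _ (h.comm_sq m hm y)
  have h1 := Subgroup.mem_center_iff.mp hw y'
  have h2 := Subgroup.mem_center_iff.mp hw (sz2b_cm m y')
  have e1 := sz2b_conj m y
  calc sz2b_cm m (y * y') = m⁻¹ * y'⁻¹ * (y⁻¹ * m * y) * y' := by
        unfold sz2b_cm
        group
    _ = m⁻¹ * y'⁻¹ * (m * sz2b_cm m y) * y' := by rw [e1]
    _ = m⁻¹ * y'⁻¹ * m * (sz2b_cm m y * y') := by group
    _ = m⁻¹ * y'⁻¹ * m * (y' * sz2b_cm m y) := by rw [h1]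
    _ = sz2b_cm m y' * sz2b_cm m y := by
        unfold sz2b_cm
        group
    _ = sz2b_cm m y * sz2b_cm m y' := h2

theorem sz2b_E_one_iff (h : Conf φ M C) (hCc : ∀ a ∈ C, ∀ b ∈ C, a * b = b * a) (y : P) :
    y ∈ C ↔ ∀ z : P, z * z = 1 → sz2b_E M y z = 1 := by
  constructor
  · intro hy z hz
    obtain ⟨m, hm, rfl⟩ := h.sq_surj z hz
    rw [sz2b_E_spec h hCc hm]
    have h1 := (h.mem_C y).mp hy m hm
    unfold sz2b_cm
    calc m⁻¹ * y⁻¹ * m * y = m⁻¹ * y⁻¹ * (m * y) := by group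
      _ = m⁻¹ * y⁻¹ * (y * m) := by rw [h1]
      _ = 1 := by group
  · intro hE
    rw [h.mem_C]
    intro m hm
    have h1 := hE (m * m) (h.M_exp m hm)
    rw [sz2b_E_spec h hCc hm] at h1
    unfold sz2b_cm at h1
    calc m * y = y * m * (m⁻¹ * y⁻¹ * m * y) := by group
      _ = y * m := by rw [h1, mul_one]

theorem sz2b_E_equiv (h : Conf φ M C) (hCc : ∀ a ∈ C, ∀ b ∈ C, a * b = b * a) (k : K) (y : P)
    {z : P} (hz : z * z = 1) : sz2b_E M (φ k y) (φ k z) = φ k (sz2b_E M y z) := by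
  obtain ⟨m, hm, rfl⟩ := h.sq_surj z hz
  rw [map_mul, sz2b_E_spec h hCc (h.M_inv k m hm), sz2b_E_spec h hCc hm]
  unfold sz2b_cm
  simp only [map_mul, map_inv]

theorem sz2b_E_one (h : Conf φ M C) (hCc : ∀ a ∈ C, ∀ b ∈ C, a * b = b * a) (y : P) :
    sz2b_E M y 1 = 1 := by
  have h1 := sz2b_E_spec h hCc M.one_mem y
  rw [mul_one] at h1
  rw [h1]
  exact sz2b_cm_central (Subgroup.one_mem _) y

/-- idempotence, given elements of order 8 over every involution -/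
theorem sz2b_E_idem (h : Conf φ M C) (hCc : ∀ a ∈ C, ∀ b ∈ C, a * b = b * a)
    (h8 : ∀ z : P, z * z = 1 → ∃ g ∈ C, g ^ 8 = 1 ∧ g ^ 4 = z) (y : P) {z : P}
    (hz : z * z = 1) : sz2b_E M y (sz2b_E M y z) = sz2b_E M y z := by
  obtain ⟨g, hg, hg8, hg4⟩ := h8 z hz
  have hzc : z ∈ Subgroup.center P := h.invol_central z hz
  obtain ⟨m, hmdef⟩ : ∃ m, m = sz2b_cm g y := ⟨_, rfl⟩
  have hmC : m ∈ C := by
    rw [hmdef]
    exact sz2b_cm_mem_C h hg y
  have hm4 : m ^ 4 = 1 := by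
    rw [hmdef, ← sz2b_cm_pow h hCc hg, hg4]
    exact sz2b_cm_central hzc y
  have hmm : (m * m) * (m * m) = 1 := by
    rw [← sz2b_pow4]
    exact hm4
  have hmM : m ∈ M := h.C_four m hmC hmm
  have hggM : g * g ∈ M := h.C_four (g * g) (C.mul_mem hg hg) (by
    rw [← sz2b_pow8]
    exact hg8)
  have hEz : sz2b_E M y z = m * m := by
    have h1 : z = (g * g) * (g * g) := by
      rw [← hg4, sz2b_pow4]
    rw [h1, sz2b_E_spec h hCc hggM, sz2b_cm_mul h hCc hg hg, ← hmdef]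
  have hcm : sz2b_cm m y = m * m := by
    have hc := hCc (y * y) (h.sq_mem y) g hg
    have e1 := sz2b_conj g y
    have e2 := sz2b_conj m y
    rw [← hmdef] at e1
    have h1 : g = g * (m * (m * sz2b_cm m y)) := by
      calc g = (y * y)⁻¹ * ((y * y) * g) := by group
        _ = (y * y)⁻¹ * (g * (y * y)) := by rw [hc]
        _ = y⁻¹ * (y⁻¹ * g * y) * y := by group
        _ = y⁻¹ * (g * m) * y := by rw [e1]
        _ = (y⁻¹ * g * y) * (y⁻¹ * m * y) := by group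
        _ = (g * m) * (m * sz2b_cm m y) := by rw [e1, e2]
        _ = g * (m * (m * sz2b_cm m y)) := by group
    have h2 : m * (m * sz2b_cm m y) = 1 := by
      have h3 : g * (m * (m * sz2b_cm m y)) = g * 1 := by
        rw [mul_one]
        exact h1.symm
      exact mul_left_cancel h3
    have h3 : sz2b_cm m y = (m * m)⁻¹ :=
      eq_inv_of_mul_eq_one_right (by rw [mul_assoc]; exact h2)
    rw [h3, sz2b_inv_of_sq hmm]
  rw [hEz, sz2b_E_spec h hCc hmM, hcm]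

theorem sz2b_E_comm (h : Conf φ M C) (hCc : ∀ a ∈ C, ∀ b ∈ C, a * b = b * a)
    (h8 : ∀ z : P, z * z = 1 → ∃ g ∈ C, g ^ 8 = 1 ∧ g ^ 4 = z) (y y' : P) {z : P}
    (hz : z * z = 1) :
    sz2b_E M y (sz2b_E M y' z) = sz2b_E M y' (sz2b_E M y z) := by
  have hid := sz2b_E_idem h hCc h8 (y * y') hz
  have ha := sz2b_E_sq h hCc y hz
  have hb := sz2b_E_sq h hCc y' hz
  rw [sz2b_E_mul_left h hCc y y' hz] at hid
  rw [sz2b_E_mul h hCc (y * y') ha hb, sz2b_E_mul_left h hCc y y' ha,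
    sz2b_E_mul_left h hCc y y' hb, sz2b_E_idem h hCc h8 y hz, sz2b_E_idem h hCc h8 y' hz] at hid
  have hXs := sz2b_E_sq h hCc y' ha
  have hYs := sz2b_E_sq h hCc y hb
  have hX := h.invol_central _ hXs
  have hY := h.invol_central _ hYs
  have c1 := Subgroup.mem_center_iff.mp hY (sz2b_E M y' z)
  have c2 := Subgroup.mem_center_iff.mp hX (sz2b_E M y' z)
  have h1 : sz2b_E M y z * sz2b_E M y' z *
      (sz2b_E M y' (sz2b_E M y z) * sz2b_E M y (sz2b_E M y' z)) =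
      sz2b_E M y z * sz2b_E M y' z * 1 := by
    rw [mul_one]
    calc sz2b_E M y z * sz2b_E M y' z *
        (sz2b_E M y' (sz2b_E M y z) * sz2b_E M y (sz2b_E M y' z))
        = sz2b_E M y z * (sz2b_E M y' z * sz2b_E M y' (sz2b_E M y z)) *
            sz2b_E M y (sz2b_E M y' z) := by group
      _ = sz2b_E M y z * (sz2b_E M y' (sz2b_E M y z) * sz2b_E M y' z) *
            sz2b_E M y (sz2b_E M y' z) := by rw [c2]
      _ = sz2b_E M y z * sz2b_E M y' (sz2b_E M y z) *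
            (sz2b_E M y' z * sz2b_E M y (sz2b_E M y' z)) := by group
      _ = sz2b_E M y z * sz2b_E M y' (sz2b_E M y z) *
            (sz2b_E M y (sz2b_E M y' z) * sz2b_E M y' z) := by rw [c1]
      _ = sz2b_E M y z * sz2b_E M y' z := hid
  have h2 := mul_left_cancel h1
  have h3 : sz2b_E M y (sz2b_E M y' z) = (sz2b_E M y' (sz2b_E M y z))⁻¹ :=
    eq_inv_of_mul_eq_one_right h2
  rw [h3, sz2b_inv_of_sq hXs]

theorem sz2b_E_id [Finite P] (h : Conf φ M C) (hCc : ∀ a ∈ C, ∀ b ∈ C, a * b = b * a)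
    (h8 : ∀ z : P, z * z = 1 → ∃ g ∈ C, g ^ 8 = 1 ∧ g ^ 4 = z) {y₁ : P} (hy₁ : y₁ ∉ C) :
    ∀ z : P, z * z = 1 → sz2b_E M y₁ z = z := by
  classical
  obtain ⟨u, -, -, hu1, hu2, -, -⟩ := h.two
  haveI : Finite K := Finite.of_injective (fun k : K => φ k u) (by
    intro k k' hkk
    have hkk' : φ k u = φ k' u := hkk
    have h1 : φ (k⁻¹ * k') u = u := by
      rw [map_mul, MulAut.mul_apply, ← hkk', map_inv, MulAut.inv_apply_self]
    exact inv_mul_eq_one.mp (h.free _ u hu1 h1))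
  letI : Fintype K := Fintype.ofFinite K
  letI : Fintype P := Fintype.ofFinite P
  have hs : (Finset.univ.filter (fun z : P => z ≠ 1 ∧ z * z = 1)).Nonempty :=
    ⟨u, by rw [Finset.mem_filter]; exact ⟨Finset.mem_univ _, hu1, hu2⟩⟩
  obtain ⟨zs, hzs, hmax⟩ := Finset.exists_max_image _
    (fun z : P => (Finset.univ.filter (fun k : K => sz2b_E M (φ k y₁) z = z)).card) hs
  rw [Finset.mem_filter] at hzs
  obtain ⟨-, hzs1, hzs2⟩ := hzs
  have h6a : ∀ k : K, sz2b_E M (φ k y₁) zs = 1 ∨ sz2b_E M (φ k y₁) zs = zs := by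
    intro k
    by_contra hcon
    push Not at hcon
    obtain ⟨hne1, hnez⟩ := hcon
    have hz'2 := sz2b_E_sq h hCc (φ k y₁) hzs2
    have hlt : (Finset.univ.filter (fun k' : K => sz2b_E M (φ k' y₁) zs = zs)).card <
        (Finset.univ.filter (fun k' : K => sz2b_E M (φ k' y₁) (sz2b_E M (φ k y₁) zs) =
          sz2b_E M (φ k y₁) zs)).card := by
      apply Finset.card_lt_card
      have hsub : (Finset.univ.filter (fun k' : K => sz2b_E M (φ k' y₁) zs = zs)) ⊆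
          (Finset.univ.filter (fun k' : K => sz2b_E M (φ k' y₁) (sz2b_E M (φ k y₁) zs) =
            sz2b_E M (φ k y₁) zs)) := by
        intro k' hk'
        rw [Finset.mem_filter] at hk' ⊢
        refine ⟨Finset.mem_univ _, ?_⟩
        rw [sz2b_E_comm h hCc h8 (φ k' y₁) (φ k y₁) hzs2, hk'.2]
      rw [Finset.ssubset_iff_of_subset hsub]
      refine ⟨k, ?_, ?_⟩
      · rw [Finset.mem_filter]
        exact ⟨Finset.mem_univ _, sz2b_E_idem h hCc h8 (φ k y₁) hzs2⟩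
      · rw [Finset.mem_filter]
        intro hk
        exact hnez hk.2
    have hle := hmax (sz2b_E M (φ k y₁) zs) (by
      rw [Finset.mem_filter]
      exact ⟨Finset.mem_univ _, hne1, hz'2⟩)
    exact absurd hle (not_le.mpr hlt)
  have h6b : ∀ z : P, z ≠ 1 → z * z = 1 → sz2b_E M y₁ z = 1 ∨ sz2b_E M y₁ z = z := by
    intro z hz1 hz2
    obtain ⟨j, hj⟩ := h.trans zs z hzs1 hzs2 hz1 hz2
    have h1 := sz2b_E_equiv h hCc j (φ j⁻¹ y₁) hzs2
    have h2 : φ j (φ j⁻¹ y₁) = y₁ := by rw [map_inv, MulAut.apply_inv_self]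
    rw [h2, hj] at h1
    rcases h6a j⁻¹ with h3 | h3
    · left
      rw [h1, h3, map_one]
    · right
      rw [h1, h3, hj]
  have hne : ∃ z₀ : P, z₀ * z₀ = 1 ∧ sz2b_E M y₁ z₀ ≠ 1 := by
    by_contra hcon
    push Not at hcon
    exact hy₁ ((sz2b_E_one_iff h hCc y₁).mpr hcon)
  obtain ⟨z₀, hz₀2, hz₀E⟩ := hne
  have hz₀1 : z₀ ≠ 1 := by
    intro e
    apply hz₀E
    rw [e]
    exact sz2b_E_one h hCc y₁
  have hz₀id : sz2b_E M y₁ z₀ = z₀ := (h6b z₀ hz₀1 hz₀2).resolve_left hz₀E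
  intro z hz2
  by_cases hz1 : z = 1
  · rw [hz1]
    exact sz2b_E_one h hCc y₁
  · rcases h6b z hz1 hz2 with h3 | h3
    · exfalso
      have hzc := Subgroup.mem_center_iff.mp (h.invol_central z hz2) z₀
      have hzz : (z₀ * z) * (z₀ * z) = 1 := by
        calc (z₀ * z) * (z₀ * z) = z₀ * (z * z₀) * z := by group
          _ = z₀ * (z₀ * z) * z := by rw [hzc]
          _ = (z₀ * z₀) * (z * z) := by group
          _ = 1 := by rw [hz₀2, hz2, mul_one]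
      have hE : sz2b_E M y₁ (z₀ * z) = z₀ := by
        rw [sz2b_E_mul h hCc y₁ hz₀2 hz2, hz₀id, h3, mul_one]
      have hzz1 : z₀ * z ≠ 1 := by
        intro e
        rw [e, sz2b_E_one h hCc y₁] at hE
        exact hz₀1 hE.symm
      rcases h6b (z₀ * z) hzz1 hzz with h4 | h4
      · rw [hE] at h4
        exact hz₀1 h4
      · rw [hE] at h4
        have h5 : z₀ * 1 = z₀ * z := by
          rw [mul_one]
          exact h4
        exact hz1 (mul_left_cancel h5).symm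
    · exact h3

theorem sz2b_final [Finite P] (h : Conf φ M C) (hCc : ∀ a ∈ C, ∀ b ∈ C, a * b = b * a)
    (h8 : ∀ z : P, z * z = 1 → ∃ g ∈ C, g ^ 8 = 1 ∧ g ^ 4 = z) : False := by
  obtain ⟨y₁, hy₁⟩ := h.C_ne
  obtain ⟨u, u', huu', hu1, hu2, hu'1, hu'2⟩ := h.two
  obtain ⟨k, hk⟩ := h.trans u u' hu1 hu2 hu'1 hu'2
  have hk1 : k ≠ 1 := by
    intro e
    rw [e, map_one, MulAut.one_apply] at hk
    exact huu' hk
  have hky : φ k y₁ ∉ C := by
    intro hc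
    have h1 := h.C_inv k⁻¹ _ hc
    rw [map_inv, MulAut.inv_apply_self] at h1
    exact hy₁ h1
  have hyi : y₁⁻¹ ∉ C := fun hc => hy₁ (by
    have h1 := C.inv_mem hc
    rwa [inv_inv] at h1)
  have hc₁ : y₁⁻¹ * φ k y₁ ∈ C := by
    rw [sz2b_E_one_iff h hCc]
    intro z hz
    rw [sz2b_E_mul_left h hCc _ _ hz, sz2b_E_id h hCc h8 hyi z hz, sz2b_E_id h hCc h8 hky z hz, hz]
  have hinj : Function.Injective (fun b : ↥C =>
      (⟨(b : P) * (φ k (b : P))⁻¹, C.mul_mem b.2 (C.inv_mem (h.C_inv k _ b.2))⟩ : ↥C)) := by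
    intro b b' hbb
    have h1 : (b : P) * (φ k (b : P))⁻¹ = (b' : P) * (φ k (b' : P))⁻¹ := congrArg Subtype.val hbb
    have h2 : φ k ((b' : P)⁻¹ * (b : P)) = (b' : P)⁻¹ * (b : P) := by
      rw [map_mul, map_inv]
      calc (φ k (b' : P))⁻¹ * φ k (b : P)
          = (b' : P)⁻¹ * ((b' : P) * (φ k (b' : P))⁻¹) * φ k (b : P) := by group
        _ = (b' : P)⁻¹ * ((b : P) * (φ k (b : P))⁻¹) * φ k (b : P) := by rw [h1]
        _ = (b' : P)⁻¹ * (b : P) := by group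
    by_contra hne
    have h3 : (b' : P)⁻¹ * (b : P) ≠ 1 := by
      intro e
      apply hne
      apply Subtype.ext
      exact (inv_mul_eq_one.mp e).symm
    exact hk1 (h.free k _ h3 h2)
  have hsurj := Finite.surjective_of_injective hinj
  obtain ⟨b, hb⟩ := hsurj ⟨y₁⁻¹ * φ k y₁, hc₁⟩
  have hb' : (b : P) * (φ k (b : P))⁻¹ = y₁⁻¹ * φ k y₁ := congrArg Subtype.val hb
  have hfix : φ k (y₁ * (b : P)) = y₁ * (b : P) := by
    rw [map_mul]
    have h1 : φ k y₁ = y₁ * ((b : P) * (φ k (b : P))⁻¹) := by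
      rw [hb']
      group
    rw [h1]
    group
  have hne1 : y₁ * (b : P) ≠ 1 := by
    intro e
    apply hy₁
    have h1 : y₁ = (b : P)⁻¹ := eq_inv_of_mul_eq_one_left e
    rw [h1]
    exact C.inv_mem b.2
  exact hk1 (h.free k _ hne1 hfix)

end

theorem C_exp_four {P : Type*} [Group P] [Finite P] {K : Type*} [CommGroup K] {φ : K →* MulAut P}
    (hp : IsPGroup 2 P) {M C : Subgroup P} (h : Conf φ M C)
    (hCc : ∀ a ∈ C, ∀ b ∈ C, a * b = b * a) : ∀ x ∈ C, (x * x) * (x * x) = 1 := by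
  intro x hx
  by_contra hx4
  apply sz2b_final h hCc
  have hx4' : x ^ 4 ≠ 1 := by
    intro e
    apply hx4
    rw [← sz2b_pow4]
    exact e
  classical
  have hex : ∃ e, x ^ 2 ^ e = 1 := hp x
  have hmin1 := Nat.find_spec hex
  have hmin2 : ∀ m, m < Nat.find hex → x ^ 2 ^ m ≠ 1 := fun m hm => Nat.find_min hex hm
  obtain ⟨e₀, he₀⟩ : ∃ e₀, e₀ = Nat.find hex := ⟨_, rfl⟩
  rw [← he₀] at hmin1 hmin2
  have he3 : 3 ≤ e₀ := by
    by_contra hlt
    apply hx4'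
    have h1 : x ^ 4 = (x ^ 2 ^ e₀) ^ 2 ^ (2 - e₀) := by
      rw [← pow_mul, ← pow_add]
      have h2 : e₀ + (2 - e₀) = 2 := by omega
      rw [h2]
      norm_num
    rw [h1, hmin1, one_pow]
  obtain ⟨h₀, hh₀⟩ : ∃ h₀, h₀ = x ^ 2 ^ (e₀ - 3) := ⟨_, rfl⟩
  have hh₀C : h₀ ∈ C := by
    rw [hh₀]
    exact C.pow_mem hx _
  have hh₀8 : h₀ ^ 8 = 1 := by
    rw [hh₀, ← pow_mul]
    have h1 : 2 ^ (e₀ - 3) * 8 = 2 ^ e₀ := by
      have h2 : (8 : ℕ) = 2 ^ 3 := by norm_num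
      rw [h2, ← pow_add]
      congr 1
      omega
    rw [h1]
    exact hmin1
  have hh₀4 : h₀ ^ 4 ≠ 1 := by
    rw [hh₀, ← pow_mul]
    have h1 : 2 ^ (e₀ - 3) * 4 = 2 ^ (e₀ - 1) := by
      have h2 : (4 : ℕ) = 2 ^ 2 := by norm_num
      rw [h2, ← pow_add]
      congr 1
      omega
    rw [h1]
    exact hmin2 (e₀ - 1) (by omega)
  intro z hz
  by_cases hz1 : z = 1
  · exact ⟨1, C.one_mem, one_pow _, by rw [one_pow, hz1]⟩
  · have hinv : (h₀ ^ 4) * (h₀ ^ 4) = 1 := by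
      rw [← pow_add]
      exact hh₀8
    obtain ⟨k, hk⟩ := h.trans (h₀ ^ 4) z hh₀4 hinv hz1 hz
    exact ⟨φ k h₀, h.C_inv k h₀ hh₀C, by rw [← map_pow, hh₀8, map_one], by rw [← map_pow, hk]⟩

end Cfsg.Agent.Lib.Helper55.Sz2
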