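import Mathlib
import Cfsg.Agent.S1137
import Cfsg.Agent.Lib.Helper55.Sz2Defs

/-! Project SZ2 (S1138), piece C2 (posted by helper55, proved by helper54).

Endgame: in a configuration `Conf φ M C` (see `Sz2Defs.lean`) in which `C` has exponent 4, a
generating set `S` with the properties `p1`, `p2`, `p3` forces `P` to have exponent 4.
Pure group theory; `K`, `φ` are used only through `h`.

Notation: `Z = {z | z * z = 1}` (central; `Z ≤ M`), `[a,b] = a⁻¹ * b⁻¹ * a * b` (so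
`b⁻¹ * a * b = a * [a,b]`).  For `m ∈ M`: "`m` is killed by `y`" means `m * y = y * m`, "`m` is
fixed by `y`" means `[m,y] = m * m`.

PROOF.
(0) By `hC4` and `h.C_four`, `C ≤ M`, so `C = M`: `M` is abelian, normal, contains all squares
    (`h.sq_mem`); `P ⧸ M` has exponent 2, hence is abelian, so all `[y,y'] ∈ M`.  For `m ∈ M`,
    `[m,y] ∈ Z` (`h.comm_sq`); `m ↦ [m,y]` is a homomorphism `M → Z` killing `Z`, and
    `y ↦ [m,y]` is a homomorphism `P → Z`.  All `m ∈ M` have `(m*m)*(m*m) = 1`.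
(1) `y ∈ S`, `y ∉ M` ⟹ `(y*y)*(y*y) = 1`: `y * y ∈ M` commutes with `y`, apply `p1`.
(2) If `(y*y)*(y*y) = 1` and `(y'*y')*(y'*y') = 1` then `m := [y,y'] ∈ M` is fixed by `y` and by
    `y'`: `y * y` is central, so `1 = [y*y, y'] = y⁻¹ * m * y * m = m * [m,y] * m`, whence
    `[m,y] = (m*m)⁻¹ = m*m`; symmetrically `[m⁻¹, y'] = m⁻¹ * m⁻¹` (as `[y',y] = m⁻¹`), and
    `[m,y'] = [m⁻¹,y']⁻¹ = m*m`.
(3) For fixed `y`, `y' ↦ [y,y'] * [y,y']` is a homomorphism `P → Z`, trivial on `M`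
    (`[y, y'*y''] = [y,y''] * y''⁻¹ * [y,y'] * y''`, and `y''⁻¹ * m * y'' ∈ m * Z` for `m ∈ M`).
(4) Claim: for `y ∈ S`, `y ∉ M`, and `y' ∈ S`: `w := [y,y'] * [y,y'] = 1`.  Suppose `w ≠ 1`.  Then
    `y' ∉ M`.  Let `y''` be given by `p3` for `y'`.  Put `m := [y,y']`, `m'' := [y,y'']`.  By (1),
    (2): `m`, `m''` and `[y, y'*y'']` are fixed by `y`, so by `p2` (for `y`) the squares `m*m`,
    `m''*m''`, `[y,y'*y'']^2 = (m*m)*(m''*m'')` are each `1` or all equal to `w`; moreover `m` is fixed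
    by `y'`, `m''` by `y''`, `[y, y'*y'']` by `y' * y''`.
    If `m''*m'' ≠ 1`: `m''*m'' = w = m*m`, so `m'' ∈ m * Z` and `m` is fixed by `y'` and `y''`;
    `p3` gives `m*m = 1`, contradiction.  So `m''*m'' = 1`, `m'' ∈ Z`, `[y, y'*y''] ∈ m * Z`, and `m`
    is fixed by `y' * y''`: `m*m = [m, y'*y''] = [m,y''] * [m,y'] = [m,y''] * (m*m)`, so `[m,y''] = 1`,
    i.e. `m` is killed by `y''`; `p1` (for `y''`) gives `m*m = 1`, contradiction.
(5) Hence for all `y, y' ∈ S`: `[y,y'] ∈ Z` (if one of them lies in `M` use `h.comm_sq`), and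
    `y * y ∈ Z` (by (1) or `h.M_exp`).
(6) In `Q = P ⧸ Z` the images of `S` generate (`hgen`), pairwise commute and have square 1; so
    `Q` is abelian of exponent 2: every `y : P` has `y * y ∈ Z`, i.e. `(y*y)*(y*y) = 1`. -/

set_option autoImplicit false

namespace Cfsg.Agent.Lib.Helper55.Sz2
open Cfsg.Agent.S1137

/-- a central element has trivial commutators -/
theorem c2_central {P : Type*} [Group P] (t g : P) (ht : t ∈ Subgroup.center P) :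
    t⁻¹ * g⁻¹ * t * g = 1 := by
  have e := Subgroup.mem_center_iff.mp ht g⁻¹
  calc t⁻¹ * g⁻¹ * t * g = t⁻¹ * (g⁻¹ * t) * g := by group
    _ = t⁻¹ * (t * g⁻¹) * g := by rw [e]
    _ = 1 := by group

/-- `[m m', y] = [m, y] [m', y]` when `[m, y]` is central -/
theorem c2_mul_left {P : Type*} [Group P] (m m' y : P)
    (hz : m⁻¹ * y⁻¹ * m * y ∈ Subgroup.center P) :
    (m * m')⁻¹ * y⁻¹ * (m * m') * y = (m⁻¹ * y⁻¹ * m * y) * (m'⁻¹ * y⁻¹ * m' * y) := by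
  have e := Subgroup.mem_center_iff.mp hz m'⁻¹
  calc (m * m')⁻¹ * y⁻¹ * (m * m') * y
      = m'⁻¹ * (m⁻¹ * y⁻¹ * m * y) * (y⁻¹ * m' * y) := by group
    _ = (m⁻¹ * y⁻¹ * m * y) * m'⁻¹ * (y⁻¹ * m' * y) := by rw [e]
    _ = (m⁻¹ * y⁻¹ * m * y) * (m'⁻¹ * y⁻¹ * m' * y) := by group

/-- `[m, y y'] = [m, y'] [m, y]` when `[m, y]` is central -/
theorem c2_mul_right {P : Type*} [Group P] (m y y' : P)
    (hz : m⁻¹ * y⁻¹ * m * y ∈ Subgroup.center P) :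
    m⁻¹ * (y * y')⁻¹ * m * (y * y') = (m⁻¹ * y'⁻¹ * m * y') * (m⁻¹ * y⁻¹ * m * y) := by
  have e := Subgroup.mem_center_iff.mp hz y'
  calc m⁻¹ * (y * y')⁻¹ * m * (y * y')
      = m⁻¹ * y'⁻¹ * m * ((m⁻¹ * y⁻¹ * m * y) * y') := by group
    _ = m⁻¹ * y'⁻¹ * m * (y' * (m⁻¹ * y⁻¹ * m * y)) := by rw [e]
    _ = (m⁻¹ * y'⁻¹ * m * y') * (m⁻¹ * y⁻¹ * m * y) := by group

/-- `[m⁻¹, y] = [m, y]` when `[m, y]` is a central involution -/
theorem c2_inv_left {P : Type*} [Group P] (m y : P)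
    (hz : m⁻¹ * y⁻¹ * m * y ∈ Subgroup.center P)
    (hzz : (m⁻¹ * y⁻¹ * m * y) * (m⁻¹ * y⁻¹ * m * y) = 1) :
    (m⁻¹)⁻¹ * y⁻¹ * m⁻¹ * y = m⁻¹ * y⁻¹ * m * y := by
  have e := Subgroup.mem_center_iff.mp hz m
  have hinv : (m⁻¹ * y⁻¹ * m * y)⁻¹ = m⁻¹ * y⁻¹ * m * y := inv_eq_of_mul_eq_one_right hzz
  calc (m⁻¹)⁻¹ * y⁻¹ * m⁻¹ * y = m * (m⁻¹ * y⁻¹ * m * y)⁻¹ * m⁻¹ := by group
    _ = m * (m⁻¹ * y⁻¹ * m * y) * m⁻¹ := by rw [hinv]
    _ = (m⁻¹ * y⁻¹ * m * y) * m * m⁻¹ := by rw [e]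
    _ = m⁻¹ * y⁻¹ * m * y := by group

theorem exp4_of_gens {P : Type*} [Group P] [Finite P] {K : Type*} [CommGroup K]
    {φ : K →* MulAut P} {M C : Subgroup P} (h : Conf φ M C)
    (hC4 : ∀ x ∈ C, (x * x) * (x * x) = 1) (S : Set P) (hgen : Subgroup.closure S = ⊤)
    (p1 : ∀ y ∈ S, y ∉ M → ∀ m ∈ M, m * y = y * m → m * m = 1)
    (p2 : ∀ y ∈ S, y ∉ M → ∀ m₁ ∈ M, ∀ m₂ ∈ M, m₁⁻¹ * y⁻¹ * m₁ * y = m₁ * m₁ →
      m₂⁻¹ * y⁻¹ * m₂ * y = m₂ * m₂ → m₁ * m₁ ≠ 1 → m₂ * m₂ ≠ 1 → m₁ * m₁ = m₂ * m₂)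
    (p3 : ∀ y ∈ S, y ∉ M → ∃ y' ∈ S, y' ∉ M ∧ y * y' ∈ S ∧ y * y' ∉ M ∧
      ∀ m ∈ M, m⁻¹ * y⁻¹ * m * y = m * m → m⁻¹ * y'⁻¹ * m * y' = m * m → m * m = 1) :
    ∀ y : P, (y * y) * (y * y) = 1 := by
  have hZ : ∀ z : P, z * z = 1 → z ∈ Subgroup.center P := h.invol_central
  have hZ' : ∀ z ∈ Subgroup.center P, z * z = 1 := h.center_sq
  have hcen : ∀ z ∈ Subgroup.center P, ∀ g : P, g * z = z * g :=
    fun z hz g => Subgroup.mem_center_iff.mp hz g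
  have hCM : ∀ x ∈ C, x ∈ M := fun x hx => h.C_four x hx (hC4 x hx)
  have hMab : ∀ m ∈ M, ∀ m' ∈ M, m * m' = m' * m :=
    fun m hm m' hm' => (h.mem_C m').mp (h.M_le hm') m hm
  have hsqM : ∀ y : P, y * y ∈ M := fun y => hCM _ (h.sq_mem y)
  have hMc : ∀ m ∈ M, ∀ y : P, m⁻¹ * y⁻¹ * m * y ∈ Subgroup.center P :=
    fun m hm y => hZ _ (h.comm_sq m hm y)
  have hZM : ∀ z ∈ Subgroup.center P, z ∈ M := fun z hz => h.invol_mem z (hZ' z hz)
  have hcM : ∀ y y' : P, y⁻¹ * y'⁻¹ * y * y' ∈ M := by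
    intro y y'
    have e : y⁻¹ * y'⁻¹ * y * y' =
        (y⁻¹ * y⁻¹) * ((y * y'⁻¹) * (y * y'⁻¹)) * (y' * y') := by group
    rw [e]
    exact M.mul_mem (M.mul_mem (hsqM _) (hsqM _)) (hsqM _)
  have key : ∀ a ∈ M, ∀ b ∈ M, (a * b) * (a * b) = (a * a) * (b * b) := by
    intro a ha b hb
    have e := hMab a ha b hb
    calc (a * b) * (a * b) = a * (b * a) * b := by group
      _ = a * (a * b) * b := by rw [← e]
      _ = (a * a) * (b * b) := by group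
  -- (1)
  have h1 : ∀ y ∈ S, (y * y) * (y * y) = 1 := by
    intro y hy
    by_cases hyM : y ∈ M
    · exact h.M_exp y hyM
    · exact p1 y hy hyM (y * y) (hsqM y) (mul_assoc y y y)
  -- (2)
  have h2 : ∀ y y' m : P, m = y⁻¹ * y'⁻¹ * y * y' → (y * y) * (y * y) = 1 →
      m⁻¹ * y⁻¹ * m * y = m * m := by
    intro y y' m hm hy4
    have hmM : m ∈ M := by rw [hm]; exact hcM y y'
    have hyc := hZ _ hy4
    have e1 : y⁻¹ * m * y * m = 1 := by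
      have e : y⁻¹ * m * y * m = (y * y)⁻¹ * y'⁻¹ * (y * y) * y' := by rw [hm]; group
      rw [e]
      exact c2_central (y * y) y' hyc
    have e2 : (m⁻¹ * y⁻¹ * m * y) * (m * m) = 1 := by
      calc (m⁻¹ * y⁻¹ * m * y) * (m * m) = ((m⁻¹ * y⁻¹ * m * y) * m) * m := by group
        _ = (m * (m⁻¹ * y⁻¹ * m * y)) * m := by rw [hcen _ (hMc m hmM y) m]
        _ = y⁻¹ * m * y * m := by group
        _ = 1 := e1
    exact mul_right_cancel (e2.trans (h.M_exp m hmM).symm)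
  have h2' : ∀ y y' m : P, m = y⁻¹ * y'⁻¹ * y * y' → (y' * y') * (y' * y') = 1 →
      m⁻¹ * y'⁻¹ * m * y' = m * m := by
    intro y y' m hm hy4
    have hmM : m ∈ M := by rw [hm]; exact hcM y y'
    have e1 := h2 y' y m⁻¹ (by rw [hm]; group) hy4
    rw [c2_inv_left m y' (hMc m hmM y') (h.comm_sq m hmM y')] at e1
    rw [e1]
    have e2 : m⁻¹ * m⁻¹ = (m * m)⁻¹ := by group
    rw [e2]
    exact inv_eq_of_mul_eq_one_right (h.M_exp m hmM)
  -- (3)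
  have h3 : ∀ y y' y'' : P,
      (y⁻¹ * (y' * y'')⁻¹ * y * (y' * y'')) * (y⁻¹ * (y' * y'')⁻¹ * y * (y' * y'')) =
        ((y⁻¹ * y''⁻¹ * y * y'') * (y⁻¹ * y''⁻¹ * y * y'')) *
          ((y⁻¹ * y'⁻¹ * y * y') * (y⁻¹ * y'⁻¹ * y * y')) := by
    intro y y' y''
    obtain ⟨m, hm⟩ : ∃ m : P, m = y⁻¹ * y'⁻¹ * y * y' := ⟨_, rfl⟩
    obtain ⟨a, ha⟩ : ∃ a : P, a = y⁻¹ * y''⁻¹ * y * y'' := ⟨_, rfl⟩
    have hmM : m ∈ M := by rw [hm]; exact hcM y y'
    have haM : a ∈ M := by rw [ha]; exact hcM y y''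
    have hz := hMc m hmM y''
    have hzM := hZM _ hz
    have e : y⁻¹ * (y' * y'')⁻¹ * y * (y' * y'') = a * (m * (m⁻¹ * y''⁻¹ * m * y'')) := by
      rw [ha, hm]; group
    rw [e, ← ha, ← hm, key a haM _ (M.mul_mem hmM hzM), key m hmM _ hzM,
      h.comm_sq m hmM y'', mul_one]
  -- (4)
  have h4 : ∀ y ∈ S, y ∉ M → ∀ y' ∈ S,
      (y⁻¹ * y'⁻¹ * y * y') * (y⁻¹ * y'⁻¹ * y * y') = 1 := by
    intro y hy hyM y' hy'
    by_contra hw
    have hy'M : y' ∉ M := by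
      intro hy'M
      apply hw
      have e : y⁻¹ * y'⁻¹ * y * y' = (y'⁻¹ * y⁻¹ * y' * y)⁻¹ := by group
      rw [e]
      exact hZ' _ (Subgroup.inv_mem _ (hMc y' hy'M y))
    obtain ⟨y'', hy''S, hy''M, hprodS, hprodM, hp3⟩ := p3 y' hy' hy'M
    obtain ⟨m, hm⟩ : ∃ m : P, m = y⁻¹ * y'⁻¹ * y * y' := ⟨_, rfl⟩
    obtain ⟨m'', hm''⟩ : ∃ m'' : P, m'' = y⁻¹ * y''⁻¹ * y * y'' := ⟨_, rfl⟩
    obtain ⟨m₃, hm₃⟩ : ∃ m₃ : P, m₃ = y⁻¹ * (y' * y'')⁻¹ * y * (y' * y'') := ⟨_, rfl⟩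
    rw [← hm] at hw
    have hmM : m ∈ M := by rw [hm]; exact hcM y y'
    have hm''M : m'' ∈ M := by rw [hm'']; exact hcM y y''
    have hy4 := h1 y hy
    have hy'4 := h1 y' hy'
    have hy''4 := h1 y'' hy''S
    have hprod4 := h1 (y' * y'') hprodS
    have fm_y := h2 y y' m hm hy4
    have fm_y' := h2' y y' m hm hy'4
    have fm''_y := h2 y y'' m'' hm'' hy4
    have fm''_y'' := h2' y y'' m'' hm'' hy''4
    have fm₃_p := h2' y (y' * y'') m₃ hm₃ hprod4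
    have H3 : m₃ * m₃ = (m'' * m'') * (m * m) := by
      rw [hm₃, hm'', hm]
      exact h3 y y' y''
    by_cases hsq : m'' * m'' = 1
    · -- `m''` is central
      have hm''c := hZ _ hsq
      have hz := hMc m hmM y''
      have e : m₃ = (m'' * (m⁻¹ * y''⁻¹ * m * y'')) * m := by
        have e0 : m₃ = m'' * (m * (m⁻¹ * y''⁻¹ * m * y'')) := by
          rw [hm₃, hm'', hm]; group
        rw [e0, hcen _ hz m]
        exact (mul_assoc _ _ _).symm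
      have ht : m'' * (m⁻¹ * y''⁻¹ * m * y'') ∈ Subgroup.center P :=
        Subgroup.mul_mem _ hm''c hz
      have e3 : m₃⁻¹ * (y' * y'')⁻¹ * m₃ * (y' * y'') =
          m⁻¹ * (y' * y'')⁻¹ * m * (y' * y'') := by
        rw [e, c2_mul_left _ m (y' * y'') (hMc _ (hZM _ ht) _),
          c2_central _ (y' * y'') ht, one_mul]
      have e4 : m⁻¹ * (y' * y'')⁻¹ * m * (y' * y'') = m * m := by
        rw [← e3, fm₃_p, H3, hsq, one_mul]
      rw [c2_mul_right m y' y'' (hMc m hmM y'), fm_y'] at e4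
      have e5 : m⁻¹ * y''⁻¹ * m * y'' = 1 := by
        have e6 : (m⁻¹ * y''⁻¹ * m * y'') * (m * m) = 1 * (m * m) := by rw [e4, one_mul]
        exact mul_right_cancel e6
      have e7 : m * y'' = y'' * m := by
        calc m * y'' = y'' * m * (m⁻¹ * y''⁻¹ * m * y'') := by group
          _ = y'' * m := by rw [e5, mul_one]
      exact hw (p1 y'' hy''S hy''M m hmM e7)
    · have heq : m'' * m'' = m * m := p2 y hy hyM m'' hm''M m hmM fm''_y fm_y hsq hw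
      have htt : (m'' * m⁻¹) * (m'' * m⁻¹) = 1 := by
        rw [key m'' hm''M m⁻¹ (M.inv_mem hmM), heq]
        group
      have ht := hZ _ htt
      have e : m'' = (m'' * m⁻¹) * m := by group
      have e3 : m''⁻¹ * y''⁻¹ * m'' * y'' = m⁻¹ * y''⁻¹ * m * y'' := by
        have e4 : m''⁻¹ * y''⁻¹ * m'' * y'' =
            ((m'' * m⁻¹) * m)⁻¹ * y''⁻¹ * ((m'' * m⁻¹) * m) * y'' := by rw [← e]
        rw [e4, c2_mul_left _ m y'' (hMc _ (hZM _ ht) _), c2_central _ y'' ht, one_mul]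
      have e5 : m⁻¹ * y''⁻¹ * m * y'' = m * m := by rw [← e3, fm''_y'', heq]
      exact hw (hp3 m hmM fm_y' e5)
  -- (5)
  have h5 : ∀ y ∈ S, ∀ y' ∈ S, y⁻¹ * y'⁻¹ * y * y' ∈ Subgroup.center P := by
    intro y hy y' hy'
    by_cases hyM : y ∈ M
    · exact hMc y hyM y'
    · exact hZ _ (h4 y hy hyM y' hy')
  -- (6)
  have hall : ∀ x : P, x ∈ Subgroup.closure S := fun x => by rw [hgen]; exact Subgroup.mem_top x
  have s1 : ∀ s ∈ S, ∀ x : P, x⁻¹ * s⁻¹ * x * s ∈ Subgroup.center P := by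
    intro s hs x
    have hx := hall x
    induction hx using Subgroup.closure_induction with
    | mem x hx => exact h5 x hx s hs
    | one =>
      have e : (1 : P)⁻¹ * s⁻¹ * 1 * s = 1 := by group
      rw [e]
      exact Subgroup.one_mem _
    | mul x x' _ _ ihx ihx' =>
      rw [c2_mul_left x x' s ihx]
      exact Subgroup.mul_mem _ ihx ihx'
    | inv x _ ih =>
      have e : (x⁻¹)⁻¹ * s⁻¹ * x⁻¹ * s = x * (x⁻¹ * s⁻¹ * x * s)⁻¹ * x⁻¹ := by group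
      have hz' := Subgroup.inv_mem _ ih
      rw [e, hcen _ hz' x, mul_inv_cancel_right]
      exact hz'
  have s2 : ∀ x y : P, x⁻¹ * y⁻¹ * x * y ∈ Subgroup.center P := by
    intro x y
    have hy := hall y
    induction hy using Subgroup.closure_induction with
    | mem y hy => exact s1 y hy x
    | one =>
      have e : x⁻¹ * (1 : P)⁻¹ * x * 1 = 1 := by group
      rw [e]
      exact Subgroup.one_mem _
    | mul y y' _ _ ihy ihy' =>
      rw [c2_mul_right x y y' ihy]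
      exact Subgroup.mul_mem _ ihy' ihy
    | inv y _ ih =>
      have e : x⁻¹ * (y⁻¹)⁻¹ * x * y⁻¹ = y * (x⁻¹ * y⁻¹ * x * y)⁻¹ * y⁻¹ := by group
      have hz' := Subgroup.inv_mem _ ih
      rw [e, hcen _ hz' y, mul_inv_cancel_right]
      exact hz'
  have s3 : ∀ y : P, y * y ∈ Subgroup.center P := by
    intro y
    have hy := hall y
    induction hy using Subgroup.closure_induction with
    | mem y hy => exact hZ _ (h1 y hy)
    | one =>
      rw [mul_one]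
      exact Subgroup.one_mem _
    | mul x x' _ _ ihx ihx' =>
      have hz := s2 x' x
      have e : (x * x') * (x * x') = (x * x) * (x' * (x'⁻¹ * x⁻¹ * x' * x)) * x' := by group
      rw [e, hcen _ hz x']
      have e' : (x * x) * ((x'⁻¹ * x⁻¹ * x' * x) * x') * x' =
          ((x * x) * (x'⁻¹ * x⁻¹ * x' * x)) * (x' * x') := by group
      rw [e']
      exact Subgroup.mul_mem _ (Subgroup.mul_mem _ ihx hz) ihx'
    | inv x _ ih =>
      have e : x⁻¹ * x⁻¹ = (x * x)⁻¹ := by group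
      rw [e]
      exact Subgroup.inv_mem _ ih
  intro y
  exact hZ' _ (s3 y)

end Cfsg.Agent.Lib.Helper55.Sz2
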