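import Cfsg.Agent.Lib.Helper55.FS2

set_option autoImplicit false
open Cfsg
open scoped commutatorElement

namespace Cfsg.Agent.Lib.Helper55

universe u

variable {G : Type u} [Group G] {p : ℕ}

/-! ### Ambient form of `IsMinimalOver` -/

/-- Ambient form of `IsMinimalOver` for a subgroup `T` of the subgroup `E`. -/
def MinOv (T E : Subgroup G) : Prop :=
  T ≤ E ∧ (∀ N : Subgroup G, T ≤ N → N ≤ E → E ≤ Subgroup.normalizer (N : Set G) → N = E) ∧
    ∃ M : Subgroup G, T ≤ M ∧ M < E ∧ ∀ Y : Subgroup G, T ≤ Y → Y < E → Y ≤ M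

theorem cj_eq_of_le [Finite G] {g : G} {A : Subgroup G} (h : cj g A ≤ A) : cj g A = A :=
  Subgroup.eq_of_le_of_card_ge h
    (le_of_eq (Subgroup.card_map_of_injective (MulAut.conj g).injective).symm)

theorem mem_normalizer_of_cj_le [Finite G] {g : G} {A : Subgroup G} (h : cj g A ≤ A) :
    g ∈ Subgroup.normalizer (A : Set G) :=
  mem_normalizer_of_cj_eq (cj_eq_of_le h)

theorem minOv_of_isMinimalOver [Finite G] {E : Subgroup G} {T0 : Subgroup E}
    (h : Cfsg.IsMinimalOver T0) : MinOv (T0.map E.subtype) E := by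
  obtain ⟨hnc, M0, ⟨hM0, hTM0⟩, huniq⟩ := h
  refine ⟨Subgroup.map_subtype_le _, ?_, M0.map E.subtype, Subgroup.map_mono hTM0, ?_, ?_⟩
  · intro N hTN hNE hEN
    have hn : (N.subgroupOf E).Normal :=
      (Subgroup.normal_subgroupOf_iff_le_normalizer hNE).mpr hEN
    have h1 : Subgroup.normalClosure (T0 : Set E) ≤ N.subgroupOf E := by
      apply Subgroup.normalClosure_le_normal
      intro x hx
      exact Subgroup.mem_subgroupOf.mpr (hTN ⟨x, hx, rfl⟩)
    rw [hnc] at h1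
    apply le_antisymm hNE
    intro x hx
    exact Subgroup.mem_subgroupOf.mp (h1 (Subgroup.mem_top ⟨x, hx⟩))
  · refine lt_of_le_of_ne (Subgroup.map_subtype_le _) ?_
    intro e
    apply hM0.1
    rw [eq_top_iff]
    intro x _
    have hx : (x : G) ∈ M0.map E.subtype := by rw [e]; exact x.2
    obtain ⟨y, hy, hyx⟩ := hx
    have e2 : y = x := Subtype.ext hyx
    exact e2 ▸ hy
  · intro Y hTY hYE
    have hne : Y.subgroupOf E ≠ ⊤ := by
      intro e
      rw [Subgroup.subgroupOf_eq_top] at e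
      exact hYE.ne (le_antisymm hYE.le e)
    obtain ⟨M', hM', hYM'⟩ := (eq_top_or_exists_le_coatom (Y.subgroupOf E)).resolve_left hne
    have hT0Y : T0 ≤ Y.subgroupOf E := fun x hx => Subgroup.mem_subgroupOf.mpr (hTY ⟨x, hx, rfl⟩)
    have e := huniq M' ⟨hM', hT0Y.trans hYM'⟩
    subst e
    intro y hy
    exact ⟨⟨y, hYE.le hy⟩, hYM' (Subgroup.mem_subgroupOf.mpr hy), rfl⟩

theorem isMinimalOver_of_top [Finite G] {T : Subgroup G}
    (hnc : ∀ N : Subgroup G, N.Normal → T ≤ N → N = ⊤)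
    (hM : ∃ M : Subgroup G, T ≤ M ∧ M ≠ ⊤ ∧ ∀ Y : Subgroup G, T ≤ Y → Y ≠ ⊤ → Y ≤ M) :
    Cfsg.IsMinimalOver T := by
  obtain ⟨M, hTM, hMne, hM⟩ := hM
  refine ⟨hnc _ Subgroup.normalClosure_normal Subgroup.le_normalClosure, ?_⟩
  obtain ⟨M', hM', hMM'⟩ := (eq_top_or_exists_le_coatom M).resolve_left hMne
  have e : M' = M := le_antisymm (hM M' (hTM.trans hMM') hM'.1) hMM'
  subst e
  refine ⟨M', ⟨hM', hTM⟩, ?_⟩
  rintro M2 ⟨hM2, hTM2⟩
  have h1 : M2 ≤ M' := hM M2 hTM2 hM2.1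
  rcases eq_or_lt_of_le h1 with h2 | h2
  · exact h2
  · exact absurd (hM2.2 _ h2) hMne

/-- The hat version: passing from `E` to `E P` for a normal subgroup `P ≤ T`. -/
theorem minOv_hat [Finite G] {P E T : Subgroup G} [hPn : P.Normal] (hPT : P ≤ T)
    (h : MinOv (E ⊓ T) E) :
    ∃ M : Subgroup G, M ≤ E ⊔ P ∧ (E ⊔ P) ⊓ T ≤ M ∧ M ≠ E ⊔ P ∧
      (∀ Y : Subgroup G, (E ⊔ P) ⊓ T ≤ Y → Y ≤ E ⊔ P → Y ≠ E ⊔ P → Y ≤ M) ∧
      (∀ x ∈ E ⊔ P, cj x ((E ⊔ P) ⊓ T) ≤ M → x ∈ M) := by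
  obtain ⟨-, hnc, M, hTM, hME, hM⟩ := h
  have hEPT : E ⊓ P ≤ M := fun x hx => hTM ⟨hx.1, hPT hx.2⟩
  have hinfE : (M ⊔ P) ⊓ E ≤ M := by
    rintro x ⟨hx1, hx2⟩
    obtain ⟨m, hm, u, hu, rfl⟩ := Subgroup.mem_sup_of_normal_right.mp hx1
    have hu' : u ∈ E := by
      have : u = m⁻¹ * (m * u) := by group
      rw [this]
      exact E.mul_mem (E.inv_mem (hME.le hm)) hx2
    exact M.mul_mem hm (hEPT ⟨hu', hu⟩)
  have hST : (E ⊔ P) ⊓ T ≤ M ⊔ P := by
    rintro x ⟨hx1, hx2⟩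
    obtain ⟨e, he, u, hu, rfl⟩ := Subgroup.mem_sup_of_normal_right.mp hx1
    have he' : e ∈ T := by
      have : e = (e * u) * u⁻¹ := by group
      rw [this]
      exact T.mul_mem hx2 (T.inv_mem (hPT hu))
    exact Subgroup.mul_mem_sup (hTM ⟨he, he'⟩) hu
  have hne : M ⊔ P ≠ E ⊔ P := by
    intro e
    have : E ≤ M := fun x hx => hinfE ⟨e ▸ (Subgroup.mem_sup_left hx), hx⟩
    exact hME.ne (le_antisymm hME.le this)
  have htop : ∀ Y : Subgroup G, (E ⊔ P) ⊓ T ≤ Y → Y ≤ E ⊔ P → Y ≠ E ⊔ P → Y ≤ M ⊔ P := by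
    intro Y hSY hYE hYne
    have hPY : P ≤ Y := fun x hx => hSY ⟨Subgroup.mem_sup_right hx, hPT hx⟩
    have h1 : Y ⊓ E ≤ M := by
      apply hM
      · exact fun x hx => ⟨hSY ⟨Subgroup.mem_sup_left hx.1, hx.2⟩, hx.1⟩
      · refine lt_of_le_of_ne inf_le_right ?_
        intro e
        exact hYne (le_antisymm hYE (sup_le (e ▸ inf_le_left) hPY))
    intro y hy
    obtain ⟨e, he, u, hu, rfl⟩ := Subgroup.mem_sup_of_normal_right.mp (hYE hy)
    have he' : e ∈ Y := by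
      have : e = (e * u) * u⁻¹ := by group
      rw [this]
      exact Y.mul_mem hy (Y.inv_mem (hPY hu))
    exact Subgroup.mul_mem_sup (h1 ⟨he', he⟩) hu
  refine ⟨M ⊔ P, sup_le_sup_right hME.le P, hST, hne, htop, ?_⟩
  intro x hx hxS
  -- `cj x⁻¹ (M ⊔ P) ≤ M ⊔ P`
  have hcjE : ∀ y ∈ E ⊔ P, cj y (E ⊔ P) = E ⊔ P := fun y hy => cj_eq_self_of_mem hy
  have h1 : cj x⁻¹ (M ⊔ P) ≤ M ⊔ P := by
    apply htop
    · have := cj_mono (g := x⁻¹) hxS
      rwa [cj_inv_cj] at this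
    · have := cj_mono (g := x⁻¹) (sup_le_sup_right hME.le P)
      rwa [hcjE _ (Subgroup.inv_mem _ hx)] at this
    · intro e
      apply hne
      have := congrArg (cj x) e
      rwa [cj_cj_inv, hcjE _ hx] at this
  have hxn : x ∈ Subgroup.normalizer ((M ⊔ P : Subgroup G) : Set G) := by
    have := mem_normalizer_of_cj_le h1
    simpa using Subgroup.inv_mem _ this
  by_cases hN : (E ⊔ P) ⊓ Subgroup.normalizer ((M ⊔ P : Subgroup G) : Set G) = E ⊔ P
  · exfalso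
    have hEn : E ≤ Subgroup.normalizer (M : Set G) := by
      apply le_normalizer_of_conj_mem
      intro l hl m hm
      apply hinfE
      have hl' : l ∈ Subgroup.normalizer ((M ⊔ P : Subgroup G) : Set G) := by
        have : l ∈ (E ⊔ P) ⊓ Subgroup.normalizer ((M ⊔ P : Subgroup G) : Set G) := by
          rw [hN]; exact Subgroup.mem_sup_left hl
        exact this.2
      exact ⟨(Subgroup.mem_normalizer_iff.mp hl' m).mp (Subgroup.mem_sup_left hm),
        E.mul_mem (E.mul_mem hl (hME.le hm)) (E.inv_mem hl)⟩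
    exact hME.ne (hnc M hTM hME.le hEn)
  · have h2 := htop _ (le_inf inf_le_left (hST.trans Subgroup.le_normalizer)) inf_le_left hN
    exact h2 ⟨hx, hxn⟩

/-- `p`-minimality from a transitive family of `p`-minimal subgroups (ambient form). -/
theorem minimalOver_of_family [Finite G] [Fact p.Prime] (𝒦 : Set (Subgroup G)) (hne : 𝒦.Nonempty)
    (hinv : ∀ h : G, ∀ E ∈ 𝒦, cj h E ∈ 𝒦)
    (htr : ∀ E ∈ 𝒦, ∀ K ∈ 𝒦, ∃ h : G, K = cj h E)
    (hres : Cfsg.pResidual p G ≤ sSup 𝒦)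
    (hnorm : ∀ E ∈ 𝒦, sSup 𝒦 ⊔ Cfsg.pCore p G ≤
      Subgroup.normalizer ((E ⊔ Cfsg.pCore p G : Subgroup G) : Set G))
    (hmin : ∀ E ∈ 𝒦, ∀ T : Subgroup G, SylIn p T E → MinOv T E)
    (T : Sylow p G) : Cfsg.IsMinimalOver (T : Subgroup G) := by
  classical
  obtain ⟨P, hP⟩ : ∃ P : Subgroup G, P = Cfsg.pCore p G := ⟨_, rfl⟩
  obtain ⟨R, hR⟩ : ∃ R : Subgroup G, R = sSup 𝒦 := ⟨_, rfl⟩
  rw [← hP, ← hR] at hnorm
  have hPn : P.Normal := hP ▸ pCore_normal
  have hPp : IsPGroup p P := hP ▸ pCore_isPGroup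
  have hPT : P ≤ T := hP ▸ pCore_le_sylow T
  have hER : ∀ E ∈ 𝒦, E ≤ R := fun E hE => hR ▸ le_sSup hE
  have hRn : ∀ h : G, cj h R ≤ R := by
    intro h
    rw [hR, Subgroup.map_le_iff_le_comap]
    apply sSup_le
    intro E hE
    rw [← Subgroup.map_le_iff_le_comap]
    exact le_sSup (hinv h E hE)
  have hRhn : ∀ h : G, cj h (R ⊔ P) = R ⊔ P := by
    intro h
    apply cj_eq_of_le
    rw [show cj h (R ⊔ P) = cj h R ⊔ cj h P from Subgroup.map_sup _ _ _]
    exact sup_le_sup (hRn h) (le_of_eq (cj_eq_self_of_mem_normalizer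
      (by rw [Subgroup.normalizer_eq_top]; trivial)))
  have hdec : ∀ h : G, ∃ r ∈ R, r⁻¹ * h ∈ (T : Subgroup G) := by
    intro h
    obtain ⟨r, hr, hrt⟩ := sylow_exists_residual_mul T h
    exact ⟨r, hR ▸ hres hr, hrt⟩
  have hsylE : ∀ E ∈ 𝒦, SylIn p ((E ⊔ P) ⊓ T) (E ⊔ P) ∧ SylIn p (E ⊓ T) E := by
    intro E hE
    have hEhR : E ⊔ P ≤ R ⊔ P := sup_le_sup_right (hER E hE) P
    have h1 : SylIn p ((R ⊔ P) ⊓ T) (R ⊔ P) :=
      (sylIn_of_sylow T le_top).inf_normalized le_top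
        (fun g _ => mem_normalizer_of_cj_eq (hRhn g))
    have h2 : SylIn p ((E ⊔ P) ⊓ ((R ⊔ P) ⊓ T)) (E ⊔ P) := h1.inf_normalized hEhR (hnorm E hE)
    have e : (E ⊔ P) ⊓ ((R ⊔ P) ⊓ T) = (E ⊔ P) ⊓ T := by
      rw [← inf_assoc, inf_of_le_left hEhR]
    rw [e] at h2
    refine ⟨h2, ?_⟩
    obtain ⟨T1, hT1⟩ := exists_sylIn (p := p) E
    have h3 : IsPGroup p (T1 ⊔ P : Subgroup G) := IsPGroup.to_sup_of_normal_right hT1.isPGroup hPp
    obtain ⟨x, hx, hle⟩ := h2.exists_le_cj (sup_le_sup_right hT1.le P) h3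
    obtain ⟨e, he, u, hu, rfl⟩ := Subgroup.mem_sup_of_normal_right.mp hx
    have h4 : T1 ≤ cj e (T : Subgroup G) := by
      have := (le_sup_left.trans hle).trans (cj_mono (g := e * u) inf_le_right)
      rwa [cj_mul, cj_eq_self_of_mem (hPT hu)] at this
    have h5 : cj e⁻¹ T1 ≤ E ⊓ T := by
      apply le_inf
      · have := cj_mono (g := e⁻¹) hT1.le
        rwa [cj_eq_self_of_mem (E.inv_mem he)] at this
      · have := cj_mono (g := e⁻¹) h4
        rwa [cj_inv_cj] at this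
    have h6 : SylIn p (cj e⁻¹ T1) E := by
      have := hT1.cjOf e⁻¹
      rwa [cj_eq_self_of_mem (E.inv_mem he)] at this
    have h7 : E ⊓ T ≤ cj e⁻¹ T1 := h6.le_of_le h5 inf_le_left (T.isPGroup'.to_le inf_le_right)
    have e2 : cj e⁻¹ T1 = E ⊓ T := le_antisymm h5 h7
    rw [← e2]
    exact h6
  obtain ⟨E0, hE0⟩ := hne
  obtain ⟨hS0, hSE0⟩ := hsylE E0 hE0
  obtain ⟨M, hMle, hSM, hMne, htop, hself⟩ := minOv_hat hPT (hmin E0 hE0 _ hSE0)
  have hC1 : ∀ Y : Subgroup G, (T : Subgroup G) ≤ Y → Y ≠ ⊤ →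
      Y ⊓ (R ⊔ P) ≤ Subgroup.normalizer (M : Set G) := by
    intro Y hTY hYne
    have hE0Y : ¬ E0 ≤ Y := by
      intro hle
      apply hYne
      have hEhY : E0 ⊔ P ≤ Y := sup_le hle (hPT.trans hTY)
      have hRY : R ≤ Y := by
        rw [hR]
        apply sSup_le
        intro K hK
        obtain ⟨h, rfl⟩ := htr E0 hE0 K hK
        obtain ⟨r, hr, hrt⟩ := hdec h⁻¹
        have ht : h * r ∈ (T : Subgroup G) := by
          have := Subgroup.inv_mem _ hrt
          simpa [mul_inv_rev] using this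
        have e : cj h E0 = cj (h * r) (cj r⁻¹ E0) := by
          rw [← cj_mul]; congr 1; group
        rw [e]
        have h1 : cj r⁻¹ E0 ≤ E0 ⊔ P := by
          have := cj_mono (g := r⁻¹) (le_sup_left : E0 ≤ E0 ⊔ P)
          rwa [cj_eq_self_of_mem_normalizer
            (hnorm E0 hE0 (Subgroup.mem_sup_left (Subgroup.inv_mem _ hr)))] at this
        have := cj_mono (g := h * r) (h1.trans hEhY)
        rwa [cj_eq_self_of_mem (hTY ht)] at this
      rw [eq_top_iff]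
      intro g _
      obtain ⟨r, hr, hrt⟩ := hdec g
      have : g = r * (r⁻¹ * g) := by group
      rw [this]
      exact Y.mul_mem (hRY hr) (hTY hrt)
    have hYM : Y ⊓ (E0 ⊔ P) ≤ M := by
      apply htop
      · exact le_inf (inf_le_right.trans hTY) inf_le_left
      · exact inf_le_right
      · intro e
        apply hE0Y
        intro x hx
        have : x ∈ Y ⊓ (E0 ⊔ P) := by rw [e]; exact Subgroup.mem_sup_left hx
        exact this.1
    rintro x ⟨hxY, hxR⟩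
    have hxE : cj x (E0 ⊔ P) = E0 ⊔ P := cj_eq_self_of_mem_normalizer (hnorm E0 hE0 hxR)
    have h1 : cj x ((E0 ⊔ P) ⊓ T) ≤ M := by
      refine le_trans ?_ hYM
      apply le_inf
      · have := cj_mono (g := x) ((inf_le_right : (E0 ⊔ P) ⊓ T ≤ T).trans hTY)
        rwa [cj_eq_self_of_mem hxY] at this
      · have := cj_mono (g := x) (inf_le_left : (E0 ⊔ P) ⊓ (T : Subgroup G) ≤ E0 ⊔ P)
        rwa [hxE] at this
    have h2 : SylIn p (cj x ((E0 ⊔ P) ⊓ T)) (E0 ⊔ P) := by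
      have := hS0.cjOf x
      rwa [hxE] at this
    obtain ⟨e, he, hee⟩ := hS0.conj h2
    have heM : e ∈ M := hself e he (hee ▸ h1)
    have hn1 : cj (e⁻¹ * x) ((E0 ⊔ P) ⊓ T) = (E0 ⊔ P) ⊓ T := by
      rw [cj_mul, hee, cj_inv_cj]
    have hnR : e⁻¹ * x ∈ R ⊔ P :=
      Subgroup.mul_mem _ (Subgroup.inv_mem _ (sup_le_sup_right (hER E0 hE0) P he)) hxR
    have hnE : cj (e⁻¹ * x) (E0 ⊔ P) = E0 ⊔ P :=
      cj_eq_self_of_mem_normalizer (hnorm E0 hE0 hnR)
    have hnM : e⁻¹ * x ∈ Subgroup.normalizer (M : Set G) := by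
      apply mem_normalizer_of_cj_le
      apply htop
      · have := cj_mono (g := e⁻¹ * x) hSM
        rwa [hn1] at this
      · have := cj_mono (g := e⁻¹ * x) hMle
        rwa [hnE] at this
      · intro e2
        apply hMne
        have h3 := congrArg (cj (e⁻¹ * x)⁻¹) e2
        rw [cj_inv_cj] at h3
        rw [h3]
        have h4 := congrArg (cj (e⁻¹ * x)⁻¹) hnE
        rw [cj_inv_cj] at h4
        exact h4.symm
    have : x = e * (e⁻¹ * x) := by group
    rw [this]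
    exact Subgroup.mul_mem _ (Subgroup.le_normalizer heM) hnM
  apply isMinimalOver_of_top
  · intro N hN hTN
    have hEN : ∀ E ∈ 𝒦, E ≤ N := by
      intro E hE
      obtain ⟨-, hSE⟩ := hsylE E hE
      obtain ⟨-, hnc, -⟩ := hmin E hE _ hSE
      have h1 := hnc (N ⊓ E) (le_inf (inf_le_right.trans hTN) inf_le_left) inf_le_right
        (by
          apply le_normalizer_of_conj_mem
          intro l hl x hx
          exact ⟨hN.conj_mem x hx.1 l, E.mul_mem (E.mul_mem hl hx.2) (E.inv_mem hl)⟩)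
      intro x hx
      have : x ∈ N ⊓ E := by rw [h1]; exact hx
      exact this.1
    rw [eq_top_iff]
    intro g _
    obtain ⟨r, hr, hrt⟩ := hdec g
    have : g = r * (r⁻¹ * g) := by group
    rw [this]
    have hRN : R ≤ N := by rw [hR]; exact sSup_le hEN
    exact N.mul_mem (hRN hr) (hTN hrt)
  · have hTne : (T : Subgroup G) ≠ ⊤ := by
      intro e
      obtain ⟨-, -, M1, hTM1, hM1, -⟩ := hmin E0 hE0 _ hSE0
      have : E0 ≤ M1 := fun x hx => hTM1 ⟨hx, by rw [e]; trivial⟩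
      exact hM1.ne (le_antisymm hM1.le this)
    obtain ⟨X, hX⟩ : ∃ X : Subgroup G, X = ⨆ Y : {Y : Subgroup G // (T : Subgroup G) ≤ Y ∧ Y ≠ ⊤},
        (Y : Subgroup G) ⊓ (R ⊔ P) := ⟨_, rfl⟩
    have hleX : ∀ Y : Subgroup G, (T : Subgroup G) ≤ Y → Y ≠ ⊤ → Y ⊓ (R ⊔ P) ≤ X := by
      intro Y h1 h2
      rw [hX]
      exact le_iSup (fun Y : {Y : Subgroup G // (T : Subgroup G) ≤ Y ∧ Y ≠ ⊤} =>
        (Y : Subgroup G) ⊓ (R ⊔ P)) ⟨Y, h1, h2⟩
    have hXN : X ≤ Subgroup.normalizer (M : Set G) ⊓ (R ⊔ P) := by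
      rw [hX]
      exact iSup_le fun Y => le_inf (hC1 Y.1 Y.2.1 Y.2.2) inf_le_right
    have hTX : (T : Subgroup G) ≤ Subgroup.normalizer (X : Set G) := by
      intro t ht
      apply mem_normalizer_of_cj_le
      rw [hX, show cj t (⨆ Y : {Y : Subgroup G // (T : Subgroup G) ≤ Y ∧ Y ≠ ⊤},
          (Y : Subgroup G) ⊓ (R ⊔ P)) = ⨆ Y : {Y : Subgroup G // (T : Subgroup G) ≤ Y ∧ Y ≠ ⊤},
          cj t ((Y : Subgroup G) ⊓ (R ⊔ P)) from Subgroup.map_iSup _ _]
      apply iSup_le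
      intro Y
      rw [← hX]
      refine le_trans ?_ (hleX Y.1 Y.2.1 Y.2.2)
      apply le_inf
      · have := cj_mono (g := t) (inf_le_left : (Y : Subgroup G) ⊓ (R ⊔ P) ≤ Y)
        rwa [cj_eq_self_of_mem (Y.2.1 ht)] at this
      · have := cj_mono (g := t) (inf_le_right : (Y : Subgroup G) ⊓ (R ⊔ P) ≤ R ⊔ P)
        rwa [hRhn t] at this
    refine ⟨X ⊔ T, le_sup_right, ?_, ?_⟩
    · intro e
      have hEX : E0 ⊔ P ≤ X := by
        intro y hy
        have hy' : y ∈ ((X ⊔ (T : Subgroup G) : Subgroup G) : Set G) := by rw [e]; trivial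
        rw [Subgroup.coe_mul_of_right_le_normalizer_left _ _ hTX] at hy'
        obtain ⟨x, hx, t, ht, rfl⟩ := Set.mem_mul.mp hy'
        have htR : t ∈ R ⊔ P := by
          have : t = x⁻¹ * (x * t) := by group
          rw [this]
          exact Subgroup.mul_mem _ (Subgroup.inv_mem _ (hXN hx).2)
            (sup_le_sup_right (hER E0 hE0) P hy)
        exact X.mul_mem hx (hleX T le_rfl hTne ⟨ht, htR⟩)
      apply hMne
      apply le_antisymm hMle
      intro y hy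
      apply hself y hy
      have := cj_mono (g := y) hSM
      rwa [cj_eq_self_of_mem_normalizer ((hXN (hEX hy)).1)] at this
    · intro Y hTY hYne y hy
      obtain ⟨r, hr, hrt⟩ := hdec y
      have : y = r * (r⁻¹ * y) := by group
      rw [this]
      refine Subgroup.mul_mem_sup ?_ hrt
      have hrY : r ∈ Y := by
        have : r = y * (r⁻¹ * y)⁻¹ := by group
        rw [this]
        exact Y.mul_mem hy (Y.inv_mem (hTY hrt))
      exact hleX Y hTY hYne ⟨hrY, Subgroup.mem_sup_left hr⟩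

/-! ### Strongly `p`-irreducible subgroups -/

/-- Ambient consequences of strong `p`-irreducibility. -/
theorem spi_ambient [Finite G] [Fact p.Prime] {E : Subgroup G}
    (h : Cfsg.IsStronglyPIrreducible p E) :
    ¬ PClos p E ∧ ∀ N : Subgroup G, N ≤ E → E ≤ Subgroup.normalizer (N : Set G) →
      (Cfsg.pResidual p E).map E.subtype ≤ N ∨ ⁅N, E⁆ ≤ Cfsg.pCoreOf p E := by
  obtain ⟨h1, h2⟩ := h
  refine ⟨(isPClosed_subgroup_iff E).not.mp h1, ?_⟩
  intro N hNE hEN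
  by_cases hc : ⁅N, E⁆ ≤ Cfsg.pCoreOf p E
  · exact Or.inr hc
  · left
    have hn : (N.subgroupOf E).Normal :=
      (Subgroup.normal_subgroupOf_iff_le_normalizer hNE).mpr hEN
    have h3 := h2 (N.subgroupOf E) hn (by
      intro hle
      apply hc
      have e1 : (N.subgroupOf E).map E.subtype = N := by
        rw [Subgroup.subgroupOf_map_subtype, inf_of_le_left hNE]
      have e2 : (⊤ : Subgroup E).map E.subtype = E := by
        rw [← MonoidHom.range_eq_map, Subgroup.range_subtype]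
      have h4 := Subgroup.map_mono (f := E.subtype) hle
      rw [Subgroup.map_commutator, e1, e2] at h4
      exact h4)
    have h5 := Subgroup.map_mono (f := E.subtype) h3
    rw [Subgroup.subgroupOf_map_subtype] at h5
    exact h5.trans inf_le_left

theorem spi_residual_le_commutator [Finite G] [Fact p.Prime] {E : Subgroup G}
    (h : Cfsg.IsStronglyPIrreducible p E) : (Cfsg.pResidual p E).map E.subtype ≤ ⁅E, E⁆ := by
  obtain ⟨hnc, hN⟩ := spi_ambient h
  have hcE : ⁅E, E⁆ ≤ E := Subgroup.commutator_le.mpr fun a ha b hb =>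
    E.mul_mem (E.mul_mem (E.mul_mem ha hb) (E.inv_mem ha)) (E.inv_mem hb)
  rcases hN ⁅E, E⁆ hcE (le_normalizer_commutator_self Subgroup.le_normalizer) with h1 | h1
  · exact h1
  · exfalso
    apply hnc
    obtain ⟨T1, hT1⟩ := exists_sylIn (p := p) E
    have hDT : Cfsg.pCoreOf p E ≤ T1 := hT1.pCoreOf_le
    have hBn : T1 ⊔ ⁅E, E⁆ ≤ Subgroup.normalizer (T1 : Set G) := by
      refine sup_le Subgroup.le_normalizer ?_
      apply le_normalizer_of_conj_mem
      intro c hc t ht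
      have e : c * t * c⁻¹ = ⁅c, t⁆ * t := by simp [commutatorElement_def]
      rw [e]
      exact T1.mul_mem (hDT (h1 (Subgroup.commutator_mem_commutator hc (hT1.le ht)))) ht
    have hBE : T1 ⊔ ⁅E, E⁆ ≤ E := sup_le hT1.le hcE
    have hEB : E ≤ Subgroup.normalizer ((T1 ⊔ ⁅E, E⁆ : Subgroup G) : Set G) := by
      apply le_normalizer_of_conj_mem
      intro e he b hb
      have e1 : e * b * e⁻¹ = ⁅e, b⁆ * b := by simp [commutatorElement_def]
      rw [e1]
      exact Subgroup.mul_mem _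
        (Subgroup.mem_sup_right (Subgroup.commutator_mem_commutator he (hBE hb))) hb
    have h2 : T1 ≤ Cfsg.pCoreOf p (T1 ⊔ ⁅E, E⁆) := le_pCoreOf le_sup_left hBn hT1.isPGroup
    have h3 : Cfsg.pCoreOf p (T1 ⊔ ⁅E, E⁆) ≤ Cfsg.pCoreOf p E :=
      le_pCoreOf ((pCoreOf_le _).trans hBE) (hEB.trans (normalizer_le_normalizer_pCoreOf _))
        (pCoreOf_isPGroup _)
    have e : T1 = Cfsg.pCoreOf p E := le_antisymm (h2.trans h3) hDT
    exact hT1.pClos (e ▸ le_normalizer_pCoreOf E)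

/-- `p'`-elements of a group generated by subnormal subgroups that are `p`-groups modulo `N`. -/
theorem coprime_mem_of_family [Finite G] [Fact p.Prime] {N : Subgroup G} [hN : N.Normal]
    (𝒮 : Set (Subgroup G))
    (h : ∀ S ∈ 𝒮, S.IsSubnormal ∧ ∀ s ∈ S, ∃ k : ℕ, s ^ p ^ k ∈ N) {x : G} (hx : x ∈ sSup 𝒮)
    (hc : (orderOf x).Coprime p) : x ∈ N := by
  have h1 : sSup 𝒮 ≤ (Cfsg.pCore p (G ⧸ N)).comap (QuotientGroup.mk' N) := by
    apply sSup_le
    intro S hS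
    rw [← Subgroup.map_le_iff_le_comap]
    obtain ⟨hsub, hpow⟩ := h S hS
    apply subnormal_pgroup_le_pCore (hsub.map (QuotientGroup.mk'_surjective N))
    rintro ⟨_, s, hs, rfl⟩
    obtain ⟨k, hk⟩ := hpow s hs
    refine ⟨k, Subtype.ext ?_⟩
    show (QuotientGroup.mk' N s) ^ p ^ k = 1
    rw [← map_pow]
    exact (QuotientGroup.eq_one_iff _).mpr hk
  have h2 : QuotientGroup.mk' N x ∈ Cfsg.pCore p (G ⧸ N) := h1 hx
  obtain ⟨k, hk⟩ := (pCore_isPGroup (G := G ⧸ N) (p := p)) ⟨_, h2⟩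
  have h3 : x ^ p ^ k ∈ N := by
    have h4 : (QuotientGroup.mk' N x) ^ p ^ k = 1 := congrArg Subtype.val hk
    rw [← map_pow] at h4
    exact (QuotientGroup.eq_one_iff _).mp h4
  exact mem_of_pow_mem_of_coprime hc h3

/-- The commutator pattern: an element acting on `E` (with `O^p(E) ≤ E'`) into a subnormal
subgroup `I` that is abelian and centralized by `E` modulo `O_p(G)` centralizes `E` modulo
`O_p(G)`. -/
theorem comm_mem_pCore_of_residual_le [Finite G] [Fact p.Prime] {P E I : Subgroup G}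
    (hP : P = Cfsg.pCore p G) {n : G}
    (hO : (Cfsg.pResidual p E).map E.subtype ≤ ⁅E, E⁆)
    (hPI : P ≤ I) (hIsub : I.IsSubnormal)
    (hnI : ∀ e ∈ E, ⁅n, e⁆ ∈ I)
    (hIE : ∀ a ∈ I, ∀ e ∈ E, ⁅a, e⁆ ∈ P)
    (hII : ∀ a ∈ I, ∀ b ∈ I, ⁅a, b⁆ ∈ P) :
    ∀ e ∈ E, ⁅n, e⁆ ∈ P := by
  have hPn : P.Normal := hP ▸ pCore_normal
  have hPp : IsPGroup p P := hP ▸ pCore_isPGroup
  have hsyl : ∀ a ∈ I, (∃ k : ℕ, a ^ p ^ k ∈ P) → a ∈ P := by
    rintro a ha ⟨k, hk⟩
    have hpa : PEl p a := (pel_of_mem hPp hk).pow_mul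
    have hB : IsPGroup p (P ⊔ Subgroup.zpowers a : Subgroup G) :=
      IsPGroup.to_sup_of_normal_left hPp hpa.isPGroup_zpowers
    have hBI : P ⊔ Subgroup.zpowers a ≤ I := sup_le hPI ((Subgroup.zpowers_le).mpr ha)
    have hIB : I ≤ Subgroup.normalizer ((P ⊔ Subgroup.zpowers a : Subgroup G) : Set G) := by
      apply le_normalizer_of_conj_mem
      intro i hi b hb
      have e : i * b * i⁻¹ = ⁅i, b⁆ * b := by simp [commutatorElement_def]
      rw [e]
      exact Subgroup.mul_mem _ (Subgroup.mem_sup_left (hII i hi b (hBI hb))) hb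
    have hBsub : (P ⊔ Subgroup.zpowers a : Subgroup G).IsSubnormal :=
      Subgroup.IsSubnormal.step _ I hBI hIsub
        ((Subgroup.normal_subgroupOf_iff_le_normalizer hBI).mpr hIB)
    have h1 := subnormal_pgroup_le_pCore hBsub hB
    rw [← hP] at h1
    exact h1 (Subgroup.mem_sup_right (Subgroup.mem_zpowers a))
  have hcomm1 : ∀ e ∈ E, ∀ e' ∈ E,
      Commute (QuotientGroup.mk' P ⁅n, e⁆) (QuotientGroup.mk' P e') := by
    intro e he e' he'
    have h1 : QuotientGroup.mk' P ⁅⁅n, e⁆, e'⁆ = 1 :=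
      (QuotientGroup.eq_one_iff _).mpr (hIE _ (hnI e he) e' he')
    rw [map_commutatorElement, commutatorElement_eq_one_iff_commute] at h1
    exact h1
  have hcomm2 : ∀ e ∈ E, ∀ e' ∈ E,
      Commute (QuotientGroup.mk' P ⁅n, e⁆) (QuotientGroup.mk' P ⁅n, e'⁆) := by
    intro e he e' he'
    have h1 : QuotientGroup.mk' P ⁅⁅n, e⁆, ⁅n, e'⁆⁆ = 1 :=
      (QuotientGroup.eq_one_iff _).mpr (hII _ (hnI e he) _ (hnI e' he'))
    rw [map_commutatorElement, commutatorElement_eq_one_iff_commute] at h1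
    exact h1
  let ψ : E →* G ⧸ P := MonoidHom.mk' (fun e => QuotientGroup.mk' P ⁅n, (e : G)⁆) (by
    intro a b
    have e1 : ⁅n, (a : G) * b⁆ = ⁅n, (a : G)⁆ * ((a : G) * ⁅n, (b : G)⁆ * (a : G)⁻¹) := by
      simp only [commutatorElement_def]; group
    show QuotientGroup.mk' P ⁅n, ((a * b : E) : G)⁆ = _
    rw [Subgroup.coe_mul, e1, map_mul, map_mul, map_mul, map_inv]
    have h2 := hcomm1 b b.2 a a.2
    rw [← h2.eq, mul_inv_cancel_right])
  have hψ : ∀ e : E, ψ e = QuotientGroup.mk' P ⁅n, (e : G)⁆ := fun _ => rfl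
  have hker : commutator E ≤ ψ.ker := by
    rw [commutator_def, Subgroup.commutator_le]
    intro g1 _ g2 _
    rw [MonoidHom.mem_ker, map_commutatorElement, commutatorElement_eq_one_iff_commute, hψ, hψ]
    exact hcomm2 g1 g1.2 g2 g2.2
  intro e he
  obtain ⟨k, hk⟩ := exists_pow_mem_pResidual (p := p) (⟨e, he⟩ : E)
  have h1 : ((⟨e, he⟩ : E) ^ p ^ k : E) ∈ commutator E := by
    have h2 : (((⟨e, he⟩ : E) ^ p ^ k : E) : G) ∈ ⁅E, E⁆ := hO ⟨_, hk, rfl⟩
    rw [← map_subtype_commutator_top] at h2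
    obtain ⟨y, hy, hye⟩ := h2
    have e2 : y = (⟨e, he⟩ : E) ^ p ^ k := Subtype.ext hye
    exact e2 ▸ hy
  have h3 : ψ (⟨e, he⟩ : E) ^ p ^ k = 1 := by
    rw [← map_pow]
    exact hker h1
  apply hsyl _ (hnI e he)
  refine ⟨k, ?_⟩
  rw [hψ, ← map_pow] at h3
  exact (QuotientGroup.eq_one_iff _).mp h3

/-- Structure of a subgroup `P ≤ I ≤ E P` with `[I ∩ E, E] ≤ P`. -/
theorem comm_struct {P E I : Subgroup G} [hPn : P.Normal] (hPI : P ≤ I) (hIE : I ≤ E ⊔ P)
    (hc : ⁅I ⊓ E, E⁆ ≤ P) :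
    (∀ a ∈ I, ∀ e ∈ E, ⁅a, e⁆ ∈ P) ∧ (∀ a ∈ I, ∀ b ∈ I, ⁅a, b⁆ ∈ P) := by
  have h1 : ∀ a ∈ I, ∀ e ∈ E, ⁅a, e⁆ ∈ P := by
    intro a ha e he
    obtain ⟨e', he', u, hu, rfl⟩ := Subgroup.mem_sup_of_normal_right.mp (hIE ha)
    have he'I : e' ∈ I := by
      have : e' = (e' * u) * u⁻¹ := by group
      rw [this]
      exact I.mul_mem ha (I.inv_mem (hPI hu))
    have e1 : ⁅e' * u, e⁆ = e' * ⁅u, e⁆ * e'⁻¹ * ⁅e', e⁆ := by
      simp only [commutatorElement_def]; group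
    rw [e1]
    refine P.mul_mem (hPn.conj_mem _ ?_ _) (hc (Subgroup.commutator_mem_commutator ⟨he'I, he'⟩ he))
    have e2 : ⁅u, e⁆ = u * (e * u⁻¹ * e⁻¹) := by simp only [commutatorElement_def]; group
    rw [e2]
    exact P.mul_mem hu (hPn.conj_mem _ (P.inv_mem hu) _)
  refine ⟨h1, ?_⟩
  have hnP : ∀ g : G, g ∈ Subgroup.normalizer (P : Set G) := fun g => by
    rw [Subgroup.normalizer_eq_top]; trivial
  have h2 : E ⊔ P ≤ stabMod I P := by
    refine sup_le (fun e he => ⟨hnP e, fun b hb => h1 b hb e he⟩) (fun u hu => ⟨hnP u, fun b _ => ?_⟩)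
    have e2 : ⁅b, u⁆ = (b * u * b⁻¹) * u⁻¹ := by simp only [commutatorElement_def]
    rw [e2]
    exact P.mul_mem (hPn.conj_mem _ hu _) (P.inv_mem hu)
  intro a ha b hb
  exact (h2 (hIE hb)).2 a ha

/-- `p`-irreducibility from a transitive family of strongly `p`-irreducible subgroups. -/
theorem pIrreducible_of_family [Finite G] [Fact p.Prime] (𝒦 : Set (Subgroup G)) (hne : 𝒦.Nonempty)
    (hinv : ∀ h : G, ∀ E ∈ 𝒦, cj h E ∈ 𝒦)
    (htr : ∀ E ∈ 𝒦, ∀ K ∈ 𝒦, ∃ h : G, K = cj h E)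
    (hres : Cfsg.pResidual p G ≤ sSup 𝒦)
    (hnorm : ∀ E ∈ 𝒦, sSup 𝒦 ⊔ Cfsg.pCore p G ≤
      Subgroup.normalizer ((E ⊔ Cfsg.pCore p G : Subgroup G) : Set G))
    (hirr : ∀ E ∈ 𝒦, Cfsg.IsStronglyPIrreducible p E) :
    Cfsg.IsPIrreducible p G ∧ ∀ E ∈ 𝒦, ∀ K ∈ 𝒦,
      (Cfsg.pResidual p ↥(E ⊔ Cfsg.pCore p G)).map (E ⊔ Cfsg.pCore p G).subtype =
        (Cfsg.pResidual p ↥(K ⊔ Cfsg.pCore p G)).map (K ⊔ Cfsg.pCore p G).subtype ∨
      ⁅E, K⁆ ≤ Cfsg.pCore p G := by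
  classical
  obtain ⟨P, hP⟩ : ∃ P : Subgroup G, P = Cfsg.pCore p G := ⟨_, rfl⟩
  obtain ⟨R, hR⟩ : ∃ R : Subgroup G, R = sSup 𝒦 := ⟨_, rfl⟩
  rw [← hP, ← hR] at hnorm
  rw [← hP]
  have hPn : P.Normal := hP ▸ pCore_normal
  have hPp : IsPGroup p P := hP ▸ pCore_isPGroup
  have hnP : ∀ g : G, g ∈ Subgroup.normalizer (P : Set G) := fun g => by
    rw [Subgroup.normalizer_eq_top]; trivial
  have hER : ∀ E ∈ 𝒦, E ≤ R := fun E hE => hR ▸ le_sSup hE
  have hRle : ∀ X : Subgroup G, (∀ E ∈ 𝒦, E ≤ X) → R ≤ X := by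
    intro X h
    rw [hR]
    exact sSup_le h
  have hRn : ∀ h : G, cj h R ≤ R := by
    intro h
    rw [hR, Subgroup.map_le_iff_le_comap]
    apply sSup_le
    intro E hE
    rw [← Subgroup.map_le_iff_le_comap]
    exact le_sSup (hinv h E hE)
  have hRhn : ∀ h : G, cj h (R ⊔ P) = R ⊔ P := by
    intro h
    apply cj_eq_of_le
    rw [show cj h (R ⊔ P) = cj h R ⊔ cj h P from Subgroup.map_sup _ _ _]
    exact sup_le_sup (hRn h) (le_of_eq (cj_eq_self_of_mem_normalizer (hnP h)))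
  have hRhN : (R ⊔ P).Normal := by
    refine ⟨fun x hx g => ?_⟩
    have h1 : g * x * g⁻¹ ∈ cj g (R ⊔ P) := by
      rw [mem_cj]
      have e : g⁻¹ * (g * x * g⁻¹) * g = x := by group
      rw [e]; exact hx
    rwa [hRhn g] at h1
  have hEhR : ∀ E ∈ 𝒦, E ⊔ P ≤ R ⊔ P := fun E hE => sup_le_sup_right (hER E hE) P
  have hEsub : ∀ E ∈ 𝒦, (E ⊔ P).IsSubnormal := fun E hE =>
    Subgroup.IsSubnormal.step _ (R ⊔ P) (hEhR E hE) hRhN.isSubnormal
      ((Subgroup.normal_subgroupOf_iff_le_normalizer (hEhR E hE)).mpr (hnorm E hE))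
  have hcoreE : ∀ E ∈ 𝒦, Cfsg.pCoreOf p E ≤ P := by
    intro E hE
    have h1 : E ⊔ P ≤ Subgroup.normalizer ((Cfsg.pCoreOf p E ⊔ P : Subgroup G) : Set G) := by
      refine sup_le ?_ (le_sup_right.trans Subgroup.le_normalizer)
      apply le_normalizer_of_conj_mem
      intro e he x hx
      obtain ⟨d, hd, u, hu, rfl⟩ := Subgroup.mem_sup_of_normal_right.mp hx
      have e1 : e * (d * u) * e⁻¹ = (e * d * e⁻¹) * (e * u * e⁻¹) := by group
      rw [e1]
      exact Subgroup.mul_mem_sup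
        ((Subgroup.mem_normalizer_iff.mp (le_normalizer_pCoreOf E he) d).mp hd)
        (hPn.conj_mem _ hu _)
    have h2 : (Cfsg.pCoreOf p E ⊔ P : Subgroup G).IsSubnormal :=
      Subgroup.IsSubnormal.step _ (E ⊔ P) (sup_le_sup_right (pCoreOf_le E) P) (hEsub E hE)
        ((Subgroup.normal_subgroupOf_iff_le_normalizer
          (sup_le_sup_right (pCoreOf_le E) P)).mpr h1)
    have h3 := subnormal_pgroup_le_pCore h2
      (IsPGroup.to_sup_of_normal_right (pCoreOf_isPGroup E) hPp)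
    rw [← hP] at h3
    exact le_sup_left.trans h3
  have hpowmod : ∀ (e u : G) (k : ℕ), u ∈ P → ∃ c ∈ P, (e * u) ^ k = e ^ k * c :=
    fun e u k hu => pow_mul_mem_normalizer (hnP e) hu k
  have hEnormI : ∀ E ∈ 𝒦, ∀ I : Subgroup G, R ⊔ P ≤ Subgroup.normalizer (I : Set G) →
      E ≤ Subgroup.normalizer ((I ⊓ E : Subgroup G) : Set G) := by
    intro E hE I hI
    apply le_normalizer_of_conj_mem
    intro l hl x hx
    exact ⟨(Subgroup.mem_normalizer_iff.mp (hI (Subgroup.mem_sup_left (hER E hE hl))) x).mp hx.1,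
      E.mul_mem (E.mul_mem hl hx.2) (E.inv_mem hl)⟩
  constructor
  · obtain ⟨E0, hE0⟩ := hne
    refine ⟨?_, ?_⟩
    · rw [isPClosed_iff_top]
      intro h
      exact (spi_ambient (hirr E0 hE0)).1 (h.mono le_top)
    · intro N hN hNc
      by_contra hres'
      apply hNc
      rw [isPClosed_subgroup_iff]
      have hN' : (N ⊔ P).Normal := inferInstance
      have hN'res : ¬ Cfsg.pResidual p G ≤ N ⊔ P := fun h =>
        hres' (pResidual_le_of_le_sup N P hPp h)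
      have hEN' : ∀ E ∈ 𝒦, ¬ (Cfsg.pResidual p E).map E.subtype ≤ N ⊔ P := by
        intro E hE hle
        apply hN'res
        have hall : ∀ K ∈ 𝒦, ∀ s ∈ K, ∃ k : ℕ, s ^ p ^ k ∈ N ⊔ P := by
          intro K hK s hs
          obtain ⟨h, rfl⟩ := htr E hE K hK
          have hs' : h⁻¹ * s * h ∈ E := mem_cj.mp hs
          obtain ⟨k, hk⟩ := exists_pow_mem_pResidual (p := p) (⟨_, hs'⟩ : E)
          refine ⟨k, ?_⟩
          have h1 : (h⁻¹ * s * h) ^ p ^ k ∈ N ⊔ P := hle ⟨_, hk, rfl⟩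
          have h2 : s ^ p ^ k = h * (h⁻¹ * s * h) ^ p ^ k * h⁻¹ := by
            rw [← conj_pow]; congr 1; group
          rw [h2]
          exact hN'.conj_mem _ h1 h
        show Subgroup.closure _ ≤ N ⊔ P
        rw [Subgroup.closure_le]
        intro x hx
        have hxR : x ∈ sSup {S : Subgroup G | ∃ K ∈ 𝒦, S = K ⊔ P} := by
          have h1 : x ∈ R := hR ▸ hres (mem_pResidual hx)
          have h2 : R ≤ sSup {S : Subgroup G | ∃ K ∈ 𝒦, S = K ⊔ P} := by
            rw [hR]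
            apply sSup_le
            intro K hK
            exact le_sup_left.trans (le_sSup ⟨K, hK, rfl⟩)
          exact h2 h1
        refine coprime_mem_of_family {S : Subgroup G | ∃ K ∈ 𝒦, S = K ⊔ P} ?_ hxR hx
        rintro S ⟨K, hK, rfl⟩
        refine ⟨hEsub K hK, ?_⟩
        intro s hs
        obtain ⟨e, he, u, hu, rfl⟩ := Subgroup.mem_sup_of_normal_right.mp hs
        obtain ⟨k, hk⟩ := hall K hK e he
        obtain ⟨c, hc, e2⟩ := hpowmod e u (p ^ k) hu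
        exact ⟨k, e2 ▸ (N ⊔ P).mul_mem hk (Subgroup.mem_sup_right hc)⟩
      have hNE : ∀ E ∈ 𝒦, ⁅(N ⊔ P) ⊓ E, E⁆ ≤ P := by
        intro E hE
        rcases (spi_ambient (hirr E hE)).2 ((N ⊔ P) ⊓ E) inf_le_right
          (hEnormI E hE (N ⊔ P) (fun g _ => by rw [Subgroup.normalizer_eq_top]; trivial))
          with h1 | h1
        · exact absurd (h1.trans inf_le_left) (hEN' E hE)
        · exact h1.trans (hcoreE E hE)
      have hstr : ∀ E ∈ 𝒦, (∀ a ∈ (N ⊔ P) ⊓ (E ⊔ P), ∀ e ∈ E, ⁅a, e⁆ ∈ P) ∧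
          (∀ a ∈ (N ⊔ P) ⊓ (E ⊔ P), ∀ b ∈ (N ⊔ P) ⊓ (E ⊔ P), ⁅a, b⁆ ∈ P) := by
        intro E hE
        apply comm_struct (le_inf le_sup_right le_sup_right) inf_le_right
        refine le_trans (Subgroup.commutator_mono ?_ le_rfl) (hNE E hE)
        exact le_inf (inf_le_left.trans inf_le_left) inf_le_right
      have hN1E : ∀ n ∈ (N ⊔ P) ⊓ (R ⊔ P), ∀ E ∈ 𝒦, ∀ e ∈ E, ⁅n, e⁆ ∈ P := by
        intro n hn E hE
        apply comm_mem_pCore_of_residual_le hP (spi_residual_le_commutator (hirr E hE))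
          (I := (N ⊔ P) ⊓ (E ⊔ P)) (le_inf le_sup_right le_sup_right)
          (hN'.isSubnormal.inf (hEsub E hE)) ?_ (hstr E hE).1 (hstr E hE).2
        intro e he
        constructor
        · have e1 : ⁅n, e⁆ = n * (e * n⁻¹ * e⁻¹) := by simp only [commutatorElement_def]; group
          rw [e1]
          exact (N ⊔ P).mul_mem hn.1 (hN'.conj_mem _ ((N ⊔ P).inv_mem hn.1) _)
        · have e1 : ⁅n, e⁆ = (n * e * n⁻¹) * e⁻¹ := by simp only [commutatorElement_def]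
          rw [e1]
          exact (E ⊔ P).mul_mem
            ((Subgroup.mem_normalizer_iff.mp (hnorm E hE hn.2) e).mp (Subgroup.mem_sup_left he))
            ((E ⊔ P).inv_mem (Subgroup.mem_sup_left he))
      have hstabP : ∀ F : Subgroup G, P ≤ stabMod F P := by
        intro F u hu
        refine ⟨hnP u, fun b _ => ?_⟩
        have e2 : ⁅b, u⁆ = (b * u * b⁻¹) * u⁻¹ := by simp only [commutatorElement_def]
        rw [e2]
        exact P.mul_mem (hPn.conj_mem _ hu _) (P.inv_mem hu)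
      have hN1R : ∀ n ∈ (N ⊔ P) ⊓ (R ⊔ P), ∀ r ∈ R ⊔ P, ⁅n, r⁆ ∈ P := by
        have h1 : R ⊔ P ≤ stabMod ((N ⊔ P) ⊓ (R ⊔ P)) P := by
          refine sup_le (hRle _ ?_) (hstabP _)
          intro E hE e he
          exact ⟨hnP e, fun b hb => hN1E b hb E hE e he⟩
        intro n hn r hr
        exact (h1 hr).2 n hn
      obtain ⟨X, hX⟩ := exists_sylIn (p := p) (N ⊔ P)
      have hPX : P ≤ X := hX.le_of_normalized le_sup_right (fun x _ => hnP x) hPp
      have hXE : ∀ x ∈ X, ∀ E ∈ 𝒦, ∀ e ∈ E, ⁅x, e⁆ ∈ P := by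
        intro x hx E hE
        apply comm_mem_pCore_of_residual_le hP (spi_residual_le_commutator (hirr E hE))
          (I := (N ⊔ P) ⊓ (R ⊔ P)) (le_inf le_sup_right le_sup_right)
          (hN'.isSubnormal.inf hRhN.isSubnormal) ?_
          (fun a ha e he => hN1E a ha E hE e he) (fun a ha b hb => hN1R a ha b hb.2)
        intro e he
        constructor
        · have e1 : ⁅x, e⁆ = x * (e * x⁻¹ * e⁻¹) := by simp only [commutatorElement_def]; group
          rw [e1]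
          exact (N ⊔ P).mul_mem (hX.le hx) (hN'.conj_mem _ ((N ⊔ P).inv_mem (hX.le hx)) _)
        · have e1 : ⁅x, e⁆ = (x * e * x⁻¹) * e⁻¹ := by simp only [commutatorElement_def]
          rw [e1]
          have heR : e ∈ R ⊔ P := Subgroup.mem_sup_left (hER E hE he)
          exact (R ⊔ P).mul_mem (hRhN.conj_mem _ heR _) ((R ⊔ P).inv_mem heR)
      have hXR : ∀ x ∈ X, ∀ r ∈ R ⊔ P, ⁅x, r⁆ ∈ P := by
        have h1 : R ⊔ P ≤ stabMod X P := by
          refine sup_le ?_ (hstabP _)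
          rw [hR]
          apply sSup_le
          intro E hE e he
          exact ⟨hnP e, fun b hb => hXE b hb E hE e he⟩
        intro x hx r hr
        exact (h1 hr).2 x hx
      have hN1X : (N ⊔ P) ⊓ (R ⊔ P) ≤ Subgroup.normalizer (X : Set G) := by
        apply le_normalizer_of_conj_mem
        intro n hn x hx
        have e1 : n * x * n⁻¹ = (⁅x, n⁆)⁻¹ * x := by simp only [commutatorElement_def]; group
        rw [e1]
        exact X.mul_mem (X.inv_mem (hPX (hXR x hx n hn.2))) hx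
      have hN'X : N ⊔ P ≤ Subgroup.normalizer (X : Set G) := by
        intro l hl
        obtain ⟨r, hr, hrt⟩ := hX.exists_residual_mul l hl
        have hle : (Cfsg.pResidual p ↥(N ⊔ P)).map (N ⊔ P).subtype ≤ (N ⊔ P) ⊓ (R ⊔ P) := by
          rw [map_subtype_pResidual_le_iff]
          intro x hx hc
          exact ⟨hx, Subgroup.mem_sup_left (hR ▸ hres (mem_pResidual hc))⟩
        have e1 : l = r * (r⁻¹ * l) := by group
        rw [e1]
        exact Subgroup.mul_mem _ (hN1X (hle hr)) (Subgroup.le_normalizer hrt)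
      exact (hX.pClos hN'X).mono le_sup_left
  · intro E hE K hK
    have hcase : ∀ E ∈ 𝒦, ∀ K ∈ 𝒦, ⁅((E ⊔ P) ⊓ (K ⊔ P)) ⊓ E, E⁆ ≤ P →
        ∀ k ∈ K, ∀ e ∈ E, ⁅k, e⁆ ∈ P := by
      intro E hE K hK hc k hk
      have hstr := comm_struct (P := P) (E := E) (I := (E ⊔ P) ⊓ (K ⊔ P))
        (le_inf le_sup_right le_sup_right) inf_le_left hc
      apply comm_mem_pCore_of_residual_le hP (spi_residual_le_commutator (hirr E hE))
        (I := (E ⊔ P) ⊓ (K ⊔ P)) (le_inf le_sup_right le_sup_right)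
        ((hEsub E hE).inf (hEsub K hK)) ?_ hstr.1 hstr.2
      intro e he
      have hkR : k ∈ R ⊔ P := Subgroup.mem_sup_left (hER K hK hk)
      have heR : e ∈ R ⊔ P := Subgroup.mem_sup_left (hER E hE he)
      constructor
      · have e1 : ⁅k, e⁆ = (k * e * k⁻¹) * e⁻¹ := by simp only [commutatorElement_def]
        rw [e1]
        exact (E ⊔ P).mul_mem
          ((Subgroup.mem_normalizer_iff.mp (hnorm E hE hkR) e).mp (Subgroup.mem_sup_left he))
          ((E ⊔ P).inv_mem (Subgroup.mem_sup_left he))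
      · have e1 : ⁅k, e⁆ = k * (e * k⁻¹ * e⁻¹) := by simp only [commutatorElement_def]; group
        rw [e1]
        exact (K ⊔ P).mul_mem (Subgroup.mem_sup_left hk)
          ((Subgroup.mem_normalizer_iff.mp (hnorm K hK heR) k⁻¹).mp
            (Subgroup.mem_sup_left (K.inv_mem hk)))
    have hIn : ∀ E ∈ 𝒦, ∀ K ∈ 𝒦, R ⊔ P ≤
        Subgroup.normalizer (((E ⊔ P) ⊓ (K ⊔ P) : Subgroup G) : Set G) := by
      intro E hE K hK
      apply le_normalizer_of_conj_mem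
      intro l hl x hx
      exact ⟨(Subgroup.mem_normalizer_iff.mp (hnorm E hE hl) x).mp hx.1,
        (Subgroup.mem_normalizer_iff.mp (hnorm K hK hl) x).mp hx.2⟩
    have hincl : ∀ E ∈ 𝒦, ∀ K ∈ 𝒦,
        (Cfsg.pResidual p E).map E.subtype ≤ ((E ⊔ P) ⊓ (K ⊔ P)) ⊓ E →
        (Cfsg.pResidual p ↥(E ⊔ P)).map (E ⊔ P).subtype ≤
          (Cfsg.pResidual p ↥(K ⊔ P)).map (K ⊔ P).subtype := by
      intro E hE K hK h1
      rw [map_subtype_pResidual_le_iff]
      intro x hx hc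
      apply mem_map_subtype_pResidual _ hc
      obtain ⟨e, he, u, hu, rfl⟩ := Subgroup.mem_sup_of_normal_right.mp hx
      obtain ⟨k, hk⟩ := exists_pow_mem_pResidual (p := p) (⟨e, he⟩ : E)
      have h3 : e ^ p ^ k ∈ K ⊔ P := (h1 ⟨_, hk, rfl⟩).1.2
      obtain ⟨c, hc', e2⟩ := hpowmod e u (p ^ k) hu
      exact mem_of_pow_mem_of_coprime hc (e2 ▸ (K ⊔ P).mul_mem h3 (Subgroup.mem_sup_right hc'))
    rcases (spi_ambient (hirr E hE)).2 (((E ⊔ P) ⊓ (K ⊔ P)) ⊓ E) inf_le_right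
      (hEnormI E hE _ (hIn E hE K hK)) with h1 | h1
    · rcases (spi_ambient (hirr K hK)).2 (((K ⊔ P) ⊓ (E ⊔ P)) ⊓ K) inf_le_right
        (hEnormI K hK _ (hIn K hK E hE)) with h2 | h2
      · left
        exact le_antisymm (hincl E hE K hK h1) (hincl K hK E hE h2)
      · right
        rw [Subgroup.commutator_le]
        intro e he k hk
        exact hcase K hK E hE (h2.trans (hcoreE K hK)) e he k hk
    · right
      rw [Subgroup.commutator_comm, Subgroup.commutator_le]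
      intro k hk e he
      exact hcase E hE K hK (h1.trans (hcoreE E hE)) k hk e he

end Cfsg.Agent.Lib.Helper55
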