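import Cfsg.Agent.Lib.Helper55.TutDefs

/-! Project TUT: basic lemmas about `Hn`, `Arc`, `xs`, `Xint` (translation by powers of `g`). -/

set_option autoImplicit false

namespace Cfsg.Agent.Lib.Helper55.TUT

open scoped Pointwise

variable {G : Type*} [Group G]

theorem mem_Hn {H : Subgroup G} {g : G} {i : ℤ} {x : G} :
    x ∈ Hn H g i ↔ (g ^ i)⁻¹ * x * g ^ i ∈ H := by
  unfold Hn
  rw [Subgroup.mem_smul_pointwise_iff_exists]
  constructor
  · rintro ⟨y, hy, rfl⟩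
    rw [MulAut.smul_def, MulAut.conj_apply]
    have h1 : (g ^ i)⁻¹ * (g ^ i * y * (g ^ i)⁻¹) * g ^ i = y := by group
    rw [h1]
    exact hy
  · intro h
    refine ⟨_, h, ?_⟩
    rw [MulAut.smul_def, MulAut.conj_apply]
    group

theorem Hn_zero (H : Subgroup G) (g : G) : Hn H g 0 = H := by
  ext x
  rw [mem_Hn]
  simp

theorem mem_Arc {H : Subgroup G} {g : G} {i j : ℤ} {x : G} :
    x ∈ Arc H g i j ↔ ∀ l : ℤ, i ≤ l → l ≤ j → x ∈ Hn H g l := by
  unfold Arc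
  simp only [Subgroup.mem_iInf, Finset.mem_Icc]
  constructor
  · intro h l h1 h2
    exact h l ⟨h1, h2⟩
  · intro h l hl
    exact h l hl.1 hl.2

theorem Arc_self (H : Subgroup G) (g : G) (i : ℤ) : Arc H g i i = Hn H g i := by
  ext x
  rw [mem_Arc]
  constructor
  · intro h
    exact h i le_rfl le_rfl
  · intro h l h1 h2
    have : l = i := le_antisymm h2 h1
    rw [this]
    exact h

theorem Arc_mono {H : Subgroup G} {g : G} {i j i' j' : ℤ} (h1 : i ≤ i') (h2 : j' ≤ j) :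
    Arc H g i j ≤ Arc H g i' j' := by
  intro x hx
  rw [mem_Arc] at hx ⊢
  intro l hl1 hl2
  exact hx l (h1.trans hl1) (hl2.trans h2)

theorem Arc_le_Hn {H : Subgroup G} {g : G} {i j l : ℤ} (h1 : i ≤ l) (h2 : l ≤ j) :
    Arc H g i j ≤ Hn H g l := fun _ hx => mem_Arc.1 hx l h1 h2

theorem Arc_split {H : Subgroup G} {g : G} {i j : ℤ} (hij : i ≤ j) :
    Arc H g i (j + 1) = Arc H g i j ⊓ Hn H g (j + 1) := by
  ext x
  rw [Subgroup.mem_inf, mem_Arc, mem_Arc]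
  constructor
  · intro h
    exact ⟨fun l h1 h2 => h l h1 (by omega), h (j + 1) (by omega) le_rfl⟩
  · rintro ⟨h, h'⟩ l h1 h2
    by_cases hl : l ≤ j
    · exact h l h1 hl
    · have : l = j + 1 := by omega
      rw [this]
      exact h'

theorem conj_mem_Hn {H : Subgroup G} {g : G} {i k : ℤ} {x : G} :
    g ^ k * x * (g ^ k)⁻¹ ∈ Hn H g (i + k) ↔ x ∈ Hn H g i := by
  rw [mem_Hn, mem_Hn]
  have : (g ^ (i + k))⁻¹ * (g ^ k * x * (g ^ k)⁻¹) * g ^ (i + k) = (g ^ i)⁻¹ * x * g ^ i := by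
    rw [zpow_add]
    group
  rw [this]

theorem conj_Hn (H : Subgroup G) (g : G) (i k : ℤ) :
    MulAut.conj (g ^ k) • Hn H g i = Hn H g (i + k) := by
  ext x
  rw [Subgroup.mem_smul_pointwise_iff_exists]
  constructor
  · rintro ⟨y, hy, rfl⟩
    rw [MulAut.smul_def, MulAut.conj_apply]
    exact conj_mem_Hn.2 hy
  · intro hx
    refine ⟨(g ^ k)⁻¹ * x * g ^ k, ?_, ?_⟩
    · have h2 := conj_mem_Hn (H := H) (g := g) (i := i) (k := k) (x := (g ^ k)⁻¹ * x * g ^ k)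
      have h3 : g ^ k * ((g ^ k)⁻¹ * x * g ^ k) * (g ^ k)⁻¹ = x := by group
      rw [h3] at h2
      exact h2.1 hx
    · rw [MulAut.smul_def, MulAut.conj_apply]
      group

theorem conj_mem_Arc {H : Subgroup G} {g : G} {i j k : ℤ} {x : G} :
    g ^ k * x * (g ^ k)⁻¹ ∈ Arc H g (i + k) (j + k) ↔ x ∈ Arc H g i j := by
  rw [mem_Arc, mem_Arc]
  constructor
  · intro h l h1 h2
    exact conj_mem_Hn.1 (h (l + k) (by omega) (by omega))
  · intro h l h1 h2
    have := conj_mem_Hn (H := H) (g := g) (i := l - k) (k := k) (x := x)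
    rw [sub_add_cancel] at this
    exact this.2 (h (l - k) (by omega) (by omega))

theorem conj_Arc (H : Subgroup G) (g : G) (i j k : ℤ) :
    MulAut.conj (g ^ k) • Arc H g i j = Arc H g (i + k) (j + k) := by
  ext x
  rw [Subgroup.mem_smul_pointwise_iff_exists]
  constructor
  · rintro ⟨y, hy, rfl⟩
    rw [MulAut.smul_def, MulAut.conj_apply]
    exact conj_mem_Arc.2 hy
  · intro hx
    refine ⟨(g ^ k)⁻¹ * x * g ^ k, ?_, ?_⟩
    · have h2 := conj_mem_Arc (H := H) (g := g) (i := i) (j := j) (k := k)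
        (x := (g ^ k)⁻¹ * x * g ^ k)
      have h3 : g ^ k * ((g ^ k)⁻¹ * x * g ^ k) * (g ^ k)⁻¹ = x := by group
      rw [h3] at h2
      exact h2.1 hx
    · rw [MulAut.smul_def, MulAut.conj_apply]
      group

theorem card_Arc_shift [Finite G] (H : Subgroup G) (g : G) (i j k : ℤ) :
    Nat.card (Arc H g (i + k) (j + k)) = Nat.card (Arc H g i j) := by
  rw [← conj_Arc]
  exact Nat.card_congr (Subgroup.equivSMul _ _).toEquiv.symm

theorem xs_zero (g x₀ : G) : xs g x₀ 0 = x₀ := by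
  unfold xs
  simp

theorem xs_conj (g x₀ : G) (i k : ℤ) :
    g ^ k * xs g x₀ i * (g ^ k)⁻¹ = xs g x₀ (i + k) := by
  unfold xs
  rw [zpow_add]
  group

theorem xs_mul_self {g x₀ : G} (h : x₀ * x₀ = 1) (i : ℤ) : xs g x₀ i * xs g x₀ i = 1 := by
  unfold xs
  have : g ^ i * x₀ * (g ^ i)⁻¹ * (g ^ i * x₀ * (g ^ i)⁻¹) = g ^ i * (x₀ * x₀) * (g ^ i)⁻¹ := by
    group
  rw [this, h]
  group

theorem xs_inv {g x₀ : G} (h : x₀ * x₀ = 1) (i : ℤ) : (xs g x₀ i)⁻¹ = xs g x₀ i :=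
  inv_eq_of_mul_eq_one_left (xs_mul_self h i)

theorem xs_comm_shift {g x₀ : G} (i j k : ℤ) :
    xs g x₀ (i + k) * xs g x₀ (j + k) = xs g x₀ (j + k) * xs g x₀ (i + k) ↔
      xs g x₀ i * xs g x₀ j = xs g x₀ j * xs g x₀ i := by
  rw [← xs_conj g x₀ i k, ← xs_conj g x₀ j k]
  constructor
  · intro h
    have h' : g ^ k * (xs g x₀ i * xs g x₀ j) * (g ^ k)⁻¹ =
        g ^ k * (xs g x₀ j * xs g x₀ i) * (g ^ k)⁻¹ := by
      have e1 : g ^ k * (xs g x₀ i * xs g x₀ j) * (g ^ k)⁻¹ =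
          g ^ k * xs g x₀ i * (g ^ k)⁻¹ * (g ^ k * xs g x₀ j * (g ^ k)⁻¹) := by group
      have e2 : g ^ k * (xs g x₀ j * xs g x₀ i) * (g ^ k)⁻¹ =
          g ^ k * xs g x₀ j * (g ^ k)⁻¹ * (g ^ k * xs g x₀ i * (g ^ k)⁻¹) := by group
      rw [e1, e2, h]
    exact mul_left_cancel (mul_right_cancel h')
  · intro h
    have e1 : g ^ k * xs g x₀ i * (g ^ k)⁻¹ * (g ^ k * xs g x₀ j * (g ^ k)⁻¹) =
        g ^ k * (xs g x₀ i * xs g x₀ j) * (g ^ k)⁻¹ := by group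
    have e2 : g ^ k * xs g x₀ j * (g ^ k)⁻¹ * (g ^ k * xs g x₀ i * (g ^ k)⁻¹) =
        g ^ k * (xs g x₀ j * xs g x₀ i) * (g ^ k)⁻¹ := by group
    rw [e1, e2, h]

theorem xs_mem_Xint {g x₀ : G} {i j l : ℤ} (h1 : i ≤ l) (h2 : l ≤ j) :
    xs g x₀ l ∈ Xint g x₀ i j :=
  Subgroup.subset_closure ⟨l, ⟨h1, h2⟩, rfl⟩

theorem Xint_le {g x₀ : G} {i j : ℤ} {S : Subgroup G}
    (h : ∀ l : ℤ, i ≤ l → l ≤ j → xs g x₀ l ∈ S) : Xint g x₀ i j ≤ S := by
  unfold Xint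
  rw [Subgroup.closure_le]
  rintro _ ⟨l, hl, rfl⟩
  exact h l hl.1 hl.2

theorem Xint_mono {g x₀ : G} {i j i' j' : ℤ} (h1 : i ≤ i') (h2 : j' ≤ j) :
    Xint g x₀ i' j' ≤ Xint g x₀ i j :=
  Xint_le fun l hl1 hl2 => xs_mem_Xint (h1.trans hl1) (hl2.trans h2)

theorem Xint_empty {g x₀ : G} {i j : ℤ} (h : j < i) : Xint g x₀ i j = ⊥ := by
  unfold Xint
  rw [Set.Icc_eq_empty (not_le.2 h), Set.image_empty, Subgroup.closure_empty]

theorem Xint_succ {g x₀ : G} {i j : ℤ} (h : i ≤ j + 1) :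
    Xint g x₀ i (j + 1) = Xint g x₀ i j ⊔ Subgroup.zpowers (xs g x₀ (j + 1)) := by
  apply le_antisymm
  · refine Xint_le fun l h1 h2 => ?_
    by_cases hl : l ≤ j
    · exact (le_sup_left : Xint g x₀ i j ≤ _) (xs_mem_Xint h1 hl)
    · have : l = j + 1 := by omega
      rw [this]
      exact (le_sup_right : Subgroup.zpowers (xs g x₀ (j + 1)) ≤ _)
        (Subgroup.mem_zpowers _)
  · refine sup_le (Xint_mono le_rfl (by omega)) ?_
    rw [Subgroup.zpowers_le]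
    exact xs_mem_Xint h le_rfl

theorem Xint_pred {g x₀ : G} {i j : ℤ} (h : i - 1 ≤ j) :
    Xint g x₀ (i - 1) j = Subgroup.zpowers (xs g x₀ (i - 1)) ⊔ Xint g x₀ i j := by
  apply le_antisymm
  · refine Xint_le fun l h1 h2 => ?_
    by_cases hl : i ≤ l
    · exact (le_sup_right : Xint g x₀ i j ≤ _) (xs_mem_Xint hl h2)
    · have : l = i - 1 := by omega
      rw [this]
      exact (le_sup_left : Subgroup.zpowers (xs g x₀ (i - 1)) ≤ _)
        (Subgroup.mem_zpowers _)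
  · refine sup_le ?_ (Xint_mono (by omega) le_rfl)
    rw [Subgroup.zpowers_le]
    exact xs_mem_Xint le_rfl h

theorem conj_Xint (g x₀ : G) (i j k : ℤ) :
    MulAut.conj (g ^ k) • Xint g x₀ i j = Xint g x₀ (i + k) (j + k) := by
  apply le_antisymm
  · intro z hz
    rw [Subgroup.mem_smul_pointwise_iff_exists] at hz
    obtain ⟨y, hy, rfl⟩ := hz
    have hy' : y ∈ (Xint g x₀ (i + k) (j + k)).comap (MulAut.conj (g ^ k)).toMonoidHom := by
      refine Xint_le (S := (Xint g x₀ (i + k) (j + k)).comap (MulAut.conj (g ^ k)).toMonoidHom)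
        (fun l h1 h2 => ?_) hy
      rw [Subgroup.mem_comap]
      show MulAut.conj (g ^ k) (xs g x₀ l) ∈ Xint g x₀ (i + k) (j + k)
      rw [MulAut.conj_apply, xs_conj]
      exact xs_mem_Xint (by omega) (by omega)
    exact hy'
  · refine Xint_le fun l h1 h2 => ?_
    rw [Subgroup.mem_smul_pointwise_iff_exists]
    refine ⟨xs g x₀ (l - k), xs_mem_Xint (by omega) (by omega), ?_⟩
    rw [MulAut.smul_def, MulAut.conj_apply, xs_conj, sub_add_cancel]

theorem card_Xint_shift [Finite G] (g x₀ : G) (i j k : ℤ) :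
    Nat.card (Xint g x₀ (i + k) (j + k)) = Nat.card (Xint g x₀ i j) := by
  rw [← conj_Xint]
  exact Nat.card_congr (Subgroup.equivSMul _ _).toEquiv.symm

theorem commute_Xint {g x₀ : G} {i j : ℤ} {y : G}
    (h : ∀ l : ℤ, i ≤ l → l ≤ j → y * xs g x₀ l = xs g x₀ l * y) :
    ∀ z ∈ Xint g x₀ i j, y * z = z * y := by
  have hle : Xint g x₀ i j ≤ Subgroup.centralizer {y} := by
    refine Xint_le fun l h1 h2 => ?_
    rw [Subgroup.mem_centralizer_iff]
    intro w hw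
    rw [Set.mem_singleton_iff] at hw
    rw [hw]
    exact h l h1 h2
  intro z hz
  have hz' := hle hz
  rw [Subgroup.mem_centralizer_iff] at hz'
  exact hz' y rfl

theorem Arc_zero_one (H : Subgroup G) (g : G) : Arc H g 0 1 = H ⊓ Hn H g 1 := by
  have h := Arc_split (H := H) (g := g) (i := 0) (j := 0) le_rfl
  rw [zero_add, Arc_self, Hn_zero] at h
  exact h

end Cfsg.Agent.Lib.Helper55.TUT
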