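import Cfsg.Agent.Lib.Helper55.TutBasic
/-! Project TUT (Part II of S3385, Tutte's theorem in group form), piece TUT-CalcCard.
Filled by helper31 (was a placeholder: keep the statement(s), names and namespace
exactly.  You may add auxiliary lemmas above the main theorem(s) in this file (same namespace,
names prefixed `calcCard_`).  Notation: `x_i = xs g x₀ i = g^i x₀ g^(-i)`,
`X[i,j] = Xint g x₀ i j = ⟨x_i, ..., x_j⟩`, `H_i = Hn H g i = g^i H g^(-i)`,
`Arc H g i j = H_i ⊓ ... ⊓ H_j`.  Basic API: `TutBasic.lean` (mem_Hn, mem_Arc, Arc_mono, Arc_split,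
conj_Arc, card_Arc_shift, xs_conj, xs_mul_self, xs_inv, xs_comm_shift, xs_mem_Xint, Xint_le,
Xint_mono, Xint_empty, Xint_succ, Xint_pred, conj_Xint, card_Xint_shift, commute_Xint). -/

set_option autoImplicit false

namespace Cfsg.Agent.Lib.Helper55.TUT

open scoped Pointwise

variable {G : Type*} [Group G]

/-- Orders of the interval groups, translated.
Proof: `m := (j - i).toNat`; `Xint g x₀ i j = Xint g x₀ (0 + i) (m + i)`, so by `card_Xint_shift` and
`C.card m` the order is `2 ^ (m + 1)`. -/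
theorem card_Xint [Finite G] {g x₀ : G} {s : ℕ} (C : Calc g x₀ s) (i j : ℤ) (hij : i ≤ j)
    (hj : j - i + 2 ≤ (s : ℤ)) : Nat.card (Xint g x₀ i j) = 2 ^ (j - i + 1).toNat := by
  obtain ⟨m, hm⟩ := Int.eq_ofNat_of_zero_le (sub_nonneg.2 hij)
  have h1 : Xint g x₀ i j = Xint g x₀ (0 + i) ((m : ℤ) + i) := by
    congr 1 <;> omega
  rw [h1, card_Xint_shift, C.card m (by omega)]
  congr 1
  omega

end Cfsg.Agent.Lib.Helper55.TUT
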