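import Cfsg.Agent.Lib.Helper55.TutBasic
import Cfsg.Agent.Lib.Helper55.TutCalcCard
/-! Project TUT (Part II of S3385, Tutte's theorem in group form), piece TUT-CalcIdxL.
PLACEHOLDER: replace the `sorry`(s) in this ONE file; keep the statement(s), names and namespace
exactly.  You may add auxiliary lemmas above the main theorem(s) in this file (same namespace,
names prefixed `calcIdxL_`).  Notation: `x_i = xs g x₀ i = g^i x₀ g^(-i)`,
`X[i,j] = Xint g x₀ i j = ⟨x_i, ..., x_j⟩`, `H_i = Hn H g i = g^i H g^(-i)`,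
`Arc H g i j = H_i ⊓ ... ⊓ H_j`.  Basic API: `TutBasic.lean` (mem_Hn, mem_Arc, Arc_mono, Arc_split,
conj_Arc, card_Arc_shift, xs_conj, xs_mul_self, xs_inv, xs_comm_shift, xs_mem_Xint, Xint_le,
Xint_mono, Xint_empty, Xint_succ, Xint_pred, conj_Xint, card_Xint_shift, commute_Xint). -/

set_option autoImplicit false

namespace Cfsg.Agent.Lib.Helper55.TUT

open scoped Pointwise

variable {G : Type*} [Group G]

/-- `|X[i,j]| = 2 |X[i+1,j]|`. -/
theorem calcIdxL_card [Finite G] {g x₀ : G} {s : ℕ} (C : Calc g x₀ s) (i j : ℤ) (hij : i ≤ j)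
    (hj : j - i + 2 ≤ (s : ℤ)) :
    Nat.card (Xint g x₀ i j) = 2 * Nat.card (Xint g x₀ (i + 1) j) := by
  have h1 := card_Xint C i j hij hj
  rcases eq_or_lt_of_le hij with h | h
  · subst h
    rw [Xint_empty (by omega : i < i + 1), Subgroup.card_bot, h1]
    have e0 : (i - i + 1).toNat = 1 := by omega
    rw [e0]
    rfl
  · have h2 := card_Xint C (i + 1) j (by omega) (by omega)
    rw [h1, h2]
    have e1 : (j - i + 1).toNat = (j - (i + 1) + 1).toNat + 1 := by omega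
    rw [e1, pow_succ, mul_comm]

/-- `x_i ∉ X[i+1,j]`.
Proof: `X[i,j] = zpowers x_i ⊔ X[i+1,j]` (`Xint_pred` with `i+1`); if `x_i ∈ X[i+1,j]` the two groups
are equal, but their orders are `2^(j-i+1)` and `2^(j-i)` (`card_Xint`; if `i = j` then
`X[i+1,i] = ⊥` by `Xint_empty`). -/
theorem xs_not_mem_left [Finite G] {g x₀ : G} {s : ℕ} (C : Calc g x₀ s) (i j : ℤ) (hij : i ≤ j)
    (hj : j - i + 2 ≤ (s : ℤ)) : xs g x₀ i ∉ Xint g x₀ (i + 1) j := by
  intro hmem
  have hle : Xint g x₀ i j ≤ Xint g x₀ (i + 1) j := by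
    refine Xint_le fun l h1 h2 => ?_
    rcases eq_or_lt_of_le h1 with h | h
    · rw [← h]
      exact hmem
    · exact xs_mem_Xint (by omega) h2
  have hcard_le : Nat.card (Xint g x₀ i j) ≤ Nat.card (Xint g x₀ (i + 1) j) :=
    Subgroup.card_le_of_le hle
  have h1 := calcIdxL_card C i j hij hj
  rw [h1] at hcard_le
  have hpos : 0 < Nat.card (Xint g x₀ (i + 1) j) := Nat.card_pos
  omega

/-- `X[i+1,j]` has index 2 in `X[i,j]` with coset representative `x_i`.
Proof: orders `2^(j-i)` and `2^(j-i+1)` (as above), so `(X[i+1,j]).relIndex X[i,j] = 2`; in an index-2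
subgroup `B` of `A`: for `a, b ∈ A`, `a * b ∈ B ↔ (a ∈ B ↔ b ∈ B)` (`Subgroup.mul_mem_iff_of_index_two`
applied to `B.subgroupOf A`); use `a = x_i ∉ B`, `b = y`. -/
theorem coset_left [Finite G] {g x₀ : G} {s : ℕ} (C : Calc g x₀ s) (i j : ℤ) (hij : i ≤ j)
    (hj : j - i + 2 ≤ (s : ℤ)) (y : G) (hy : y ∈ Xint g x₀ i j) :
    y ∈ Xint g x₀ (i + 1) j ∨ xs g x₀ i * y ∈ Xint g x₀ (i + 1) j := by
  by_cases hyB : y ∈ Xint g x₀ (i + 1) j
  · exact Or.inl hyB
  right
  have hx := xs_not_mem_left C i j hij hj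
  have hBA : Xint g x₀ (i + 1) j ≤ Xint g x₀ i j := Xint_mono (by omega) le_rfl
  have hxA : xs g x₀ i ∈ Xint g x₀ i j := xs_mem_Xint le_rfl hij
  have hcard := calcIdxL_card C i j hij hj
  have hidx : ((Xint g x₀ (i + 1) j).subgroupOf (Xint g x₀ i j)).index = 2 := by
    have h3 := Subgroup.card_mul_index ((Xint g x₀ (i + 1) j).subgroupOf (Xint g x₀ i j))
    have h4 : Nat.card ((Xint g x₀ (i + 1) j).subgroupOf (Xint g x₀ i j)) =
        Nat.card (Xint g x₀ (i + 1) j) :=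
      Nat.card_congr (Subgroup.subgroupOfEquivOfLe hBA).toEquiv
    rw [h4, hcard] at h3
    have hpos : 0 < Nat.card (Xint g x₀ (i + 1) j) := Nat.card_pos
    have h5 : Nat.card (Xint g x₀ (i + 1) j) *
        ((Xint g x₀ (i + 1) j).subgroupOf (Xint g x₀ i j)).index =
        Nat.card (Xint g x₀ (i + 1) j) * 2 := by
      rw [h3, mul_comm]
    exact Nat.eq_of_mul_eq_mul_left hpos h5
  have key := Subgroup.mul_mem_iff_of_index_two hidx
    (a := (⟨xs g x₀ i, hxA⟩ : Xint g x₀ i j)) (b := (⟨y, hy⟩ : Xint g x₀ i j))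
  rw [Subgroup.mem_subgroupOf, Subgroup.mem_subgroupOf, Subgroup.mem_subgroupOf] at key
  exact key.mpr ⟨fun h => absurd h hx, fun h => absurd h hyB⟩

end Cfsg.Agent.Lib.Helper55.TUT
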