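import Cfsg.Agent.Lib.Helper55.TutBasic
import Cfsg.Agent.Lib.Helper55.TutCalcCard
/-! Project TUT (Part II of S3385, Tutte's theorem in group form), piece TUT-CalcIdxR.
PLACEHOLDER: replace the `sorry`(s) in this ONE file; keep the statement(s), names and namespace
exactly.  You may add auxiliary lemmas above the main theorem(s) in this file (same namespace,
names prefixed `calcIdxR_`).  Notation: `x_i = xs g x₀ i = g^i x₀ g^(-i)`,
`X[i,j] = Xint g x₀ i j = ⟨x_i, ..., x_j⟩`, `H_i = Hn H g i = g^i H g^(-i)`,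
`Arc H g i j = H_i ⊓ ... ⊓ H_j`.  Basic API: `TutBasic.lean` (mem_Hn, mem_Arc, Arc_mono, Arc_split,
conj_Arc, card_Arc_shift, xs_conj, xs_mul_self, xs_inv, xs_comm_shift, xs_mem_Xint, Xint_le,
Xint_mono, Xint_empty, Xint_succ, Xint_pred, conj_Xint, card_Xint_shift, commute_Xint). -/

set_option autoImplicit false

namespace Cfsg.Agent.Lib.Helper55.TUT

open scoped Pointwise

variable {G : Type*} [Group G]

theorem calcIdxR_card_pred [Finite G] {g x₀ : G} {s : ℕ} (C : Calc g x₀ s) (i j : ℤ)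
    (hij : i ≤ j) (hj : j - i + 2 ≤ (s : ℤ)) :
    Nat.card (Xint g x₀ i (j - 1)) = 2 ^ (j - i).toNat := by
  by_cases h : i ≤ j - 1
  · have h1 := card_Xint C i (j - 1) h (by omega)
    have h2 : j - 1 - i + 1 = j - i := by ring
    rw [h2] at h1
    exact h1
  · have h0 : j - i = 0 := by omega
    rw [Xint_empty (by omega), h0]
    simp

theorem calcIdxR_card [Finite G] {g x₀ : G} {s : ℕ} (C : Calc g x₀ s) (i j : ℤ)
    (hij : i ≤ j) (hj : j - i + 2 ≤ (s : ℤ)) :
    Nat.card (Xint g x₀ i j) = 2 ^ ((j - i).toNat + 1) := by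
  have h1 := card_Xint C i j hij hj
  have h2 : (j - i + 1).toNat = (j - i).toNat + 1 := by omega
  rw [h2] at h1
  exact h1

/-- `x_j ∉ X[i,j-1]`.
Proof: `X[i,j] = X[i,j-1] ⊔ zpowers x_j` (`Xint_succ` with `j-1`); if `x_j ∈ X[i,j-1]` the two groups
are equal, but their orders are `2^(j-i+1)` and `2^(j-i)` (`card_Xint`; if `i = j` then
`X[i,i-1] = ⊥` by `Xint_empty`). -/
theorem xs_not_mem_right [Finite G] {g x₀ : G} {s : ℕ} (C : Calc g x₀ s) (i j : ℤ) (hij : i ≤ j)
    (hj : j - i + 2 ≤ (s : ℤ)) : xs g x₀ j ∉ Xint g x₀ i (j - 1) := by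
  intro hmem
  have h1 : Xint g x₀ i j = Xint g x₀ i (j - 1) := by
    have h2 := Xint_succ (g := g) (x₀ := x₀) (i := i) (j := j - 1) (by omega)
    rw [sub_add_cancel] at h2
    rw [h2]
    exact sup_eq_left.mpr ((Subgroup.zpowers_le).mpr hmem)
  have h3 := calcIdxR_card C i j hij hj
  have h4 := calcIdxR_card_pred C i j hij hj
  rw [h1, h4] at h3
  have h5 : (2 : ℕ) ^ (j - i).toNat < 2 ^ ((j - i).toNat + 1) :=
    Nat.pow_lt_pow_right (by norm_num) (by omega)
  omega

/-- `X[i,j-1]` has index 2 in `X[i,j]` with coset representative `x_j`.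
Proof: as for `coset_left` (orders `2^(j-i)`, `2^(j-i+1)`; index 2;
`Subgroup.mul_mem_iff_of_index_two` for `B.subgroupOf A` with `a = y`, `b = x_j ∉ B`). -/
theorem coset_right [Finite G] {g x₀ : G} {s : ℕ} (C : Calc g x₀ s) (i j : ℤ) (hij : i ≤ j)
    (hj : j - i + 2 ≤ (s : ℤ)) (y : G) (hy : y ∈ Xint g x₀ i j) :
    y ∈ Xint g x₀ i (j - 1) ∨ y * xs g x₀ j ∈ Xint g x₀ i (j - 1) := by
  have hBA : Xint g x₀ i (j - 1) ≤ Xint g x₀ i j := Xint_mono le_rfl (by omega)
  have hxj : xs g x₀ j ∈ Xint g x₀ i j := xs_mem_Xint hij le_rfl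
  have hnot := xs_not_mem_right C i j hij hj
  have hidx : ((Xint g x₀ i (j - 1)).subgroupOf (Xint g x₀ i j)).index = 2 := by
    have h1 := Subgroup.card_mul_index ((Xint g x₀ i (j - 1)).subgroupOf (Xint g x₀ i j))
    rw [Nat.card_congr (Subgroup.subgroupOfEquivOfLe hBA).toEquiv,
      calcIdxR_card_pred C i j hij hj, calcIdxR_card C i j hij hj, pow_succ] at h1
    exact Nat.eq_of_mul_eq_mul_left (by positivity) h1
  have key := Subgroup.mul_mem_iff_of_index_two hidx (a := (⟨y, hy⟩ : Xint g x₀ i j))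
    (b := ⟨xs g x₀ j, hxj⟩)
  by_cases hyB : y ∈ Xint g x₀ i (j - 1)
  · exact Or.inl hyB
  · right
    have h2 : (⟨y, hy⟩ : Xint g x₀ i j) * ⟨xs g x₀ j, hxj⟩ ∈
        (Xint g x₀ i (j - 1)).subgroupOf (Xint g x₀ i j) := by
      rw [key]
      constructor
      · intro h
        exact absurd (Subgroup.mem_subgroupOf.mp h) hyB
      · intro h
        exact absurd (Subgroup.mem_subgroupOf.mp h) hnot
    exact Subgroup.mem_subgroupOf.mp h2

end Cfsg.Agent.Lib.Helper55.TUT
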