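import Cfsg.Agent.Lib.Helper55.TutBasic
import Cfsg.Agent.Lib.Helper55.TutCalcCard
import Cfsg.Agent.Lib.Helper55.TutCalcIdxL
import Cfsg.Agent.Lib.Helper55.TutCalcIdxR
/-! Project TUT (Part II of S3385, Tutte's theorem in group form), piece TUT-CalcInt.
PLACEHOLDER: replace the `sorry`(s) in this ONE file; keep the statement(s), names and namespace
exactly.  You may add auxiliary lemmas above the main theorem(s) in this file (same namespace,
names prefixed `calcInt_`).  Notation: `x_i = xs g x₀ i = g^i x₀ g^(-i)`,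
`X[i,j] = Xint g x₀ i j = ⟨x_i, ..., x_j⟩`, `H_i = Hn H g i = g^i H g^(-i)`,
`Arc H g i j = H_i ⊓ ... ⊓ H_j`.  Basic API: `TutBasic.lean` (mem_Hn, mem_Arc, Arc_mono, Arc_split,
conj_Arc, card_Arc_shift, xs_conj, xs_mul_self, xs_inv, xs_comm_shift, xs_mem_Xint, Xint_le,
Xint_mono, Xint_empty, Xint_succ, Xint_pred, conj_Xint, card_Xint_shift, commute_Xint). -/

set_option autoImplicit false

namespace Cfsg.Agent.Lib.Helper55.TUT

open scoped Pointwise

variable {G : Type*} [Group G]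

/-- `X[i+1,j] ∩ X[i,j-1] = X[i+1,j-1]`.
Proof: `D := X[i+1,j-1] ≤ B := X[i+1,j]` and `≤ C' := X[i,j-1]` (`Xint_mono`).  `|B| = |C'| = 2^(j-i)`,
`|D| = 2^(j-i-1)` (`card_Xint`; for `j = i+1`, `D = ⊥`).  `B ⊓ C' ≠ B`: otherwise `B ≤ C'`, hence
`B = C'` (equal orders), so `x_i ∈ C' = B`, contradicting `xs_not_mem_left`.  So `B ⊓ C'` is a proper
subgroup of `B`, its order divides `2^(j-i)` and is smaller, so `≤ 2^(j-i-1) = |D|`; with
`D ≤ B ⊓ C'` equality follows (`Subgroup.eq_of_le_of_card_ge`). -/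
theorem inter_eq [Finite G] {g x₀ : G} {s : ℕ} (C : Calc g x₀ s) (i j : ℤ) (hij : i < j)
    (hj : j - i + 2 ≤ (s : ℤ)) :
    Xint g x₀ (i + 1) j ⊓ Xint g x₀ i (j - 1) = Xint g x₀ (i + 1) (j - 1) := by
  obtain ⟨n, hn⟩ : ∃ n : ℕ, j - i = (n : ℤ) + 1 := ⟨(j - i - 1).toNat, by omega⟩
  have hB : Nat.card (Xint g x₀ (i + 1) j) = 2 ^ (n + 1) := by
    rw [card_Xint C (i + 1) j (by omega) (by omega)]
    congr 1
    omega
  have hC : Nat.card (Xint g x₀ i (j - 1)) = 2 ^ (n + 1) := by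
    rw [card_Xint C i (j - 1) (by omega) (by omega)]
    congr 1
    omega
  have hD : Nat.card (Xint g x₀ (i + 1) (j - 1)) = 2 ^ n := by
    by_cases h0 : j = i + 1
    · rw [Xint_empty (by omega), Subgroup.card_bot]
      have h1 : n = 0 := by omega
      rw [h1, pow_zero]
    · rw [card_Xint C (i + 1) (j - 1) (by omega) (by omega)]
      congr 1
      omega
  have hDB : Xint g x₀ (i + 1) (j - 1) ≤ Xint g x₀ (i + 1) j := Xint_mono le_rfl (by omega)
  have hDC : Xint g x₀ (i + 1) (j - 1) ≤ Xint g x₀ i (j - 1) := Xint_mono (by omega) le_rfl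
  have hDK : Xint g x₀ (i + 1) (j - 1) ≤ Xint g x₀ (i + 1) j ⊓ Xint g x₀ i (j - 1) :=
    le_inf hDB hDC
  have hKB : Xint g x₀ (i + 1) j ⊓ Xint g x₀ i (j - 1) ≤ Xint g x₀ (i + 1) j := inf_le_left
  have hne : Nat.card ↥(Xint g x₀ (i + 1) j ⊓ Xint g x₀ i (j - 1)) ≠ 2 ^ (n + 1) := by
    intro hcard
    have hKeq : Xint g x₀ (i + 1) j ⊓ Xint g x₀ i (j - 1) = Xint g x₀ (i + 1) j :=
      Subgroup.eq_of_le_of_card_ge hKB (by rw [hcard, hB])
    have hBC : Xint g x₀ (i + 1) j ≤ Xint g x₀ i (j - 1) := by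
      rw [← hKeq]
      exact inf_le_right
    have hBCeq : Xint g x₀ (i + 1) j = Xint g x₀ i (j - 1) :=
      Subgroup.eq_of_le_of_card_ge hBC (by rw [hB, hC])
    have hx : xs g x₀ i ∈ Xint g x₀ i (j - 1) := xs_mem_Xint le_rfl (by omega)
    rw [← hBCeq] at hx
    exact xs_not_mem_left C i j (by omega) hj hx
  have hdvd : Nat.card ↥(Xint g x₀ (i + 1) j ⊓ Xint g x₀ i (j - 1)) ∣ 2 ^ (n + 1) := by
    rw [← hB]
    exact Subgroup.card_dvd_of_le hKB
  obtain ⟨k, hk, hkc⟩ := (Nat.dvd_prime_pow Nat.prime_two).mp hdvd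
  have hk' : k ≤ n := by
    by_contra hcon
    have h1 : k = n + 1 := by omega
    rw [h1] at hkc
    exact hne hkc
  symm
  apply Subgroup.eq_of_le_of_card_ge hDK
  rw [hkc, hD]
  exact Nat.pow_le_pow_right (by norm_num) hk'

end Cfsg.Agent.Lib.Helper55.TUT
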