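import Cfsg.Agent.Lib.Helper55.TutBasic
import Cfsg.Agent.Lib.Helper55.TutCalcIdxL
import Cfsg.Agent.Lib.Helper55.TutCalcIdxR
import Cfsg.Agent.Lib.Helper55.TutCalcInt
/-! Project TUT (Part II of S3385, Tutte's theorem in group form), piece TUT-CalcComm.
(Filled by helper2.) Keep the statement(s), names and namespace
exactly.  You may add auxiliary lemmas above the main theorem(s) in this file (same namespace,
names prefixed `calcComm_`).  Notation: `x_i = xs g x₀ i = g^i x₀ g^(-i)`,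
`X[i,j] = Xint g x₀ i j = ⟨x_i, ..., x_j⟩`, `H_i = Hn H g i = g^i H g^(-i)`,
`Arc H g i j = H_i ⊓ ... ⊓ H_j`.  Basic API: `TutBasic.lean` (mem_Hn, mem_Arc, Arc_mono, Arc_split,
conj_Arc, card_Arc_shift, xs_conj, xs_mul_self, xs_inv, xs_comm_shift, xs_mem_Xint, Xint_le,
Xint_mono, Xint_empty, Xint_succ, Xint_pred, conj_Xint, card_Xint_shift, commute_Xint). -/

set_option autoImplicit false

namespace Cfsg.Agent.Lib.Helper55.TUT

open scoped Pointwise

variable {G : Type*} [Group G]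

/-- The commutator lemma: `[x_i, x_j] ∈ X[i+1,j-1]` for `0 < j - i ≤ s - 2` (in particular
`x_i`, `x_{i+1}` commute, as `X[i+1,i] = ⊥`).
Proof: put `w := x_j * x_i ∈ X[i,j]`.  `coset_left`: `w ∈ X[i+1,j]` (impossible: then
`x_i = x_j⁻¹ * w ∈ X[i+1,j]`, contradicting `xs_not_mem_left`) or `x_i * x_j * x_i ∈ X[i+1,j]`; hence
`x_i * x_j * x_i * x_j ∈ X[i+1,j]`.  `coset_right`: `w ∈ X[i,j-1]` (impossible: then `x_j ∈ X[i,j-1]`)
or `x_j * x_i * x_j ∈ X[i,j-1]`; hence `x_i * (x_j * x_i * x_j) ∈ X[i,j-1]`.  Conclude with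
`inter_eq`. -/
theorem comm_mem [Finite G] {g x₀ : G} {s : ℕ} (C : Calc g x₀ s) (i j : ℤ) (hij : i < j)
    (hj : j - i + 2 ≤ (s : ℤ)) :
    xs g x₀ i * xs g x₀ j * xs g x₀ i * xs g x₀ j ∈ Xint g x₀ (i + 1) (j - 1) := by
  obtain ⟨a, ha⟩ : ∃ a : G, a = xs g x₀ i := ⟨_, rfl⟩
  obtain ⟨b, hb⟩ : ∃ b : G, b = xs g x₀ j := ⟨_, rfl⟩
  have haI : a ∈ Xint g x₀ i j := by
    rw [ha]
    exact xs_mem_Xint (le_refl i) hij.le
  have hbI : b ∈ Xint g x₀ i j := by
    rw [hb]
    exact xs_mem_Xint hij.le (le_refl j)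
  have hbL : b ∈ Xint g x₀ (i + 1) j := by
    rw [hb]
    exact xs_mem_Xint (by omega) (le_refl j)
  have haR : a ∈ Xint g x₀ i (j - 1) := by
    rw [ha]
    exact xs_mem_Xint (le_refl i) (by omega)
  have haL : a ∉ Xint g x₀ (i + 1) j := by
    rw [ha]
    exact xs_not_mem_left C i j hij.le hj
  have hbR : b ∉ Xint g x₀ i (j - 1) := by
    rw [hb]
    exact xs_not_mem_right C i j hij.le hj
  have hw : b * a ∈ Xint g x₀ i j := Subgroup.mul_mem _ hbI haI
  have h1 : a * b * a * b ∈ Xint g x₀ (i + 1) j := by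
    have hc := coset_left C i j hij.le hj (b * a) hw
    rw [← ha] at hc
    rcases hc with hc | hc
    · exfalso
      apply haL
      have e : a = b⁻¹ * (b * a) := by group
      rw [e]
      exact Subgroup.mul_mem _ (Subgroup.inv_mem _ hbL) hc
    · have e : a * b * a * b = a * (b * a) * b := by group
      rw [e]
      exact Subgroup.mul_mem _ hc hbL
  have h2 : a * b * a * b ∈ Xint g x₀ i (j - 1) := by
    have hc := coset_right C i j hij.le hj (b * a) hw
    rw [← hb] at hc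
    rcases hc with hc | hc
    · exfalso
      apply hbR
      have e : b = (b * a) * a⁻¹ := by group
      rw [e]
      exact Subgroup.mul_mem _ hc (Subgroup.inv_mem _ haR)
    · have e : a * b * a * b = a * (b * a * b) := by group
      rw [e]
      exact Subgroup.mul_mem _ haR hc
  rw [← ha, ← hb, ← inter_eq C i j hij hj]
  exact ⟨h1, h2⟩

end Cfsg.Agent.Lib.Helper55.TUT
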