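import Cfsg.Agent.Lib.Helper55.TutBasic
import Cfsg.Agent.Lib.Helper55.TutCalcComm
import Cfsg.Agent.Lib.Helper55.TutCalcIdxL
import Cfsg.Agent.Lib.Helper55.TutCalcIdxR
/-! Project TUT (Part II of S3385, Tutte's theorem in group form), piece TUT-CalcC
(filled in by helper11).  Notation: `x_i = xs g x₀ i = g^i x₀ g^(-i)`,
`X[i,j] = Xint g x₀ i j = ⟨x_i, ..., x_j⟩`. -/

set_option autoImplicit false

namespace Cfsg.Agent.Lib.Helper55.TUT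

open scoped Pointwise

variable {G : Type*} [Group G]

/-- Normal form of `c = cc g x₀ lam = [x_0, x_lam]`.
Proof: `lam + 2 ≤ s` (from `L.le`, `hs`), so `c ∈ X[1, lam-1]` (`comm_mem C 0 lam`, unfold `cc`).
`c ≠ 1` (else `x_0 x_lam = x_lam x_0`, as the `x_i` are involutions, contradicting `L.nc 0`).
Let `μ` be the largest `m ∈ [1, lam-1]` with `c ∈ X[m, lam-1]`.  Then `c ∉ X[μ+1, lam-1]` (maximality,
or `X[lam, lam-1] = ⊥` and `c ≠ 1`), so by `coset_left` (interval `[μ, lam-1]`)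
`c₁ := x_μ * c ∈ X[μ+1, lam-1]` and `c = x_μ * c₁`.  Let `ν` be the least `n ∈ [μ, lam-1]` with
`c ∈ X[μ, n]`.  Then `c ∉ X[μ, ν-1]`, so by `coset_right` (interval `[μ, ν]`)
`c'' := c * x_ν ∈ X[μ, ν-1]` and `c = c'' * x_ν`.  Finally `c' := x_μ * c ∈ X[μ, ν]`, and by
`coset_left` (interval `[μ, ν]`) either `c' ∈ X[μ+1, ν]` (done) or `x_μ * c' = c ∈ X[μ+1, ν] ≤
X[μ+1, lam-1]`, which is excluded. -/
theorem exists_mu_nu [Finite G] {g x₀ : G} {s lam : ℕ} (C : Calc g x₀ s) (hs : 6 ≤ s) (L : Lam g x₀ s lam) :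
    ∃ μ ν : ℤ, 1 ≤ μ ∧ μ ≤ ν ∧ ν ≤ (lam : ℤ) - 1 ∧ cc g x₀ lam ∈ Xint g x₀ μ ν ∧
      (∃ c' ∈ Xint g x₀ (μ + 1) ν, cc g x₀ lam = xs g x₀ μ * c') ∧
      (∃ c'' ∈ Xint g x₀ μ (ν - 1), cc g x₀ lam = c'' * xs g x₀ ν) := by
  classical
  have h2 := L.two
  have hle := L.le
  have hlam : lam + 2 ≤ s := by omega
  have hlamZ : (lam : ℤ) + 2 ≤ (s : ℤ) := by exact_mod_cast hlam
  have h2Z : (2 : ℤ) ≤ (lam : ℤ) := by exact_mod_cast h2
  set c : G := cc g x₀ lam with hc_def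
  -- `c ∈ X[1, lam-1]`
  have hc1 : c ∈ Xint g x₀ 1 ((lam : ℤ) - 1) := by
    have h := comm_mem C 0 (lam : ℤ) (by omega) (by omega)
    rw [zero_add] at h
    exact h
  -- `c ≠ 1`
  have hcne : c ≠ 1 := by
    intro h1
    apply L.nc 0
    rw [zero_add]
    have h0 := xs_mul_self (g := g) C.inv 0
    have hl := xs_mul_self (g := g) C.inv (lam : ℤ)
    have h1' : xs g x₀ 0 * xs g x₀ (lam : ℤ) * xs g x₀ 0 * xs g x₀ (lam : ℤ) = 1 := h1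
    calc xs g x₀ 0 * xs g x₀ (lam : ℤ)
        = xs g x₀ 0 * xs g x₀ (lam : ℤ) *
            (xs g x₀ 0 * xs g x₀ (lam : ℤ) * xs g x₀ 0 * xs g x₀ (lam : ℤ))⁻¹ := by
          rw [h1', inv_one, mul_one]
      _ = (xs g x₀ (lam : ℤ))⁻¹ * (xs g x₀ 0)⁻¹ := by group
      _ = xs g x₀ (lam : ℤ) * xs g x₀ 0 := by
          rw [xs_inv C.inv, xs_inv C.inv]
  -- `μ`
  obtain ⟨μ, ⟨hμ1, hμ2, hμc⟩, hμmax⟩ :=
    Int.exists_greatest_of_bdd
      (P := fun m : ℤ => 1 ≤ m ∧ m ≤ (lam : ℤ) - 1 ∧ c ∈ Xint g x₀ m ((lam : ℤ) - 1))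
      ⟨(lam : ℤ) - 1, fun z hz => hz.2.1⟩ ⟨1, le_rfl, by omega, hc1⟩
  have hμnot : c ∉ Xint g x₀ (μ + 1) ((lam : ℤ) - 1) := by
    intro hmem
    by_cases hlt : μ + 1 ≤ (lam : ℤ) - 1
    · have := hμmax (μ + 1) ⟨by omega, hlt, hmem⟩
      omega
    · rw [Xint_empty (by omega), Subgroup.mem_bot] at hmem
      exact hcne hmem
  -- `ν`
  obtain ⟨ν, ⟨hν1, hν2, hνc⟩, hνmin⟩ :=
    Int.exists_least_of_bdd
      (P := fun n : ℤ => μ ≤ n ∧ n ≤ (lam : ℤ) - 1 ∧ c ∈ Xint g x₀ μ n)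
      ⟨μ, fun z hz => hz.1⟩ ⟨(lam : ℤ) - 1, hμ2, le_rfl, hμc⟩
  have hνnot : c ∉ Xint g x₀ μ (ν - 1) := by
    intro hmem
    by_cases hlt : μ ≤ ν - 1
    · have := hνmin (ν - 1) ⟨hlt, by omega, hmem⟩
      omega
    · rw [Xint_empty (by omega), Subgroup.mem_bot] at hmem
      exact hcne hmem
  have hμμ := xs_mul_self (g := g) C.inv μ
  have hνν := xs_mul_self (g := g) C.inv ν
  refine ⟨μ, ν, hμ1, hν1, hν2, hνc, ?_, ?_⟩
  · -- left factor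
    have hc' : xs g x₀ μ * c ∈ Xint g x₀ μ ν :=
      Subgroup.mul_mem _ (xs_mem_Xint le_rfl hν1) hνc
    have hback : xs g x₀ μ * (xs g x₀ μ * c) = c := by
      rw [← mul_assoc, hμμ, one_mul]
    rcases coset_left C μ ν hν1 (by omega) (xs g x₀ μ * c) hc' with h | h
    · exact ⟨xs g x₀ μ * c, h, hback.symm⟩
    · exfalso
      rw [hback] at h
      exact hμnot (Xint_mono le_rfl hν2 h)
  · -- right factor
    rcases coset_right C μ ν hν1 (by omega) c hνc with h | h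
    · exact absurd h hνnot
    · refine ⟨c * xs g x₀ ν, h, ?_⟩
      rw [mul_assoc, hνν, mul_one]

end Cfsg.Agent.Lib.Helper55.TUT
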