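import Cfsg.Agent.Lib.Helper55.TutBasic
import Cfsg.Agent.Lib.Helper55.TutCalcComm
/-! Project TUT (Part II of S3385, Tutte's theorem in group form), piece TUT-CalcLam.
Filled by helper40 (job 4131). Rules were: keep the statement(s), names and namespace
exactly.  You may add auxiliary lemmas above the main theorem(s) in this file (same namespace,
names prefixed `calcLam_`).  Notation: `x_i = xs g x₀ i = g^i x₀ g^(-i)`,
`X[i,j] = Xint g x₀ i j = ⟨x_i, ..., x_j⟩`, `H_i = Hn H g i = g^i H g^(-i)`,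
`Arc H g i j = H_i ⊓ ... ⊓ H_j`.  Basic API: `TutBasic.lean` (mem_Hn, mem_Arc, Arc_mono, Arc_split,
conj_Arc, card_Arc_shift, xs_conj, xs_mul_self, xs_inv, xs_comm_shift, xs_mem_Xint, Xint_le,
Xint_mono, Xint_empty, Xint_succ, Xint_pred, conj_Xint, card_Xint_shift, commute_Xint). -/

set_option autoImplicit false

namespace Cfsg.Agent.Lib.Helper55.TUT

open scoped Pointwise

variable {G : Type*} [Group G]

/-- Existence of `lam`: the least distance at which `x_0` and `x_lam` do not commute.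
Proof: (1) some `j ∈ [1, s-1]` has `x_0 x_j ≠ x_j x_0`: otherwise `x_1` commutes with `x_i` for all
`i ∈ [0, s]` (`i = 0`: hypothesis with `j = 1`; `i = 1`: trivial; `2 ≤ i ≤ s`: shift the hypothesis
for `j = i - 1` by `1` using `xs_comm_shift`), contradicting `C.nc 1`.  Let `lam` be the least such `j`
(`Nat.find`).  (2) `comm`: for `|i - j| < lam` WLOG `i ≤ j`, `d = j - i`; `d = 0` trivial, else
`x_0 x_d = x_d x_0` by minimality, shift by `i`.  `nc`: shift by `i`.  (3) `lam ≥ 2`: `comm_mem C 0 1`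
gives `x_0 x_1 x_0 x_1 ∈ X[1,0] = ⊥` (`Xint_empty`), and the `x_i` are involutions (`xs_mul_self C.inv`,
`xs_inv`), so `x_0 x_1 = x_1 x_0`.  (4) `2 * lam ≤ s + 1`: otherwise `l := lam - 1` satisfies
`1 ≤ l ≤ s - 1` (as `lam ≤ s - 1`) and `|i - l| < lam` for all `0 ≤ i ≤ s`, so `x_l` commutes with all
`x_i`, `0 ≤ i ≤ s`, contradicting `C.nc l`. -/
theorem exists_lam [Finite G] {g x₀ : G} {s : ℕ} (C : Calc g x₀ s) (hs : 6 ≤ s) :
    ∃ lam : ℕ, Lam g x₀ s lam := by
  classical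
  have hex : ∃ j : ℕ, 1 ≤ j ∧ j ≤ s - 1 ∧
      xs g x₀ 0 * xs g x₀ (j : ℤ) ≠ xs g x₀ (j : ℤ) * xs g x₀ 0 := by
    by_contra hcon
    push Not at hcon
    obtain ⟨i, hi0, his, hne⟩ := C.nc 1 le_rfl (by omega)
    apply hne
    rcases lt_trichotomy i 1 with h | h | h
    · have hi : i = 0 := by omega
      subst hi
      have h1 := hcon 1 le_rfl (by omega)
      simp only [Nat.cast_one] at h1
      exact h1.symm
    · subst h
      rfl
    · obtain ⟨j, hj⟩ := Int.eq_ofNat_of_zero_le (show 0 ≤ i - 1 by omega)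
      have h1 := hcon j (by omega) (by omega)
      have h3 := (xs_comm_shift (g := g) (x₀ := x₀) 0 (j : ℤ) 1).2 h1
      have e2 : (j : ℤ) + 1 = i := by omega
      rw [zero_add, e2] at h3
      exact h3
  obtain ⟨lam, ⟨hl1, hls, hlnc⟩, hmin'⟩ : ∃ lam : ℕ, (1 ≤ lam ∧ lam ≤ s - 1 ∧
      xs g x₀ 0 * xs g x₀ (lam : ℤ) ≠ xs g x₀ (lam : ℤ) * xs g x₀ 0) ∧
      ∀ j : ℕ, j < lam → ¬ (1 ≤ j ∧ j ≤ s - 1 ∧
        xs g x₀ 0 * xs g x₀ (j : ℤ) ≠ xs g x₀ (j : ℤ) * xs g x₀ 0) :=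
    ⟨Nat.find hex, Nat.find_spec hex, fun j hj => Nat.find_min hex hj⟩
  have hmin : ∀ j : ℕ, 1 ≤ j → j < lam →
      xs g x₀ 0 * xs g x₀ (j : ℤ) = xs g x₀ (j : ℤ) * xs g x₀ 0 := by
    intro j h1 hj
    by_contra hne
    exact hmin' j hj ⟨h1, by omega, hne⟩
  have hc0 : ∀ i d : ℤ, 0 ≤ d → d < (lam : ℤ) →
      xs g x₀ i * xs g x₀ (i + d) = xs g x₀ (i + d) * xs g x₀ i := by
    intro i d hd0 hd
    rcases eq_or_lt_of_le hd0 with h | h
    · rw [← h, add_zero]
    · obtain ⟨j, hj⟩ := Int.eq_ofNat_of_zero_le hd0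
      subst hj
      have h1 := hmin j (by omega) (by omega)
      have h3 := (xs_comm_shift (g := g) (x₀ := x₀) 0 (j : ℤ) i).2 h1
      rw [zero_add, add_comm (j : ℤ) i] at h3
      exact h3
  have hcomm : ∀ i j : ℤ, |i - j| < (lam : ℤ) →
      xs g x₀ i * xs g x₀ j = xs g x₀ j * xs g x₀ i := by
    intro i j hij
    rw [abs_lt] at hij
    rcases le_total i j with h | h
    · have h1 := hc0 i (j - i) (by omega) (by omega)
      have e : i + (j - i) = j := by ring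
      rw [e] at h1
      exact h1
    · have h1 := hc0 j (i - j) (by omega) (by omega)
      have e : j + (i - j) = i := by ring
      rw [e] at h1
      exact h1.symm
  have hnc : ∀ i : ℤ, xs g x₀ i * xs g x₀ (i + lam) ≠ xs g x₀ (i + lam) * xs g x₀ i := by
    intro i h
    apply hlnc
    refine (xs_comm_shift (g := g) (x₀ := x₀) 0 (lam : ℤ) i).1 ?_
    rw [zero_add, add_comm (lam : ℤ) i]
    exact h
  have h01 : xs g x₀ 0 * xs g x₀ 1 = xs g x₀ 1 * xs g x₀ 0 := by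
    have h := comm_mem C 0 1 (by norm_num) (by omega)
    rw [Xint_empty (g := g) (x₀ := x₀) (i := 0 + 1) (j := 1 - 1) (by norm_num),
      Subgroup.mem_bot] at h
    have i0 := xs_inv (g := g) C.inv 0
    have i1 := xs_inv (g := g) C.inv 1
    calc xs g x₀ 0 * xs g x₀ 1
        = (xs g x₀ 0 * xs g x₀ 1 * xs g x₀ 0 * xs g x₀ 1) * (xs g x₀ 1)⁻¹ * (xs g x₀ 0)⁻¹ := by
          group
      _ = xs g x₀ 1 * xs g x₀ 0 := by rw [h, one_mul, i1, i0]
  have htwo : 2 ≤ lam := by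
    by_contra hcon
    have h1 : lam = 1 := by omega
    subst h1
    simp only [Nat.cast_one] at hlnc
    exact hlnc h01
  have hle : 2 * lam ≤ s + 1 := by
    by_contra hcon
    obtain ⟨i, hi0, his, hne⟩ := C.nc ((lam : ℤ) - 1) (by omega) (by omega)
    exact hne (hcomm _ _ (by rw [abs_lt]; constructor <;> omega))
  exact ⟨lam, ⟨htwo, hle, hcomm, hnc⟩⟩

end Cfsg.Agent.Lib.Helper55.TUT
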