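import Cfsg.Agent.Lib.Helper55.TutBasic
import Cfsg.Agent.Lib.Helper55.TutCalcComm
/-! Project TUT (Part II of S3385, Tutte's theorem in group form), piece TUT-CalcMu.
Filled by helper28 (job 4133). Original instructions: keep the statement(s), names and namespace
exactly.  You may add auxiliary lemmas above the main theorem(s) in this file (same namespace,
names prefixed `calcMu_`).  Notation: `x_i = xs g x₀ i = g^i x₀ g^(-i)`,
`X[i,j] = Xint g x₀ i j = ⟨x_i, ..., x_j⟩`, `H_i = Hn H g i = g^i H g^(-i)`,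
`Arc H g i j = H_i ⊓ ... ⊓ H_j`.  Basic API: `TutBasic.lean` (mem_Hn, mem_Arc, Arc_mono, Arc_split,
conj_Arc, card_Arc_shift, xs_conj, xs_mul_self, xs_inv, xs_comm_shift, xs_mem_Xint, Xint_le,
Xint_mono, Xint_empty, Xint_succ, Xint_pred, conj_Xint, card_Xint_shift, commute_Xint). -/

set_option autoImplicit false

namespace Cfsg.Agent.Lib.Helper55.TUT

open scoped Pointwise

variable {G : Type*} [Group G]

/-- group computation, abstract form -/
theorem calcMu_key0 (a b y t : G) (hyb : y * b = b * y) (h4 : y * a = t * y)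
    (h2 : t * b = a * b * a * t) (h3 : t * t = 1) :
    y * (a * b * a * b) = (a * b * a * b) * y := by
  calc y * (a * b * a * b) = (y * a) * b * a * b := by group
    _ = (t * y) * b * a * b := by rw [h4]
    _ = t * (y * b) * a * b := by group
    _ = t * (b * y) * a * b := by rw [hyb]
    _ = t * b * (y * a) * b := by group
    _ = t * b * (t * y) * b := by rw [h4]
    _ = t * b * t * (y * b) := by group
    _ = t * b * t * (b * y) := by rw [hyb]
    _ = (t * b) * t * b * y := by group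
    _ = (a * b * a * t) * t * b * y := by rw [h2]
    _ = a * b * a * (t * t) * b * y := by group
    _ = a * b * a * b * y := by rw [h3, mul_one]

/-- if `b` commutes with `y` and with `[a, y]` (involutions `a`, `y`), then `y` commutes with
`[a, b]` -/
theorem calcMu_key (a b y : G) (ha : a * a = 1) (hy : y * y = 1) (hyb : y * b = b * y)
    (heb : b * (a * y * a * y) = (a * y * a * y) * b) :
    y * (a * b * a * b) = (a * b * a * b) * y := by
  have h3 : (y * a * y) * (y * a * y) = 1 := by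
    calc (y * a * y) * (y * a * y) = y * a * (y * y) * a * y := by group
      _ = y * (a * a) * y := by rw [hy]; group
      _ = 1 := by rw [ha, mul_one, hy]
  have h4 : y * a = (y * a * y) * y := by
    calc y * a = y * a * (y * y) := by rw [hy, mul_one]
      _ = (y * a * y) * y := by group
  have h2 : (y * a * y) * b = a * b * a * (y * a * y) := by
    calc (y * a * y) * b = (a * a) * (y * a * y) * b := by rw [ha, one_mul]
      _ = a * ((a * y * a * y) * b) := by group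
      _ = a * (b * (a * y * a * y)) := by rw [heb]
      _ = a * b * a * (y * a * y) := by group
  exact calcMu_key0 a b y (y * a * y) hyb h4 h2 h3

/-- `lam + μ ≥ s - 1`.
Proof: suppose `lam + μ + 2 ≤ s`.  Put `y := x_(lam+μ)`, `c := cc g x₀ lam = x_0 x_lam x_0 x_lam`,
`e := x_0 * y * x_0 * y ∈ X[1, lam+μ-1]` (`comm_mem C 0 (lam+μ)`).  All generators `x_i`,
`1 ≤ i ≤ lam+μ-1`, commute with `x_lam` (`|i - lam| < lam` as `μ ≤ lam - 1`) and with every `x_j`,
`μ ≤ j ≤ ν` (`|i - j| ≤ lam - 1`); so `e` commutes with `x_lam` and with `c ∈ X[μ,ν]`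
(`commute_Xint` twice).  `y` commutes with `x_lam` (`|μ| < lam`).  Since `y x_0 y⁻¹ = e⁻¹ x_0`
(involutions), `y c y⁻¹ = [e⁻¹ x_0, x_lam] = e⁻¹ c e = c`.  On the other hand `c = x_μ * c'` with
`c' ∈ X[μ+1, ν]`, and `y` commutes with every `x_j`, `μ+1 ≤ j ≤ ν` (`0 < lam+μ-j < lam`), hence with
`c'`; so `y c y⁻¹ = (y x_μ y⁻¹) c'`, giving `y x_μ y⁻¹ = x_μ`, i.e. `x_μ x_(μ+lam) = x_(μ+lam) x_μ`,
contradicting `L.nc μ`. -/
theorem lam_mu_bound [Finite G] {g x₀ : G} {s lam : ℕ} (C : Calc g x₀ s) (hs : 6 ≤ s) (L : Lam g x₀ s lam)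
    (μ ν : ℤ) (hμ : 1 ≤ μ) (hμν : μ ≤ ν) (hν : ν ≤ (lam : ℤ) - 1)
    (hc : cc g x₀ lam ∈ Xint g x₀ μ ν)
    (hc' : ∃ c' ∈ Xint g x₀ (μ + 1) ν, cc g x₀ lam = xs g x₀ μ * c') :
    (s : ℤ) ≤ lam + μ + 1 := by
  by_contra hcon
  push Not at hcon
  obtain ⟨c', hc'mem, hc'eq⟩ := hc'
  have ha : xs g x₀ 0 * xs g x₀ 0 = 1 := xs_mul_self C.inv 0
  have hy : xs g x₀ (μ + lam) * xs g x₀ (μ + lam) = 1 := xs_mul_self C.inv _
  have he_mem : xs g x₀ 0 * xs g x₀ (μ + lam) * xs g x₀ 0 * xs g x₀ (μ + lam)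
      ∈ Xint g x₀ (0 + 1) (μ + lam - 1) :=
    comm_mem C 0 (μ + lam) (by omega) (by omega)
  have hyb : xs g x₀ (μ + lam) * xs g x₀ lam = xs g x₀ lam * xs g x₀ (μ + lam) :=
    L.comm (μ + lam) lam (abs_lt.2 ⟨by omega, by omega⟩)
  have heb : xs g x₀ lam * (xs g x₀ 0 * xs g x₀ (μ + lam) * xs g x₀ 0 * xs g x₀ (μ + lam))
      = (xs g x₀ 0 * xs g x₀ (μ + lam) * xs g x₀ 0 * xs g x₀ (μ + lam)) * xs g x₀ lam :=
    commute_Xint (fun l h1 h2 => L.comm lam l (abs_lt.2 ⟨by omega, by omega⟩)) _ he_mem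
  have hyc : xs g x₀ (μ + lam) * cc g x₀ lam = cc g x₀ lam * xs g x₀ (μ + lam) := by
    unfold cc
    exact calcMu_key _ _ _ ha hy hyb heb
  have hyc' : xs g x₀ (μ + lam) * c' = c' * xs g x₀ (μ + lam) :=
    commute_Xint (fun l h1 h2 => L.comm (μ + lam) l (abs_lt.2 ⟨by omega, by omega⟩)) c' hc'mem
  apply L.nc μ
  rw [hc'eq] at hyc
  have h5 : xs g x₀ (μ + lam) * xs g x₀ μ * c' = xs g x₀ μ * xs g x₀ (μ + lam) * c' := by
    calc xs g x₀ (μ + lam) * xs g x₀ μ * c'
        = xs g x₀ (μ + lam) * (xs g x₀ μ * c') := by group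
      _ = xs g x₀ μ * c' * xs g x₀ (μ + lam) := hyc
      _ = xs g x₀ μ * (c' * xs g x₀ (μ + lam)) := by group
      _ = xs g x₀ μ * (xs g x₀ (μ + lam) * c') := by rw [hyc']
      _ = xs g x₀ μ * xs g x₀ (μ + lam) * c' := by group
  exact (mul_right_cancel h5).symm

end Cfsg.Agent.Lib.Helper55.TUT
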