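import Cfsg.Agent.Lib.Helper55.TutBasic
import Cfsg.Agent.Lib.Helper55.TutCalcComm
/-! Project TUT (Part II of S3385, Tutte's theorem in group form), piece TUT-CalcNu.
PLACEHOLDER: replace the `sorry`(s) in this ONE file; keep the statement(s), names and namespace
exactly.  You may add auxiliary lemmas above the main theorem(s) in this file (same namespace,
names prefixed `calcNu_`).  Notation: `x_i = xs g x₀ i = g^i x₀ g^(-i)`,
`X[i,j] = Xint g x₀ i j = ⟨x_i, ..., x_j⟩`, `H_i = Hn H g i = g^i H g^(-i)`,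
`Arc H g i j = H_i ⊓ ... ⊓ H_j`.  Basic API: `TutBasic.lean` (mem_Hn, mem_Arc, Arc_mono, Arc_split,
conj_Arc, card_Arc_shift, xs_conj, xs_mul_self, xs_inv, xs_comm_shift, xs_mem_Xint, Xint_le,
Xint_mono, Xint_empty, Xint_succ, Xint_pred, conj_Xint, card_Xint_shift, commute_Xint). -/

set_option autoImplicit false

namespace Cfsg.Agent.Lib.Helper55.TUT

open scoped Pointwise

variable {G : Type*} [Group G]

/-- `2 * lam - ν ≥ s - 1` (mirror image of `lam_mu_bound`).
Proof: suppose `2 * lam - ν + 2 ≤ s`.  Put `y := x_(ν-lam)` (index `≤ -1`),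
`c := cc g x₀ lam = x_0 x_lam x_0 x_lam`, `e := y * x_lam * y * x_lam`; by
`comm_mem C (ν-lam) lam` (distance `2*lam-ν`), `x_(ν-lam) x_lam x_(ν-lam) x_lam ∈ X[ν-lam+1, lam-1]`,
so `e ∈ X[ν-lam+1, lam-1]`.  All generators `x_i`, `ν-lam+1 ≤ i ≤ lam-1`, commute with `x_0`
(`|i| < lam`) and with every `x_j`, `μ ≤ j ≤ ν` (`|i - j| ≤ lam - 1`); so `e` commutes with `x_0` and
with `c ∈ X[μ,ν]`.  `y` commutes with `x_0` (`|ν - lam| < lam`).  Since `y x_lam y⁻¹ = e x_lam`,
`y c y⁻¹ = [x_0, e x_lam] = e c e⁻¹ = c`.  On the other hand `c = c'' * x_ν` with `c'' ∈ X[μ, ν-1]`,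
and `y` commutes with every `x_j`, `μ ≤ j ≤ ν-1` (`0 < j - (ν - lam) < lam`), hence with `c''`; so
`y x_ν y⁻¹ = x_ν`, i.e. `x_(ν-lam) x_ν = x_ν x_(ν-lam)`, contradicting `L.nc (ν - lam)`
(note `(ν - lam) + lam = ν`). -/
theorem lam_nu_bound [Finite G] {g x₀ : G} {s lam : ℕ} (C : Calc g x₀ s) (hs : 6 ≤ s) (L : Lam g x₀ s lam)
    (μ ν : ℤ) (hμ : 1 ≤ μ) (hμν : μ ≤ ν) (hν : ν ≤ (lam : ℤ) - 1)
    (hc : cc g x₀ lam ∈ Xint g x₀ μ ν)
    (hc'' : ∃ c'' ∈ Xint g x₀ μ (ν - 1), cc g x₀ lam = c'' * xs g x₀ ν) :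
    (s : ℤ) + ν ≤ 2 * lam + 1 := by
  by_contra hcon
  have hlt : 2 * (lam : ℤ) - ν + 2 ≤ s := by omega
  obtain ⟨a, ha⟩ : ∃ a : G, a = xs g x₀ 0 := ⟨_, rfl⟩
  obtain ⟨b, hb⟩ : ∃ b : G, b = xs g x₀ (lam : ℤ) := ⟨_, rfl⟩
  obtain ⟨y, hy⟩ : ∃ y : G, y = xs g x₀ (ν - lam) := ⟨_, rfl⟩
  obtain ⟨e, he⟩ : ∃ e : G, e = y * b * y * b := ⟨_, rfl⟩
  obtain ⟨e', he'⟩ : ∃ e' : G, e' = b * y * b * y := ⟨_, rfl⟩
  obtain ⟨c, hcd⟩ : ∃ c : G, c = cc g x₀ lam := ⟨_, rfl⟩
  have hcab : c = a * b * a * b := by rw [hcd, ha, hb, cc]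
  have hbb : b * b = 1 := by rw [hb]; exact xs_mul_self C.inv _
  have hyy : y * y = 1 := by rw [hy]; exact xs_mul_self C.inv _
  have hya : y * a = a * y := by
    rw [hy, ha]
    exact L.comm _ _ (abs_lt.mpr ⟨by omega, by omega⟩)
  have hemem : e ∈ Xint g x₀ (ν - lam + 1) (lam - 1) := by
    rw [he, hy, hb]
    exact comm_mem C (ν - lam) lam (by omega) (by omega)
  have hae : a * e = e * a := by
    refine commute_Xint (fun l h1 h2 => ?_) e hemem
    rw [ha]
    exact L.comm _ _ (abs_lt.mpr ⟨by omega, by omega⟩)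
  have hcmem : c ∈ Xint g x₀ μ ν := by rw [hcd]; exact hc
  have hec : e * c = c * e := by
    refine commute_Xint (i := μ) (j := ν) (fun l h1 h2 => ?_) c hcmem
    refine (commute_Xint (fun l' h1' h2' => ?_) e hemem).symm
    exact L.comm _ _ (abs_lt.mpr ⟨by omega, by omega⟩)
  have hA : y * b = e * b * y := by
    rw [he]
    calc y * b = y * b * (y * y) := by rw [hyy, mul_one]
      _ = y * b * y * (b * b) * y := by rw [hbb, mul_one]; simp only [mul_assoc]
      _ = y * b * y * b * b * y := by simp only [mul_assoc]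
  have hee' : e * e' = 1 := by
    rw [he, he']
    calc y * b * y * b * (b * y * b * y)
        = y * b * y * (b * b) * y * b * y := by simp only [mul_assoc]
      _ = y * b * (y * y) * b * y := by rw [hbb, mul_one]; simp only [mul_assoc]
      _ = y * (b * b) * y := by rw [hyy, mul_one]; simp only [mul_assoc]
      _ = 1 := by rw [hbb, mul_one, hyy]
  have hB : e * b = b * e' := by
    rw [he, he']
    calc y * b * y * b * b = y * b * y * (b * b) := by simp only [mul_assoc]
      _ = (b * b) * y * b * y := by rw [hbb, mul_one, one_mul]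
      _ = b * (b * y * b * y) := by simp only [mul_assoc]
  have hyc : y * c = c * y := by
    rw [hcab] at hec ⊢
    calc y * (a * b * a * b) = (y * a) * b * a * b := by simp only [mul_assoc]
      _ = (a * y) * b * a * b := by rw [hya]
      _ = a * (y * b) * a * b := by simp only [mul_assoc]
      _ = a * (e * b * y) * a * b := by rw [hA]
      _ = a * e * b * (y * a) * b := by simp only [mul_assoc]
      _ = a * e * b * (a * y) * b := by rw [hya]
      _ = a * e * b * a * (y * b) := by simp only [mul_assoc]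
      _ = a * e * b * a * (e * b * y) := by rw [hA]
      _ = (a * e) * b * a * (e * b) * y := by simp only [mul_assoc]
      _ = (e * a) * b * a * (b * e') * y := by rw [hae, hB]
      _ = (e * (a * b * a * b)) * e' * y := by simp only [mul_assoc]
      _ = ((a * b * a * b) * e) * e' * y := by rw [hec]
      _ = (a * b * a * b) * (e * e') * y := by simp only [mul_assoc]
      _ = a * b * a * b * y := by rw [hee', mul_one]
  obtain ⟨c'', hc''mem, hc''eq⟩ := hc''
  have hyc'' : y * c'' = c'' * y := by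
    refine commute_Xint (fun l h1 h2 => ?_) c'' hc''mem
    rw [hy]
    exact L.comm _ _ (abs_lt.mpr ⟨by omega, by omega⟩)
  have hfin : y * xs g x₀ ν = xs g x₀ ν * y := by
    rw [hcd, hc''eq] at hyc
    have h1 : c'' * (y * xs g x₀ ν) = c'' * (xs g x₀ ν * y) := by
      calc c'' * (y * xs g x₀ ν) = (c'' * y) * xs g x₀ ν := by simp only [mul_assoc]
        _ = (y * c'') * xs g x₀ ν := by rw [hyc'']
        _ = y * (c'' * xs g x₀ ν) := by simp only [mul_assoc]
        _ = c'' * xs g x₀ ν * y := hyc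
        _ = c'' * (xs g x₀ ν * y) := by simp only [mul_assoc]
    exact mul_left_cancel h1
  have hnc := L.nc (ν - lam)
  rw [sub_add_cancel, ← hy] at hnc
  exact hnc hfin

end Cfsg.Agent.Lib.Helper55.TUT
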