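import Cfsg.Agent.Lib.Helper55.TutBasic
import Cfsg.Agent.Lib.Helper55.TutCalcLam
import Cfsg.Agent.Lib.Helper55.TutCalcC
import Cfsg.Agent.Lib.Helper55.TutCalcMu
import Cfsg.Agent.Lib.Helper55.TutCalcNu
/-! Project TUT (Part II of S3385, Tutte's theorem in group form), piece TUT-CalcAsm.
PLACEHOLDER: replace the `sorry`(s) in this ONE file; keep the statement(s), names and namespace
exactly.  You may add auxiliary lemmas above the main theorem(s) in this file (same namespace,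
names prefixed `calcAsm_`).  Notation: `x_i = xs g x₀ i = g^i x₀ g^(-i)`,
`X[i,j] = Xint g x₀ i j = ⟨x_i, ..., x_j⟩`, `H_i = Hn H g i = g^i H g^(-i)`,
`Arc H g i j = H_i ⊓ ... ⊓ H_j`.  Basic API: `TutBasic.lean` (mem_Hn, mem_Arc, Arc_mono, Arc_split,
conj_Arc, card_Arc_shift, xs_conj, xs_mul_self, xs_inv, xs_comm_shift, xs_mem_Xint, Xint_le,
Xint_mono, Xint_empty, Xint_succ, Xint_pred, conj_Xint, card_Xint_shift, commute_Xint). -/

set_option autoImplicit false

namespace Cfsg.Agent.Lib.Helper55.TUT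

open scoped Pointwise

variable {G : Type*} [Group G]

theorem calcAsm_mem_single {g x₀ : G} (h : x₀ * x₀ = 1) (i : ℤ) (c : G)
    (hc : c ∈ Xint g x₀ i i) : c = 1 ∨ c = xs g x₀ i := by
  have hle : Xint g x₀ i i ≤ Subgroup.zpowers (xs g x₀ i) := by
    apply Xint_le
    intro l h1 h2
    have hl : l = i := le_antisymm h2 h1
    rw [hl]
    exact Subgroup.mem_zpowers _
  obtain ⟨k, hk⟩ := Subgroup.mem_zpowers_iff.mp (hle hc)
  have hsq : xs g x₀ i ^ (2 : ℤ) = 1 := by
    rw [zpow_two]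
    exact xs_mul_self h i
  rcases Int.even_or_odd' k with ⟨j, rfl | rfl⟩
  · left
    rw [← hk, zpow_mul, hsq, one_zpow]
  · right
    rw [← hk, zpow_add, zpow_mul, hsq, one_zpow, one_mul, zpow_one]

theorem calcAsm_comm_of {a b : G} (ha : a * a = 1) (hb : b * b = 1) (h : a * b * a * b = 1) :
    a * b = b * a := by
  have h1 : b * a = a * (a * b * a * b) * b := by
    calc b * a = (a * a) * (b * a) * (b * b) := by rw [ha, hb, one_mul, mul_one]
      _ = a * (a * b * a * b) * b := by group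
  rw [h1, h, mul_one]

/-- For `s ≥ 6` the calculus forces `s = 7`, `lam = 4`, `[x_0, x_4] = x_2`.
Proof: `exists_lam`, `exists_mu_nu`, `lam_mu_bound`, `lam_nu_bound`; with `2 * lam ≤ s + 1`, `μ ≤ ν`,
`6 ≤ s`: `omega` gives `s = 7`, `lam = 4`, `μ = 2`, `ν = 2`.  Then `cc g x₀ 4 ∈ X[2,2]`, which is
`zpowers x_2 = {1, x_2}` (`x_2` an involution: `xs_mul_self C.inv`); `cc ≠ 1` (else `x_0`, `x_4`
commute, contradicting `L.nc 0`); so `cc = x_2`.  The commutation statement is `L.comm` with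
`lam = 4`. -/
theorem seven_struct [Finite G] {g x₀ : G} {s : ℕ} (C : Calc g x₀ s) (hs : 6 ≤ s) :
    s = 7 ∧ (∀ i j : ℤ, |i - j| < 4 → xs g x₀ i * xs g x₀ j = xs g x₀ j * xs g x₀ i) ∧
      xs g x₀ 0 * xs g x₀ 4 * xs g x₀ 0 * xs g x₀ 4 = xs g x₀ 2 := by
  obtain ⟨lam, L⟩ := exists_lam C hs
  obtain ⟨μ, ν, hμ, hμν, hν, hc, hc', hc''⟩ := exists_mu_nu C hs L
  have h1 := lam_mu_bound C hs L μ ν hμ hμν hν hc hc'
  have h2 := lam_nu_bound C hs L μ ν hμ hμν hν hc hc''
  have hle := L.le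
  have htwo := L.two
  have hs7 : s = 7 := by omega
  have hlam : lam = 4 := by omega
  have hμ2 : μ = 2 := by omega
  have hν2 : ν = 2 := by omega
  subst hlam
  subst hμ2
  subst hν2
  have e4 : ((4 : ℕ) : ℤ) = 4 := by norm_num
  refine ⟨hs7, ?_, ?_⟩
  · intro i j hij
    exact L.comm i j (by rw [e4]; exact hij)
  · have hcc : cc g x₀ 4 = xs g x₀ 0 * xs g x₀ 4 * xs g x₀ 0 * xs g x₀ 4 := by
      unfold cc
      rw [e4]
    rw [← hcc]
    rcases calcAsm_mem_single C.inv 2 _ hc with h | h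
    · exfalso
      have hnc := L.nc 0
      rw [e4, zero_add] at hnc
      rw [hcc] at h
      exact hnc (calcAsm_comm_of (xs_mul_self C.inv 0) (xs_mul_self C.inv 4) h)
    · exact h

end Cfsg.Agent.Lib.Helper55.TUT
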