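import Cfsg.Agent.Lib.Helper55.TutBasic
import Cfsg.Agent.Lib.Helper55.TutCalcComm
import Cfsg.Agent.Lib.Helper55.TutCalcIdxL
import Cfsg.Agent.Lib.Helper55.TutCalcIdxR
/-! Project TUT (Part II of S3385, Tutte's theorem in group form), piece TUT-CalcE.
PLACEHOLDER: replace the `sorry`(s) in this ONE file; keep the statement(s), names and namespace
exactly.  You may add auxiliary lemmas above the main theorem(s) in this file (same namespace,
names prefixed `calcE_`).  Notation: `x_i = xs g x₀ i = g^i x₀ g^(-i)`,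
`X[i,j] = Xint g x₀ i j = ⟨x_i, ..., x_j⟩`, `H_i = Hn H g i = g^i H g^(-i)`,
`Arc H g i j = H_i ⊓ ... ⊓ H_j`.  Basic API: `TutBasic.lean` (mem_Hn, mem_Arc, Arc_mono, Arc_split,
conj_Arc, card_Arc_shift, xs_conj, xs_mul_self, xs_inv, xs_comm_shift, xs_mem_Xint, Xint_le,
Xint_mono, Xint_empty, Xint_succ, Xint_pred, conj_Xint, card_Xint_shift, commute_Xint). -/

set_option autoImplicit false

namespace Cfsg.Agent.Lib.Helper55.TUT

open scoped Pointwise

variable {G : Type*} [Group G]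

theorem calcE_ne [Finite G] {g x₀ : G} (C : Calc g x₀ 7) (i : ℤ) : xs g x₀ i ≠ 1 := by
  intro h
  have hx0 : x₀ = 1 := by
    unfold xs at h
    have e1 : x₀ = (g ^ i)⁻¹ * (g ^ i * x₀ * (g ^ i)⁻¹) * g ^ i := by group
    rw [e1, h, mul_one, inv_mul_cancel]
  have hcard := C.card 0 (by norm_num)
  simp only [Nat.cast_zero, zero_add, pow_one] at hcard
  have hbot : Xint g x₀ 0 0 = ⊥ := by
    rw [eq_bot_iff]
    refine Xint_le fun l _ _ => ?_
    rw [Subgroup.mem_bot]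
    unfold xs
    rw [hx0]
    group
  rw [hbot, Subgroup.card_bot] at hcard
  norm_num at hcard

theorem calcE_sq {g x₀ : G} (hinv : x₀ * x₀ = 1)
    (hcomm : ∀ i j : ℤ, |i - j| < 4 → xs g x₀ i * xs g x₀ j = xs g x₀ j * xs g x₀ i) :
    ∀ y ∈ Xint g x₀ 1 4, y * y = 1 := by
  have hab : ∀ y ∈ Xint g x₀ 1 4, ∀ z ∈ Xint g x₀ 1 4, y * z = z * y := by
    intro y hy
    have h1 : ∀ l : ℤ, 1 ≤ l → l ≤ 4 → y * xs g x₀ l = xs g x₀ l * y := by
      intro l hl1 hl2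
      have h2 : ∀ z ∈ Xint g x₀ 1 4, xs g x₀ l * z = z * xs g x₀ l :=
        commute_Xint (fun m hm1 hm2 => hcomm l m (by rw [abs_lt]; constructor <;> omega))
      exact (h2 y hy).symm
    exact commute_Xint h1
  let T : Subgroup G :=
    { carrier := {y | y ∈ Xint g x₀ 1 4 ∧ y * y = 1}
      mul_mem' := by
        rintro a b ⟨ha, ha2⟩ ⟨hb, hb2⟩
        refine ⟨mul_mem ha hb, ?_⟩
        have hc := hab a ha b hb
        calc a * b * (a * b) = a * (b * a) * b := by simp only [mul_assoc]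
          _ = a * (a * b) * b := by rw [hc]
          _ = (a * a) * (b * b) := by simp only [mul_assoc]
          _ = 1 := by rw [ha2, hb2, mul_one]
      one_mem' := ⟨one_mem _, mul_one 1⟩
      inv_mem' := by
        rintro a ⟨ha, ha2⟩
        refine ⟨inv_mem ha, ?_⟩
        rw [← mul_inv_rev, ha2, inv_one] }
  have hle : Xint g x₀ 1 4 ≤ T :=
    Xint_le fun l h1 h2 => ⟨xs_mem_Xint h1 h2, xs_mul_self hinv l⟩
  intro y hy
  exact (hle hy).2

theorem calcE_conj_a {a f : G} (ha : a * a = 1) (hf : f * f = 1) :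
    a * (a * f * a * f) * a = (a * f * a * f)⁻¹ := by
  have ha' : a⁻¹ = a := inv_eq_of_mul_eq_one_left ha
  have hf' : f⁻¹ = f := inv_eq_of_mul_eq_one_left hf
  rw [mul_inv_rev, mul_inv_rev, mul_inv_rev, ha', hf']
  simp only [mul_assoc]
  rw [← mul_assoc a a, ha, one_mul]

theorem calcE_conj_f {a f : G} (ha : a * a = 1) (hf : f * f = 1) :
    f * (a * f * a * f) * f = (a * f * a * f)⁻¹ := by
  have ha' : a⁻¹ = a := inv_eq_of_mul_eq_one_left ha
  have hf' : f⁻¹ = f := inv_eq_of_mul_eq_one_left hf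
  rw [mul_inv_rev, mul_inv_rev, mul_inv_rev, ha', hf']
  simp only [mul_assoc]
  rw [hf, mul_one]

theorem calcE_a {a d e : G} (ha : a * a = 1) (hd : d * d = 1)
    (hc : a * (e * d) = e * d * a) (hae : a * e * a = e) : a * d * a * d = 1 := by
  have h1 : a * e = e * a := by
    have h := congrArg (fun t => t * a) hae
    simp only [mul_assoc] at h
    rw [ha, mul_one] at h
    exact h
  have h2 : a * d = d * a := by
    have h3 : e * (a * d) = e * (d * a) := by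
      rw [← mul_assoc, ← h1, mul_assoc, hc, mul_assoc]
    exact mul_left_cancel h3
  calc a * d * a * d = a * (d * a) * d := by simp only [mul_assoc]
    _ = a * (a * d) * d := by rw [h2]
    _ = (a * a) * (d * d) := by simp only [mul_assoc]
    _ = 1 := by rw [ha, hd, mul_one]

theorem calcE_b {f b e : G} (hf : f * f = 1) (hb : b * b = 1)
    (hc : f * (b * e) = b * e * f) (hfe : f * e * f = e) : b * f * b * f = 1 := by
  have h1 : f * e = e * f := by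
    have h := congrArg (fun t => t * f) hfe
    simp only [mul_assoc] at h
    rw [hf, mul_one] at h
    exact h
  have h2 : f * b = b * f := by
    have h3 : f * b * e = b * f * e := by
      rw [mul_assoc, hc, mul_assoc b e f, ← h1, mul_assoc]
    exact mul_right_cancel h3
  calc b * f * b * f = b * (f * b) * f := by simp only [mul_assoc]
    _ = b * (b * f) * f := by rw [h2]
    _ = (b * b) * (f * f) := by simp only [mul_assoc]
    _ = 1 := by rw [hb, hf, mul_one]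

theorem calcE_conj4 {u a d c : G} (h : a * d * a * d = c) :
    (u * a * u⁻¹) * (u * d * u⁻¹) * (u * a * u⁻¹) * (u * d * u⁻¹) = u * c * u⁻¹ := by
  rw [← h]
  group

/-- `s = 7`: `e := [x_0, x_5] ∈ ⟨x_2, x_3⟩`.
Proof: `e ∈ X[1,4]` (`comm_mem C 0 5`).  The generators of `X[1,4]` commute pairwise (`hcomm`), so
`X[1,4]` is abelian, and `e⁻¹ = x_5 x_0 x_5 x_0`.  `x_0 e x_0 = x_5 x_0 x_5 x_0 = e⁻¹` and likewise
`x_5 e x_5 = e⁻¹`.  Also `e * e = 1`: `e` lies in the abelian group `X[1,4]` generated by involutions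
(or: `coset` normal forms).  `x₀ ≠ 1` since `Nat.card (Xint g x₀ 0 0) = 2` (`C.card 0`), hence
`x_i ≠ 1` for all `i`.
(a) `e ∈ X[1,3]`: by `coset_right` on `[1,4]`, otherwise `e₁ := e * x_4 ∈ X[1,3]`, `e = e₁ * x_4`;
`x_0` commutes with `X[1,3]` (`commute_Xint`, `hcomm`) and `x_0 x_4 x_0 = x_2 x_4` (from `h4`), so
`x_0 e x_0 = e₁ x_2 x_4 = e x_2` (`x_2`, `x_4` commute); with `x_0 e x_0 = e⁻¹ = e` this gives
`x_2 = 1`, contradiction.
(b) `e ∈ X[2,3]`: by `coset_left` on `[1,3]`, otherwise `e₂ := x_1 * e ∈ X[2,3]`, `e = x_1 * e₂`;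
`x_5` commutes with `X[2,3]`, and `x_5 x_1 x_5 = x_1 x_3` (from `h4` shifted by 1:
`x_1 x_5 x_1 x_5 = x_3`, via `xs_conj`), so `x_5 e x_5 = x_1 x_3 e₂ = e x_3`; with
`x_5 e x_5 = e⁻¹ = e` this gives `x_3 = 1`, contradiction. -/
theorem e_mem [Finite G] {g x₀ : G} (C : Calc g x₀ 7)
    (hcomm : ∀ i j : ℤ, |i - j| < 4 → xs g x₀ i * xs g x₀ j = xs g x₀ j * xs g x₀ i)
    (h4 : xs g x₀ 0 * xs g x₀ 4 * xs g x₀ 0 * xs g x₀ 4 = xs g x₀ 2) :
    xs g x₀ 0 * xs g x₀ 5 * xs g x₀ 0 * xs g x₀ 5 ∈ Xint g x₀ 2 3 := by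
  have hsq : ∀ i : ℤ, xs g x₀ i * xs g x₀ i = 1 := fun i => xs_mul_self C.inv i
  have hne : ∀ i : ℤ, xs g x₀ i ≠ 1 := calcE_ne C
  have he14 : xs g x₀ 0 * xs g x₀ 5 * xs g x₀ 0 * xs g x₀ 5 ∈ Xint g x₀ 1 4 := by
    have h := comm_mem C 0 5 (by norm_num) (by norm_num)
    have e1 : (0 : ℤ) + 1 = 1 := by norm_num
    have e2 : (5 : ℤ) - 1 = 4 := by norm_num
    rw [e1, e2] at h
    exact h
  have hee := calcE_sq C.inv hcomm _ he14
  have hinv : (xs g x₀ 0 * xs g x₀ 5 * xs g x₀ 0 * xs g x₀ 5)⁻¹ =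
      xs g x₀ 0 * xs g x₀ 5 * xs g x₀ 0 * xs g x₀ 5 := inv_eq_of_mul_eq_one_left hee
  have h0e : xs g x₀ 0 * (xs g x₀ 0 * xs g x₀ 5 * xs g x₀ 0 * xs g x₀ 5) * xs g x₀ 0 =
      xs g x₀ 0 * xs g x₀ 5 * xs g x₀ 0 * xs g x₀ 5 :=
    (calcE_conj_a (hsq 0) (hsq 5)).trans hinv
  have h5e : xs g x₀ 5 * (xs g x₀ 0 * xs g x₀ 5 * xs g x₀ 0 * xs g x₀ 5) * xs g x₀ 5 =
      xs g x₀ 0 * xs g x₀ 5 * xs g x₀ 0 * xs g x₀ 5 :=
    (calcE_conj_f (hsq 0) (hsq 5)).trans hinv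
  have he13 : xs g x₀ 0 * xs g x₀ 5 * xs g x₀ 0 * xs g x₀ 5 ∈ Xint g x₀ 1 3 := by
    have h := coset_right C 1 4 (by norm_num) (by norm_num) _ he14
    have e2 : (4 : ℤ) - 1 = 3 := by norm_num
    rw [e2] at h
    rcases h with h | h
    · exact h
    · exfalso
      have hc : xs g x₀ 0 * (xs g x₀ 0 * xs g x₀ 5 * xs g x₀ 0 * xs g x₀ 5 * xs g x₀ 4) =
          xs g x₀ 0 * xs g x₀ 5 * xs g x₀ 0 * xs g x₀ 5 * xs g x₀ 4 * xs g x₀ 0 :=
        commute_Xint (fun l h1 h2 => hcomm 0 l (by rw [abs_lt]; constructor <;> omega)) _ h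
      have h1 := calcE_a (hsq 0) (hsq 4) hc h0e
      rw [h4] at h1
      exact hne 2 h1
  have h := coset_left C 1 3 (by norm_num) (by norm_num) _ he13
  have e1 : (1 : ℤ) + 1 = 2 := by norm_num
  rw [e1] at h
  rcases h with h | h
  · exact h
  · exfalso
    have hc : xs g x₀ 5 * (xs g x₀ 1 * (xs g x₀ 0 * xs g x₀ 5 * xs g x₀ 0 * xs g x₀ 5)) =
        xs g x₀ 1 * (xs g x₀ 0 * xs g x₀ 5 * xs g x₀ 0 * xs g x₀ 5) * xs g x₀ 5 :=
      commute_Xint (fun l h1 h2 => hcomm 5 l (by rw [abs_lt]; constructor <;> omega)) _ h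
    have h1 := calcE_b (hsq 5) (hsq 1) hc h5e
    have k0 : g ^ (1 : ℤ) * xs g x₀ 0 * (g ^ (1 : ℤ))⁻¹ = xs g x₀ 1 := by
      have k := xs_conj g x₀ 0 1
      rw [show (0 : ℤ) + 1 = 1 by norm_num] at k
      exact k
    have k4 : g ^ (1 : ℤ) * xs g x₀ 4 * (g ^ (1 : ℤ))⁻¹ = xs g x₀ 5 := by
      have k := xs_conj g x₀ 4 1
      rw [show (4 : ℤ) + 1 = 5 by norm_num] at k
      exact k
    have k2 : g ^ (1 : ℤ) * xs g x₀ 2 * (g ^ (1 : ℤ))⁻¹ = xs g x₀ 3 := by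
      have k := xs_conj g x₀ 2 1
      rw [show (2 : ℤ) + 1 = 3 by norm_num] at k
      exact k
    have h4' := calcE_conj4 (u := g ^ (1 : ℤ)) h4
    rw [k0, k4, k2] at h4'
    rw [h4'] at h1
    exact hne 3 h1

end Cfsg.Agent.Lib.Helper55.TUT
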