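import Cfsg.Agent.Lib.Helper55.TutBasic
import Cfsg.Agent.Lib.Helper55.TutCalcIdxR
/-! Project TUT (Part II of S3385, Tutte's theorem in group form), piece TUT-CalcFinal
(filled by helper74).  Notation: `x_i = xs g x₀ i = g^i x₀ g^(-i)`,
`X[i,j] = Xint g x₀ i j = ⟨x_i, ..., x_j⟩`, `H_i = Hn H g i = g^i H g^(-i)`,
`Arc H g i j = H_i ⊓ ... ⊓ H_j`.  Basic API: `TutBasic.lean`. -/

set_option autoImplicit false

namespace Cfsg.Agent.Lib.Helper55.TUT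

open scoped Pointwise

variable {G : Type*} [Group G]

/-- the elements normalising `Z` and acting trivially on the cosets `Z x_j`, `1 ≤ j ≤ 5`. -/
def calcFinal_T (Z : Subgroup G) (x : ℤ → G) : Subgroup G where
  carrier := {h | h ∈ Subgroup.normalizer (Z : Set G) ∧
    ∀ j : ℤ, 1 ≤ j → j ≤ 5 → h * x j * h⁻¹ * (x j)⁻¹ ∈ Z}
  mul_mem' := by
    rintro a b ⟨ha, ha'⟩ ⟨hb, hb'⟩
    refine ⟨mul_mem ha hb, fun j h1 h2 => ?_⟩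
    have e : a * b * x j * (a * b)⁻¹ * (x j)⁻¹ =
        (a * (b * x j * b⁻¹ * (x j)⁻¹) * a⁻¹) * (a * x j * a⁻¹ * (x j)⁻¹) := by group
    rw [e]
    exact Z.mul_mem ((Subgroup.mem_normalizer_iff.mp ha _).mp (hb' j h1 h2)) (ha' j h1 h2)
  one_mem' := by
    refine ⟨one_mem _, fun j _ _ => ?_⟩
    simp
  inv_mem' := by
    rintro a ⟨ha, ha'⟩
    refine ⟨inv_mem ha, fun j h1 h2 => ?_⟩
    have e : a⁻¹ * x j * a⁻¹⁻¹ * (x j)⁻¹ = a⁻¹ * (a * x j * a⁻¹ * (x j)⁻¹)⁻¹ * a⁻¹⁻¹ := by group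
    rw [e]
    exact (Subgroup.mem_normalizer_iff.mp (inv_mem ha) _).mp (Z.inv_mem (ha' j h1 h2))

theorem calcFinal_shift (g x₀ : G) (a b k : ℤ) :
    g ^ k * (xs g x₀ a * xs g x₀ b * xs g x₀ a * xs g x₀ b) * (g ^ k)⁻¹ =
      xs g x₀ (a + k) * xs g x₀ (b + k) * xs g x₀ (a + k) * xs g x₀ (b + k) := by
  rw [← xs_conj g x₀ a k, ← xs_conj g x₀ b k]
  group

/-- `s = 7` is impossible.
Proof: `Z := X[2,4]`.  Let `T` be the set of `h : G` with `h Z h⁻¹ = Z` (i.e. `h ∈ Z.normalizer`) and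
`h * x_j * h⁻¹ * x_j⁻¹ ∈ Z` for `j = 1, ..., 5`.  `T` is closed under products and inverses
(`h h' x_j (h h')⁻¹ x_j⁻¹ = h (h' x_j h'⁻¹ x_j⁻¹) h⁻¹ * (h x_j h⁻¹ x_j⁻¹)`), so it is (the carrier of)
a subgroup.  Each `x_i`, `0 ≤ i ≤ 6`, lies in `T`:
* normalizer: `x_i x_j x_i = x_j` for `|i - j| ≤ 3`; `x_0 x_4 x_0 = x_2 x_4` (`h4`);
  `x_6 x_2 x_6 = x_2 x_4` (`h4` shifted by 2: `x_2 x_6 x_2 x_6 = x_4`).
* commutators `x_i x_j x_i x_j` (`x_j⁻¹ = x_j`), `1 ≤ j ≤ 5`: trivial for `|i - j| ≤ 3`;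
  `(0,4) ↦ x_2`, `(1,5) ↦ x_3`, `(5,1) ↦ x_3⁻¹`, `(6,2) ↦ x_4⁻¹` (shifts of `h4`);
  `(0,5) ↦ e ∈ X[2,3] ≤ Z` (`he`); `(6,1) ↦` inverse of `x_1 x_6 x_1 x_6 ∈ X[3,4] ≤ Z`
  (`he` shifted by 1 via `xs_conj` / `conj_Xint`).
Hence `X[0,6] ≤ T` (`Xint_le`).  `hrv` (the reversal hypothesis) gives `h ∈ X[0,6]` with `h x_1 h⁻¹ = x_5`; so
`x_5 * x_1⁻¹ ∈ Z`, i.e. `x_5 ∈ Z * x_1 ⊆ X[1,4]`, contradicting `xs_not_mem_right C 1 5`. -/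
theorem seven_false [Finite G] {g x₀ : G} (C : Calc g x₀ 7)
    (hcomm : ∀ i j : ℤ, |i - j| < 4 → xs g x₀ i * xs g x₀ j = xs g x₀ j * xs g x₀ i)
    (h4 : xs g x₀ 0 * xs g x₀ 4 * xs g x₀ 0 * xs g x₀ 4 = xs g x₀ 2)
    (he : xs g x₀ 0 * xs g x₀ 5 * xs g x₀ 0 * xs g x₀ 5 ∈ Xint g x₀ 2 3)
    (hrv : ∃ h ∈ Xint g x₀ 0 6, h * xs g x₀ 1 * h⁻¹ = xs g x₀ 5) : False := by
  have hinv : ∀ i : ℤ, (xs g x₀ i)⁻¹ = xs g x₀ i := fun i => xs_inv C.inv i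
  have hsq : ∀ i : ℤ, xs g x₀ i * xs g x₀ i = 1 := fun i => xs_mul_self C.inv i
  have hcomm' : ∀ i j : ℤ, i - j < 4 → j - i < 4 →
      xs g x₀ i * xs g x₀ j = xs g x₀ j * xs g x₀ i :=
    fun i j h1 h2 => hcomm i j (abs_lt.mpr ⟨by omega, by omega⟩)
  have h4s : ∀ k : ℤ, xs g x₀ (0 + k) * xs g x₀ (4 + k) * xs g x₀ (0 + k) * xs g x₀ (4 + k) =
      xs g x₀ (2 + k) := by
    intro k
    rw [← calcFinal_shift, h4, xs_conj]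
  have hes : ∀ k : ℤ, xs g x₀ (0 + k) * xs g x₀ (5 + k) * xs g x₀ (0 + k) * xs g x₀ (5 + k) ∈
      Xint g x₀ (2 + k) (3 + k) := by
    intro k
    rw [← calcFinal_shift, ← conj_Xint]
    have h1 := Subgroup.smul_mem_pointwise_smul _ (MulAut.conj (g ^ k)) _ he
    rwa [MulAut.smul_def, MulAut.conj_apply] at h1
  have h15 : xs g x₀ 1 * xs g x₀ 5 * xs g x₀ 1 * xs g x₀ 5 = xs g x₀ 3 := by
    have h1 := h4s 1
    norm_num at h1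
    exact h1
  have h26 : xs g x₀ 2 * xs g x₀ 6 * xs g x₀ 2 * xs g x₀ 6 = xs g x₀ 4 := by
    have h1 := h4s 2
    norm_num at h1
    exact h1
  have h16 : xs g x₀ 1 * xs g x₀ 6 * xs g x₀ 1 * xs g x₀ 6 ∈ Xint g x₀ 3 4 := by
    have h1 := hes 1
    norm_num at h1
    exact h1
  have f04 : xs g x₀ 0 * xs g x₀ 4 * xs g x₀ 0 = xs g x₀ 2 * xs g x₀ 4 := by
    calc xs g x₀ 0 * xs g x₀ 4 * xs g x₀ 0
        = (xs g x₀ 0 * xs g x₀ 4 * xs g x₀ 0 * xs g x₀ 4) * (xs g x₀ 4)⁻¹ := by group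
      _ = xs g x₀ 2 * xs g x₀ 4 := by rw [h4, hinv]
  have f62 : xs g x₀ 6 * xs g x₀ 2 * xs g x₀ 6 = xs g x₀ 2 * xs g x₀ 4 := by
    calc xs g x₀ 6 * xs g x₀ 2 * xs g x₀ 6
        = (xs g x₀ 2)⁻¹ * (xs g x₀ 2 * xs g x₀ 6 * xs g x₀ 2 * xs g x₀ 6) := by group
      _ = xs g x₀ 2 * xs g x₀ 4 := by rw [h26, hinv]
  set Z := Xint g x₀ 2 4 with hZ
  have hmemZ : ∀ l : ℤ, 2 ≤ l → l ≤ 4 → xs g x₀ l ∈ Z := fun l h1 h2 => xs_mem_Xint h1 h2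
  -- conjugates of the generators of `Z`
  have hconj : ∀ i : ℤ, 0 ≤ i → i ≤ 6 → ∀ l : ℤ, 2 ≤ l → l ≤ 4 →
      xs g x₀ i * xs g x₀ l * (xs g x₀ i)⁻¹ ∈ Z := by
    intro i hi0 hi6 l hl2 hl4
    rw [hinv i]
    by_cases hc : i - l < 4 ∧ l - i < 4
    · rw [hcomm' i l hc.1 hc.2, mul_assoc, hsq, mul_one]
      exact hmemZ l hl2 hl4
    · have h1 : (i = 0 ∧ l = 4) ∨ (i = 6 ∧ l = 2) := by omega
      rcases h1 with ⟨rfl, rfl⟩ | ⟨rfl, rfl⟩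
      · rw [f04]
        exact Z.mul_mem (hmemZ 2 (by norm_num) (by norm_num)) (hmemZ 4 (by norm_num) (by norm_num))
      · rw [f62]
        exact Z.mul_mem (hmemZ 2 (by norm_num) (by norm_num)) (hmemZ 4 (by norm_num) (by norm_num))
  have hle : ∀ i : ℤ, 0 ≤ i → i ≤ 6 → ∀ z ∈ Z, xs g x₀ i * z * (xs g x₀ i)⁻¹ ∈ Z := by
    intro i hi0 hi6 z hz
    have h1 : Z ≤ Z.comap (MulAut.conj (xs g x₀ i)).toMonoidHom := by
      refine Xint_le (S := Z.comap (MulAut.conj (xs g x₀ i)).toMonoidHom) (fun l h1 h2 => ?_)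
      rw [Subgroup.mem_comap]
      show MulAut.conj (xs g x₀ i) (xs g x₀ l) ∈ Z
      rw [MulAut.conj_apply]
      exact hconj i hi0 hi6 l h1 h2
    have h2 := h1 hz
    rw [Subgroup.mem_comap] at h2
    have h3 : (MulAut.conj (xs g x₀ i)).toMonoidHom z = xs g x₀ i * z * (xs g x₀ i)⁻¹ := rfl
    rw [h3] at h2
    exact h2
  have hN : ∀ i : ℤ, 0 ≤ i → i ≤ 6 → xs g x₀ i ∈ Subgroup.normalizer (Z : Set G) := by
    intro i hi0 hi6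
    rw [Subgroup.mem_normalizer_iff]
    intro z
    constructor
    · exact hle i hi0 hi6 z
    · intro hz
      have h1 := hle i hi0 hi6 _ hz
      have h2 : xs g x₀ i * (xs g x₀ i * z * (xs g x₀ i)⁻¹) * (xs g x₀ i)⁻¹ = z := by
        rw [hinv]
        have h3 : xs g x₀ i * (xs g x₀ i * z * xs g x₀ i) * xs g x₀ i =
            (xs g x₀ i * xs g x₀ i) * z * (xs g x₀ i * xs g x₀ i) := by group
        rw [h3, hsq, one_mul, mul_one]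
      rw [h2] at h1
      exact h1
  have hrev : ∀ a b : ℤ, xs g x₀ b * xs g x₀ a * xs g x₀ b * xs g x₀ a =
      (xs g x₀ a * xs g x₀ b * xs g x₀ a * xs g x₀ b)⁻¹ := by
    intro a b
    simp only [mul_inv_rev, hinv, mul_assoc]
  have hC : ∀ i : ℤ, 0 ≤ i → i ≤ 6 → ∀ j : ℤ, 1 ≤ j → j ≤ 5 →
      xs g x₀ i * xs g x₀ j * (xs g x₀ i)⁻¹ * (xs g x₀ j)⁻¹ ∈ Z := by
    intro i hi0 hi6 j hj1 hj5
    rw [hinv i, hinv j]
    by_cases hc : i - j < 4 ∧ j - i < 4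
    · have h1 : xs g x₀ i * xs g x₀ j * xs g x₀ i * xs g x₀ j = 1 := by
        rw [hcomm' i j hc.1 hc.2, mul_assoc (xs g x₀ j), hsq, mul_one, hsq]
      rw [h1]
      exact Z.one_mem
    · have h1 : (i = 0 ∧ j = 4) ∨ (i = 0 ∧ j = 5) ∨ (i = 1 ∧ j = 5) ∨ (i = 5 ∧ j = 1) ∨
          (i = 6 ∧ j = 1) ∨ (i = 6 ∧ j = 2) := by omega
      rcases h1 with ⟨rfl, rfl⟩ | ⟨rfl, rfl⟩ | ⟨rfl, rfl⟩ | ⟨rfl, rfl⟩ | ⟨rfl, rfl⟩ | ⟨rfl, rfl⟩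
      · rw [h4]
        exact hmemZ 2 (by norm_num) (by norm_num)
      · exact Xint_mono (le_refl _) (by norm_num) he
      · rw [h15]
        exact hmemZ 3 (by norm_num) (by norm_num)
      · rw [hrev 1 5, h15]
        exact Z.inv_mem (hmemZ 3 (by norm_num) (by norm_num))
      · rw [hrev 1 6]
        exact Z.inv_mem (Xint_mono (by norm_num) (le_refl _) h16)
      · rw [hrev 2 6, h26]
        exact Z.inv_mem (hmemZ 4 (by norm_num) (by norm_num))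
  have hX : Xint g x₀ 0 6 ≤ calcFinal_T Z (xs g x₀) :=
    Xint_le (fun l h1 h2 => ⟨hN l h1 h2, fun j hj1 hj5 => hC l h1 h2 j hj1 hj5⟩)
  obtain ⟨h, hh, hh15⟩ := hrv
  have hT := hX hh
  have h1 : h * xs g x₀ 1 * h⁻¹ * (xs g x₀ 1)⁻¹ ∈ Z := hT.2 1 (by norm_num) (by norm_num)
  rw [hh15] at h1
  have h2 : xs g x₀ 5 ∈ Xint g x₀ 1 4 := by
    have h3 : xs g x₀ 5 = (xs g x₀ 5 * (xs g x₀ 1)⁻¹) * xs g x₀ 1 := by group
    rw [h3]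
    exact (Xint g x₀ 1 4).mul_mem (Xint_mono (by norm_num) (le_refl _) h1)
      (xs_mem_Xint (by norm_num) (by norm_num))
  have h5 := xs_not_mem_right C 1 5 (by norm_num) (by norm_num)
  norm_num at h5
  exact h5 h2

end Cfsg.Agent.Lib.Helper55.TUT
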