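import Mathlib

/-!
# Project TUT (Part II of S3385): Tutte's theorem in group form -- interface

`H` is a subgroup of a finite group `G`, `g ∈ G`.  Think of the graph on the cosets `G / H`
with vertices `a_i = g ^ i H` (`i : ℤ`); `Hn H g i = g ^ i H g ^ (-i)` is the stabiliser of `a_i`
and `Arc H g i j` is the pointwise stabiliser of the arc `a_i, ..., a_j`.
-/

set_option autoImplicit false

namespace Cfsg.Agent.Lib.Helper55.TUT

open scoped Pointwise

variable {G : Type*} [Group G]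

/-- `Hn H g i = g ^ i * H * g ^ (-i)`: the stabiliser of the vertex `a_i = g ^ i H`. -/
def Hn (H : Subgroup G) (g : G) (i : ℤ) : Subgroup G := MulAut.conj (g ^ i) • H

/-- `Arc H g i j`: the pointwise stabiliser of the arc `a_i, ..., a_j` (meant for `i ≤ j`). -/
def Arc (H : Subgroup G) (g : G) (i j : ℤ) : Subgroup G := ⨅ l ∈ Finset.Icc i j, Hn H g l

/-- Standing hypotheses on `(H, g)`: the graph is cubic (`idx`), `a_2 ≠ a_0` (`sq`), `a_{-1}` is a
neighbour of `a_0` in the orbit of `a_1` (`rev`), and no nontrivial subgroup of `H` is normalised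
by `H` and by `g` (`core`). -/
structure Hyp (H : Subgroup G) (g : G) : Prop where
  idx : (H ⊓ Hn H g 1).relIndex H = 3
  sq : g ^ 2 ∉ H
  rev : ∃ h ∈ H, g * h * g ∈ H
  core : ∀ N : Subgroup G, N ≤ H → (∀ h ∈ H, MulAut.conj h • N = N) → MulAut.conj g • N = N → N = ⊥

/-- `xs g x₀ i = g ^ i * x₀ * g ^ (-i)`. -/
def xs (g x₀ : G) (i : ℤ) : G := g ^ i * x₀ * (g ^ i)⁻¹

/-- `Xint g x₀ i j`: the subgroup generated by `x_i, ..., x_j` (trivial if `j < i`). -/
def Xint (g x₀ : G) (i j : ℤ) : Subgroup G := Subgroup.closure (xs g x₀ '' Set.Icc i j)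

/-- The abstract `x_i`-calculus hypotheses for an `s`-arc-regular situation. -/
structure Calc (g x₀ : G) (s : ℕ) : Prop where
  inv : x₀ * x₀ = 1
  card : ∀ m : ℕ, m + 2 ≤ s → Nat.card (Xint g x₀ 0 m) = 2 ^ (m + 1)
  nc : ∀ l : ℤ, 1 ≤ l → l ≤ (s : ℤ) - 1 →
    ∃ i : ℤ, 0 ≤ i ∧ i ≤ (s : ℤ) ∧ xs g x₀ l * xs g x₀ i ≠ xs g x₀ i * xs g x₀ l

/-- The commutator `[x_0, x_lam] = x_0 x_lam x_0 x_lam` (the `x_i` are involutions). -/
def cc (g x₀ : G) (lam : ℕ) : G := xs g x₀ 0 * xs g x₀ lam * xs g x₀ 0 * xs g x₀ lam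

/-- `lam` is the least distance at which two of the `x_i` fail to commute, and `2 * lam ≤ s + 1`. -/
structure Lam (g x₀ : G) (s lam : ℕ) : Prop where
  two : 2 ≤ lam
  le : 2 * lam ≤ s + 1
  comm : ∀ i j : ℤ, |i - j| < (lam : ℤ) → xs g x₀ i * xs g x₀ j = xs g x₀ j * xs g x₀ i
  nc : ∀ i : ℤ, xs g x₀ i * xs g x₀ (i + lam) ≠ xs g x₀ (i + lam) * xs g x₀ i

end Cfsg.Agent.Lib.Helper55.TUT
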