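import Cfsg.Agent.Lib.Helper55.TutBasic
/-! Project TUT (Part II of S3385, Tutte's theorem in group form), piece TUT-GFlip.
PLACEHOLDER: replace the `sorry`(s) in this ONE file; keep the statement(s), names and namespace
exactly.  You may add auxiliary lemmas above the main theorem(s) in this file (same namespace,
names prefixed `gFlip_`).  Notation: `x_i = xs g x₀ i = g^i x₀ g^(-i)`,
`X[i,j] = Xint g x₀ i j = ⟨x_i, ..., x_j⟩`, `H_i = Hn H g i = g^i H g^(-i)`,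
`Arc H g i j = H_i ⊓ ... ⊓ H_j`.  Basic API: `TutBasic.lean` (mem_Hn, mem_Arc, Arc_mono, Arc_split,
conj_Arc, card_Arc_shift, xs_conj, xs_mul_self, xs_inv, xs_comm_shift, xs_mem_Xint, Xint_le,
Xint_mono, Xint_empty, Xint_succ, Xint_pred, conj_Xint, card_Xint_shift, commute_Xint). -/

set_option autoImplicit false

namespace Cfsg.Agent.Lib.Helper55.TUT

open scoped Pointwise

variable {G : Type*} [Group G]

theorem gFlip_mem_conj {S : Subgroup G} {y x : G} :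
    x ∈ MulAut.conj y • S ↔ y⁻¹ * x * y ∈ S := by
  rw [Subgroup.mem_smul_pointwise_iff_exists]
  constructor
  · rintro ⟨z, hz, rfl⟩
    rw [MulAut.smul_def, MulAut.conj_apply]
    have h1 : y⁻¹ * (y * z * y⁻¹) * y = z := by group
    rw [h1]
    exact hz
  · intro h
    refine ⟨_, h, ?_⟩
    rw [MulAut.smul_def, MulAut.conj_apply]
    group

/-- An element of `H` mapping `a_{-1}` to `a_1`.
Proof: `hyp.rev` gives `h ∈ H` with `g * h * g ∈ H`; `y := h⁻¹`.  `h⁻¹ * g⁻¹ = g * (g * h * g)⁻¹ ∈ g H`,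
so `y H_{-1} y⁻¹ = (h⁻¹ g⁻¹) H (h⁻¹ g⁻¹)⁻¹ = g H g⁻¹ = H_1` (use `mem_Hn`, `zpow_neg_one`, `zpow_one`).
`y ∉ H_1`: otherwise `g⁻¹ h⁻¹ g ∈ H`, and `(g h g) * (g⁻¹ h⁻¹ g) = g ^ 2 ∈ H`, contradicting `hyp.sq`. -/
theorem exists_flip [Finite G] {H : Subgroup G} {g : G} (hyp : Hyp H g) :
    ∃ y ∈ H, y ∉ Hn H g 1 ∧ MulAut.conj y • Hn H g (-1) = Hn H g 1 := by
  obtain ⟨h, hh, hη⟩ := hyp.rev
  refine ⟨h⁻¹, H.inv_mem hh, ?_, ?_⟩
  · intro hy
    rw [mem_Hn, zpow_one] at hy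
    apply hyp.sq
    have h1 : g ^ 2 = (g * h * g) * (g⁻¹ * h⁻¹ * g) := by rw [sq]; group
    rw [h1]
    exact H.mul_mem hη hy
  · ext x
    rw [gFlip_mem_conj, mem_Hn, mem_Hn, zpow_one, zpow_neg_one, inv_inv, inv_inv]
    constructor
    · intro hA
      have h1 : g⁻¹ * x * g = (g * h * g)⁻¹ * (g * (h * x * h⁻¹) * g⁻¹) * (g * h * g) := by group
      rw [h1]
      exact H.mul_mem (H.mul_mem (H.inv_mem hη) hA) hη
    · intro hC
      have h1 : g * (h * x * h⁻¹) * g⁻¹ = (g * h * g) * (g⁻¹ * x * g) * (g * h * g)⁻¹ := by group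
      rw [h1]
      exact H.mul_mem (H.mul_mem hη hC) (H.inv_mem hη)

/-- The translate of `exists_flip` to the vertex `a_j`.
Proof: conjugate `exists_flip` by `g ^ j` (`conj_Hn`, `conj_mem_Hn`, `Hn_zero`): `y' := g^j y g^(-j)`. -/
theorem exists_flip_at [Finite G] {H : Subgroup G} {g : G} (hyp : Hyp H g) (j : ℤ) :
    ∃ y ∈ Hn H g j, MulAut.conj y • Hn H g (j - 1) = Hn H g (j + 1) := by
  obtain ⟨y, hy, -, hy3⟩ := exists_flip hyp
  refine ⟨g ^ j * y * (g ^ j)⁻¹, ?_, ?_⟩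
  · have h1 := conj_mem_Hn (H := H) (g := g) (i := 0) (k := j) (x := y)
    rw [zero_add, Hn_zero] at h1
    exact h1.2 hy
  · have e1 : j - 1 = -1 + j := by ring
    have e2 : g ^ j * y * (g ^ j)⁻¹ * g ^ j = g ^ j * y := by group
    rw [e1, ← conj_Hn H g (-1) j, ← mul_smul, ← map_mul, e2, map_mul, mul_smul, hy3, conj_Hn,
      add_comm]

end Cfsg.Agent.Lib.Helper55.TUT
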