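import Cfsg.Agent.Lib.Helper55.TutBasic
import Cfsg.Agent.Lib.Helper55.TutGFlip
/-! Project TUT (Part II of S3385, Tutte's theorem in group form), piece TUT-GCore.
PLACEHOLDER: replace the `sorry`(s) in this ONE file; keep the statement(s), names and namespace
exactly.  You may add auxiliary lemmas above the main theorem(s) in this file (same namespace,
names prefixed `gCore_`).  Notation: `x_i = xs g x₀ i = g^i x₀ g^(-i)`,
`X[i,j] = Xint g x₀ i j = ⟨x_i, ..., x_j⟩`, `H_i = Hn H g i = g^i H g^(-i)`,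
`Arc H g i j = H_i ⊓ ... ⊓ H_j`.  Basic API: `TutBasic.lean` (mem_Hn, mem_Arc, Arc_mono, Arc_split,
conj_Arc, card_Arc_shift, xs_conj, xs_mul_self, xs_inv, xs_comm_shift, xs_mem_Xint, Xint_le,
Xint_mono, Xint_empty, Xint_succ, Xint_pred, conj_Xint, card_Xint_shift, commute_Xint). -/

set_option autoImplicit false

namespace Cfsg.Agent.Lib.Helper55.TUT

open scoped Pointwise

variable {G : Type*} [Group G]

/-- pigeonhole in a subgroup of index 3: the cosets `K`, `y⁻¹K` and one more. -/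
theorem gCore_pigeon [Finite G] {H K : Subgroup G} (hidx : K.relIndex H = 3) {y u v : G}
    (hy : y ∈ H) (hu : u ∈ H) (hv : v ∈ H) (hyK : y ∉ K) (huK : u ∉ K) (hyu : y * u ∉ K)
    (hvK : v ∉ K) (hyv : y * v ∉ K) : u⁻¹ * v ∈ K := by
  classical
  by_contra huv
  have : Fintype (↥H ⧸ K.subgroupOf H) := Fintype.ofFinite _
  have hcard : Fintype.card (↥H ⧸ K.subgroupOf H) = 3 := by
    rw [← Nat.card_eq_fintype_card]; exact hidx
  have hab : (QuotientGroup.mk (1 : H) : ↥H ⧸ K.subgroupOf H) ≠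
      QuotientGroup.mk (⟨y⁻¹, H.inv_mem hy⟩ : H) := by
    intro h
    rw [QuotientGroup.eq, Subgroup.mem_subgroupOf] at h
    apply hyK
    simpa using h
  have hac : (QuotientGroup.mk (1 : H) : ↥H ⧸ K.subgroupOf H) ≠
      QuotientGroup.mk (⟨u, hu⟩ : H) := by
    intro h
    rw [QuotientGroup.eq, Subgroup.mem_subgroupOf] at h
    apply huK
    simpa using h
  have had : (QuotientGroup.mk (1 : H) : ↥H ⧸ K.subgroupOf H) ≠
      QuotientGroup.mk (⟨v, hv⟩ : H) := by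
    intro h
    rw [QuotientGroup.eq, Subgroup.mem_subgroupOf] at h
    apply hvK
    simpa using h
  have hbc : (QuotientGroup.mk (⟨y⁻¹, H.inv_mem hy⟩ : H) : ↥H ⧸ K.subgroupOf H) ≠
      QuotientGroup.mk (⟨u, hu⟩ : H) := by
    intro h
    rw [QuotientGroup.eq, Subgroup.mem_subgroupOf] at h
    apply hyu
    simpa using h
  have hbd : (QuotientGroup.mk (⟨y⁻¹, H.inv_mem hy⟩ : H) : ↥H ⧸ K.subgroupOf H) ≠
      QuotientGroup.mk (⟨v, hv⟩ : H) := by
    intro h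
    rw [QuotientGroup.eq, Subgroup.mem_subgroupOf] at h
    apply hyv
    simpa using h
  have hcd : (QuotientGroup.mk (⟨u, hu⟩ : H) : ↥H ⧸ K.subgroupOf H) ≠
      QuotientGroup.mk (⟨v, hv⟩ : H) := by
    intro h
    rw [QuotientGroup.eq, Subgroup.mem_subgroupOf] at h
    apply huv
    simpa using h
  generalize (QuotientGroup.mk (1 : H) : ↥H ⧸ K.subgroupOf H) = a at hab hac had
  generalize (QuotientGroup.mk (⟨y⁻¹, H.inv_mem hy⟩ : H) : ↥H ⧸ K.subgroupOf H) = b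
    at hab hbc hbd
  generalize (QuotientGroup.mk (⟨u, hu⟩ : H) : ↥H ⧸ K.subgroupOf H) = c at hac hbc hcd
  generalize (QuotientGroup.mk (⟨v, hv⟩ : H) : ↥H ⧸ K.subgroupOf H) = d at had hbd hcd
  have h4 : ({a, b, c, d} : Finset (↥H ⧸ K.subgroupOf H)).card = 4 := by
    rw [Finset.card_insert_of_notMem, Finset.card_insert_of_notMem,
      Finset.card_insert_of_notMem, Finset.card_singleton]
    · simpa using hcd
    · simp [hbc, hbd]
    · simp [hab, hac, had]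
  have h5 := Finset.card_le_univ ({a, b, c, d} : Finset (↥H ⧸ K.subgroupOf H))
  omega

/-- an element fixing the cosets `K` and `y⁻¹K` fixes every coset. -/
theorem gCore_fix [Finite G] {H K : Subgroup G} (hKH : K ≤ H) (hidx : K.relIndex H = 3) {y : G}
    (hy : y ∈ H) (hyK : y ∉ K) {x : G} (hx : x ∈ K) (hyx : y * x * y⁻¹ ∈ K) {u : G}
    (hu : u ∈ H) : u⁻¹ * x * u ∈ K := by
  by_cases h1 : u ∈ K
  · exact K.mul_mem (K.mul_mem (K.inv_mem h1) hx) h1
  by_cases h2 : y * u ∈ K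
  · have e : u⁻¹ * x * u = (y * u)⁻¹ * (y * x * y⁻¹) * (y * u) := by group
    rw [e]
    exact K.mul_mem (K.mul_mem (K.inv_mem h2) hyx) h2
  have h3 : x * u ∉ K := by
    intro h
    apply h1
    have e : u = x⁻¹ * (x * u) := by group
    rw [e]
    exact K.mul_mem (K.inv_mem hx) h
  have h4 : y * (x * u) ∉ K := by
    intro h
    apply h2
    have e : y * u = (y * x * y⁻¹)⁻¹ * (y * (x * u)) := by group
    rw [e]
    exact K.mul_mem (K.inv_mem hyx) h
  have h5 := gCore_pigeon hidx hy hu (H.mul_mem (hKH hx) hu) hyK h1 h2 h3 h4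
  rwa [← mul_assoc] at h5

/-- index at most two from a two-valued invariant. -/
theorem gCore_index_le_two {K : Type*} [Group K] (Q : Subgroup K) (f : K → Bool)
    (hf : ∀ k₁ k₂, f k₁ = f k₂ → k₁⁻¹ * k₂ ∈ Q) : Q.index ≤ 2 := by
  have hinj : Function.Injective (fun c : K ⧸ Q => f (Quotient.out c)) := by
    intro c₁ c₂ h
    have h' := hf _ _ h
    rw [← QuotientGroup.eq, QuotientGroup.out_eq', QuotientGroup.out_eq'] at h'
    exact h'
  have h1 := Nat.card_le_card_of_injective _ hinj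
  have h2 : Nat.card Bool = 2 := by simp
  rw [h2] at h1
  exact h1

/-- the set-up: `K = H ⊓ H_1`, `y` from `exists_flip`. -/
theorem gCore_setup [Finite G] {H : Subgroup G} {g : G} (hyp : Hyp H g) :
    ∃ y ∈ H, y ∉ H ⊓ Hn H g 1 ∧
      (∀ x, x ∈ Arc H g (-1) 1 ↔ x ∈ H ⊓ Hn H g 1 ∧ y * x * y⁻¹ ∈ H ⊓ Hn H g 1) ∧
      (∀ x, x ∈ Arc H g 0 1 ↔ x ∈ H ⊓ Hn H g 1) ∧
      (∀ x, x ∈ Arc H g (-1) 0 ↔ x ∈ H ∧ y * x * y⁻¹ ∈ H ⊓ Hn H g 1) := by
  obtain ⟨y, hy, hy1, hconj⟩ := exists_flip hyp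
  have F1 : ∀ x, x ∈ Hn H g (-1) ↔ y * x * y⁻¹ ∈ Hn H g 1 := by
    intro x
    rw [← hconj]
    have h := Subgroup.smul_mem_pointwise_smul_iff (a := MulAut.conj y) (S := Hn H g (-1))
      (x := x)
    rw [MulAut.smul_def, MulAut.conj_apply] at h
    exact h.symm
  have F2 : ∀ x, x ∈ H ↔ y * x * y⁻¹ ∈ H := by
    intro x
    constructor
    · intro hx
      exact H.mul_mem (H.mul_mem hy hx) (H.inv_mem hy)
    · intro hx
      have e : x = y⁻¹ * (y * x * y⁻¹) * y := by group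
      rw [e]
      exact H.mul_mem (H.mul_mem (H.inv_mem hy) hx) hy
  refine ⟨y, hy, fun h => hy1 h.2, ?_, ?_, ?_⟩
  · intro x
    rw [mem_Arc, Subgroup.mem_inf, Subgroup.mem_inf, ← F1, ← F2]
    constructor
    · intro h
      have h0 : x ∈ H := by simpa [Hn_zero] using h 0 (by norm_num) (by norm_num)
      exact ⟨⟨h0, h 1 (by norm_num) le_rfl⟩, h0, h (-1) le_rfl (by norm_num)⟩
    · rintro ⟨⟨h0, h1⟩, -, hm⟩ l hl0 hl1
      have : l = -1 ∨ l = 0 ∨ l = 1 := by omega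
      rcases this with rfl | rfl | rfl
      · exact hm
      · rw [Hn_zero]; exact h0
      · exact h1
  · intro x
    rw [mem_Arc, Subgroup.mem_inf]
    constructor
    · intro h
      exact ⟨by simpa [Hn_zero] using h 0 le_rfl (by norm_num), h 1 (by norm_num) le_rfl⟩
    · rintro ⟨h0, h1⟩ l hl0 hl1
      have : l = 0 ∨ l = 1 := by omega
      rcases this with rfl | rfl
      · rw [Hn_zero]; exact h0
      · exact h1
  · intro x
    rw [mem_Arc, Subgroup.mem_inf, ← F1, ← F2]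
    constructor
    · intro h
      have h0 : x ∈ H := by simpa [Hn_zero] using h 0 (by norm_num) le_rfl
      exact ⟨h0, h0, h (-1) le_rfl (by norm_num)⟩
    · rintro ⟨h0, -, hm⟩ l hl0 hl1
      have : l = -1 ∨ l = 0 := by omega
      rcases this with rfl | rfl
      · exact hm
      · rw [Hn_zero]; exact h0

/-- `Q := H_{-1} ⊓ H_0 ⊓ H_1` is normalised by `H`.
Proof (for all three statements): `K := H ⊓ Hn H g 1` has `K.relIndex H = 3` (`hyp.idx`), so `H` acts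
transitively on the 3-element coset space `↥H ⧸ K.subgroupOf H`.  Let `y` be as in `exists_flip`:
`y ∈ H`, `y ∉ K`, and `K' := H ⊓ Hn H g (-1) = y⁻¹ K y` is the stabiliser of the coset `y⁻¹K ≠ K`.
`Arc H g (-1) 1 = K ⊓ K'` (`mem_Arc`, `Hn_zero`; the integers in `[-1,1]` are `-1, 0, 1`),
`Arc H g 0 1 = K`, `Arc H g (-1) 0 = K'`.  An element of `K ⊓ K'` fixes two of the three cosets, hence
all three, so `K ⊓ K'` is the kernel of the action (the normal core of `K` in `H`): it is normalised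
by `H`.  `K` permutes the two cosets other than `K`, and the stabiliser in `K` of the coset `y⁻¹K` is
`K ⊓ K'`: index `≤ 2`; likewise for `K'`. -/
theorem core_normal [Finite G] {H : Subgroup G} {g : G} (hyp : Hyp H g) :
    ∀ h ∈ H, MulAut.conj h • Arc H g (-1) 1 = Arc H g (-1) 1 := by
  obtain ⟨y, hy, hyK, hQ, -, -⟩ := gCore_setup hyp
  have hKH : H ⊓ Hn H g 1 ≤ H := inf_le_left
  have key : ∀ h ∈ H, ∀ x ∈ Arc H g (-1) 1, h * x * h⁻¹ ∈ Arc H g (-1) 1 := by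
    intro h hh x hx
    rw [hQ] at hx ⊢
    constructor
    · have h1 := gCore_fix hKH hyp.idx hy hyK hx.1 hx.2 (u := h⁻¹) (H.inv_mem hh)
      simpa using h1
    · have h1 := gCore_fix hKH hyp.idx hy hyK hx.1 hx.2 (u := (y * h)⁻¹)
        (H.inv_mem (H.mul_mem hy hh))
      have e : ((y * h)⁻¹)⁻¹ * x * (y * h)⁻¹ = y * (h * x * h⁻¹) * y⁻¹ := by group
      rwa [e] at h1
  intro h hh
  ext x
  rw [Subgroup.mem_smul_pointwise_iff_exists]
  constructor
  · rintro ⟨z, hz, rfl⟩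
    rw [MulAut.smul_def, MulAut.conj_apply]
    exact key h hh z hz
  · intro hx
    refine ⟨h⁻¹ * x * h, ?_, ?_⟩
    · have h1 := key h⁻¹ (H.inv_mem hh) x hx
      simpa using h1
    · rw [MulAut.smul_def, MulAut.conj_apply]
      group

theorem core_index_right [Finite G] {H : Subgroup G} {g : G} (hyp : Hyp H g) :
    (Arc H g (-1) 1).relIndex (Arc H g 0 1) ≤ 2 := by
  classical
  obtain ⟨y, hy, hyK, hQ, hR, -⟩ := gCore_setup hyp
  have hKH : H ⊓ Hn H g 1 ≤ H := inf_le_left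
  show ((Arc H g (-1) 1).subgroupOf (Arc H g 0 1)).index ≤ 2
  refine gCore_index_le_two _
    (fun k : ↥(Arc H g 0 1) => decide (y * (k : G) * y⁻¹ ∈ H ⊓ Hn H g 1)) ?_
  intro k₁ k₂ hk
  rw [decide_eq_decide] at hk
  have h1 : (k₁ : G) ∈ H ⊓ Hn H g 1 := (hR _).1 k₁.2
  have h2 : (k₂ : G) ∈ H ⊓ Hn H g 1 := (hR _).1 k₂.2
  rw [Subgroup.mem_subgroupOf, hQ]
  refine ⟨by simpa using (H ⊓ Hn H g 1).mul_mem ((H ⊓ Hn H g 1).inv_mem h1) h2, ?_⟩
  have e : y * ((k₁⁻¹ * k₂ : ↥(Arc H g 0 1)) : G) * y⁻¹ =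
      ((k₁ : G) * y⁻¹)⁻¹ * ((k₂ : G) * y⁻¹) := by
    rw [Subgroup.coe_mul, Subgroup.coe_inv]
    group
  rw [e]
  by_cases hc : y * (k₁ : G) * y⁻¹ ∈ H ⊓ Hn H g 1
  · have hc2 := hk.1 hc
    have e2 : ((k₁ : G) * y⁻¹)⁻¹ * ((k₂ : G) * y⁻¹) =
        (y * (k₁ : G) * y⁻¹)⁻¹ * (y * (k₂ : G) * y⁻¹) := by group
    rw [e2]
    exact (H ⊓ Hn H g 1).mul_mem ((H ⊓ Hn H g 1).inv_mem hc) hc2
  · have hc2 : y * (k₂ : G) * y⁻¹ ∉ H ⊓ Hn H g 1 := fun h => hc (hk.2 h)
    refine gCore_pigeon hyp.idx hy (H.mul_mem (hKH h1) (H.inv_mem hy))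
      (H.mul_mem (hKH h2) (H.inv_mem hy)) hyK ?_ ?_ ?_ ?_
    · intro h
      apply hyK
      have e3 : y = ((k₁ : G) * y⁻¹)⁻¹ * (k₁ : G) := by group
      rw [e3]
      exact (H ⊓ Hn H g 1).mul_mem ((H ⊓ Hn H g 1).inv_mem h) h1
    · intro h
      apply hc
      rwa [← mul_assoc] at h
    · intro h
      apply hyK
      have e3 : y = ((k₂ : G) * y⁻¹)⁻¹ * (k₂ : G) := by group
      rw [e3]
      exact (H ⊓ Hn H g 1).mul_mem ((H ⊓ Hn H g 1).inv_mem h) h2
    · intro h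
      apply hc2
      rwa [← mul_assoc] at h

theorem core_index_left [Finite G] {H : Subgroup G} {g : G} (hyp : Hyp H g) :
    (Arc H g (-1) 1).relIndex (Arc H g (-1) 0) ≤ 2 := by
  classical
  obtain ⟨y, hy, hyK, hQ, -, hL⟩ := gCore_setup hyp
  have hKH : H ⊓ Hn H g 1 ≤ H := inf_le_left
  show ((Arc H g (-1) 1).subgroupOf (Arc H g (-1) 0)).index ≤ 2
  refine gCore_index_le_two _
    (fun k : ↥(Arc H g (-1) 0) => decide ((k : G) ∈ H ⊓ Hn H g 1)) ?_
  intro k₁ k₂ hk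
  rw [decide_eq_decide] at hk
  have h1 := (hL _).1 k₁.2
  have h2 := (hL _).1 k₂.2
  rw [Subgroup.mem_subgroupOf, hQ, Subgroup.coe_mul, Subgroup.coe_inv]
  refine ⟨?_, ?_⟩
  · by_cases hc : (k₁ : G) ∈ H ⊓ Hn H g 1
    · exact (H ⊓ Hn H g 1).mul_mem ((H ⊓ Hn H g 1).inv_mem hc) (hk.1 hc)
    · have hc2 : (k₂ : G) ∉ H ⊓ Hn H g 1 := fun h => hc (hk.2 h)
      refine gCore_pigeon hyp.idx hy h1.1 h2.1 hyK hc ?_ hc2 ?_
      · intro h
        apply hyK
        have e4 : y = (y * (k₁ : G) * y⁻¹)⁻¹ * (y * (k₁ : G)) := by group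
        rw [e4]
        exact (H ⊓ Hn H g 1).mul_mem ((H ⊓ Hn H g 1).inv_mem h1.2) h
      · intro h
        apply hyK
        have e4 : y = (y * (k₂ : G) * y⁻¹)⁻¹ * (y * (k₂ : G)) := by group
        rw [e4]
        exact (H ⊓ Hn H g 1).mul_mem ((H ⊓ Hn H g 1).inv_mem h2.2) h
  · have e : y * ((k₁ : G)⁻¹ * (k₂ : G)) * y⁻¹ =
        (y * (k₁ : G) * y⁻¹)⁻¹ * (y * (k₂ : G) * y⁻¹) := by group
    rw [e]
    exact (H ⊓ Hn H g 1).mul_mem ((H ⊓ Hn H g 1).inv_mem h1.2) h2.2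

end Cfsg.Agent.Lib.Helper55.TUT
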