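import Cfsg.Agent.Lib.Helper55.TutBasic
/-! Project TUT (Part II of S3385, Tutte's theorem in group form), piece TUT-GThree.
PLACEHOLDER: replace the `sorry`(s) in this ONE file; keep the statement(s), names and namespace
exactly.  You may add auxiliary lemmas above the main theorem(s) in this file (same namespace,
names prefixed `gThree_`).  Notation: `x_i = xs g x₀ i = g^i x₀ g^(-i)`,
`X[i,j] = Xint g x₀ i j = ⟨x_i, ..., x_j⟩`, `H_i = Hn H g i = g^i H g^(-i)`,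
`Arc H g i j = H_i ⊓ ... ⊓ H_j`.  Basic API: `TutBasic.lean` (mem_Hn, mem_Arc, Arc_mono, Arc_split,
conj_Arc, card_Arc_shift, xs_conj, xs_mul_self, xs_inv, xs_comm_shift, xs_mem_Xint, Xint_le,
Xint_mono, Xint_empty, Xint_succ, Xint_pred, conj_Xint, card_Xint_shift, commute_Xint). -/

set_option autoImplicit false

namespace Cfsg.Agent.Lib.Helper55.TUT

open scoped Pointwise

variable {G : Type*} [Group G]

theorem gThree_mk_eq {H K : Subgroup G} (x y : H) :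
    (QuotientGroup.mk x : H ⧸ K.subgroupOf H) = QuotientGroup.mk y ↔
      ((x : G))⁻¹ * (y : G) ∈ K := by
  rw [QuotientGroup.eq, Subgroup.mem_subgroupOf]
  rfl

theorem gThree_cosets [Finite G] {H K : Subgroup G} (hidx : K.relIndex H = 3) (a b : G)
    (ha : a ∈ H) (hb : b ∈ H) (h1 : a ∉ K) (h2 : b ∉ K) (h3 : a⁻¹ * b ∉ K) (w : G)
    (hw : w ∈ H) : w ∈ K ∨ a⁻¹ * w ∈ K ∨ b⁻¹ * w ∈ K := by
  classical
  haveI : Fintype (H ⧸ K.subgroupOf H) := Fintype.ofFinite _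
  have hcard : Fintype.card (H ⧸ K.subgroupOf H) = 3 := by
    rw [← Nat.card_eq_fintype_card]
    exact hidx
  have h12 : (QuotientGroup.mk (1 : H) : H ⧸ K.subgroupOf H) ≠ QuotientGroup.mk (⟨a, ha⟩ : H) := by
    intro h
    rw [gThree_mk_eq] at h
    exact h1 (by simpa using h)
  have h13 : (QuotientGroup.mk (1 : H) : H ⧸ K.subgroupOf H) ≠ QuotientGroup.mk (⟨b, hb⟩ : H) := by
    intro h
    rw [gThree_mk_eq] at h
    exact h2 (by simpa using h)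
  have h23 : (QuotientGroup.mk (⟨a, ha⟩ : H) : H ⧸ K.subgroupOf H) ≠
      QuotientGroup.mk (⟨b, hb⟩ : H) := by
    intro h
    rw [gThree_mk_eq] at h
    exact h3 h
  have huniv : ({(QuotientGroup.mk (1 : H) : H ⧸ K.subgroupOf H), QuotientGroup.mk (⟨a, ha⟩ : H),
      QuotientGroup.mk (⟨b, hb⟩ : H)} : Finset (H ⧸ K.subgroupOf H)) = Finset.univ := by
    apply Finset.eq_univ_of_card
    rw [hcard]
    exact Finset.card_eq_three.2 ⟨_, _, _, h12, h13, h23, rfl⟩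
  have hmem : (QuotientGroup.mk (⟨w, hw⟩ : H) : H ⧸ K.subgroupOf H) ∈
      ({(QuotientGroup.mk (1 : H) : H ⧸ K.subgroupOf H), QuotientGroup.mk (⟨a, ha⟩ : H),
      QuotientGroup.mk (⟨b, hb⟩ : H)} : Finset (H ⧸ K.subgroupOf H)) := by
    rw [huniv]
    exact Finset.mem_univ _
  rw [Finset.mem_insert, Finset.mem_insert, Finset.mem_singleton] at hmem
  rcases hmem with h | h | h
  · left
    have h' := h.symm
    rw [gThree_mk_eq] at h'
    simpa using h'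
  · right; left
    have h' := h.symm
    rw [gThree_mk_eq] at h'
    exact h'
  · right; right
    have h' := h.symm
    rw [gThree_mk_eq] at h'
    exact h'

/-- The third-neighbour lemma.  `K := H ⊓ g H g⁻¹` has index 3 in `H`; for `w ∈ H` put
`φ w := g * w * g * H` (a coset); `φ w = φ w' ↔ w⁻¹ w' ∈ K`.
Proof: `hyp.rev` gives `h₁ ∈ H` with `g h₁ g ∈ H`.  The cosets `K`, `h₁K`, `uK` of `K` in `H` are
pairwise distinct: `h₁ ∉ K` (else `g⁻¹ h₁ g ∈ H` and `g^2 = (g h₁ g) (g⁻¹ h₁ g)⁻¹... ∈ H`; precisely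
`g h₁ g = g^2 * (g⁻¹ h₁ g)`), `u ∉ K` (`h2`), `h₁⁻¹ u ∉ K` (else `g⁻¹ h₁⁻¹ u g ∈ H` and
`g u g = (g h₁ g) (g⁻¹ h₁⁻¹ u g) ∈ H`, contradicting `h1`).  As `K.relIndex H = 3` these are all the
cosets.  `k₀ ∈ K` fixes the coset `K`; `k₀ h₁ K ≠ h₁ K`, because `h₁⁻¹ k₀ h₁ ∈ K` would give
`g⁻¹ h₁⁻¹ k₀ h₁ g ∈ H`, i.e. (with `η := g h₁ g ∈ H`, `h₁ g = g⁻¹ η`) `η⁻¹ (g k₀ g⁻¹) η ∈ H`, i.e.
`g k₀ g⁻¹ ∈ H`, i.e. `k₀ ∈ Hn H g (-1)` (`mem_Hn`), contradicting `hk'`.  So left multiplication by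
`k₀` swaps `h₁K` and `uK`: `(k₀ u)K = h₁K`, i.e. `h₁⁻¹ k₀ u ∈ K`, so `g⁻¹ h₁⁻¹ k₀ u g ∈ H` and
`g (k₀ u) g = (g h₁ g) (g⁻¹ h₁⁻¹ k₀ u g) ∈ H`. -/
theorem third_coset [Finite G] {H : Subgroup G} {g : G} (hyp : Hyp H g) (u k₀ : G) (hu : u ∈ H)
    (h1 : g * u * g ∉ H) (h2 : g⁻¹ * u * g ∉ H) (hk : k₀ ∈ H ⊓ Hn H g 1)
    (hk' : k₀ ∉ Hn H g (-1)) : g * (k₀ * u) * g ∈ H := by
  obtain ⟨h₁, hh₁, hη⟩ := hyp.rev
  have memK : ∀ x : G, x ∈ H ⊓ Hn H g 1 ↔ x ∈ H ∧ g⁻¹ * x * g ∈ H := by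
    intro x
    rw [Subgroup.mem_inf, mem_Hn, zpow_one]
  have a1 : h₁ ∉ H ⊓ Hn H g 1 := by
    intro h
    rw [memK] at h
    apply hyp.sq
    have e : g ^ 2 = (g * h₁ * g) * (g⁻¹ * h₁ * g)⁻¹ := by rw [sq]; group
    rw [e]
    exact H.mul_mem hη (H.inv_mem h.2)
  have a2 : u ∉ H ⊓ Hn H g 1 := by
    intro h
    rw [memK] at h
    exact h2 h.2
  have a3 : h₁⁻¹ * u ∉ H ⊓ Hn H g 1 := by
    intro h
    rw [memK] at h
    apply h1
    have e : g * u * g = (g * h₁ * g) * (g⁻¹ * (h₁⁻¹ * u) * g) := by group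
    rw [e]
    exact H.mul_mem hη h.2
  have cos := gThree_cosets hyp.idx h₁ u hh₁ hu a1 a2 a3
  have hkH : k₀ ∈ H := hk.1
  have b1 : u⁻¹ * (k₀ * h₁) ∈ H ⊓ Hn H g 1 := by
    rcases cos (k₀ * h₁) (H.mul_mem hkH hh₁) with h | h | h
    · exfalso
      apply a1
      have e : h₁ = k₀⁻¹ * (k₀ * h₁) := by group
      rw [e]
      exact Subgroup.mul_mem _ (Subgroup.inv_mem _ hk) h
    · exfalso
      apply hk'
      rw [memK] at h
      rw [mem_Hn, zpow_neg_one, inv_inv]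
      have e : g * k₀ * g⁻¹ =
          (g * h₁ * g) * (g⁻¹ * (h₁⁻¹ * (k₀ * h₁)) * g) * (g * h₁ * g)⁻¹ := by group
      rw [e]
      exact H.mul_mem (H.mul_mem hη h.2) (H.inv_mem hη)
    · exact h
  rcases cos (k₀ * u) (H.mul_mem hkH hu) with h | h | h
  · exfalso
    apply a2
    have e : u = k₀⁻¹ * (k₀ * u) := by group
    rw [e]
    exact Subgroup.mul_mem _ (Subgroup.inv_mem _ hk) h
  · rw [memK] at h
    have e : g * (k₀ * u) * g = (g * h₁ * g) * (g⁻¹ * (h₁⁻¹ * (k₀ * u)) * g) := by group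
    rw [e]
    exact H.mul_mem hη h.2
  · exfalso
    apply a3
    have e : h₁⁻¹ * u = (u⁻¹ * (k₀ * h₁))⁻¹ * (u⁻¹ * (k₀ * u)) := by group
    rw [e]
    exact Subgroup.mul_mem _ (Subgroup.inv_mem _ b1) h

end Cfsg.Agent.Lib.Helper55.TUT
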