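import Cfsg.Agent.Lib.Helper55.TutBasic
import Cfsg.Agent.Lib.Helper55.TutGThree
/-! Project TUT (Part II of S3385, Tutte's theorem in group form), piece TUT-GRev
(proved by helper35).  Notation: `x_i = xs g x₀ i = g^i x₀ g^(-i)`,
`X[i,j] = Xint g x₀ i j = ⟨x_i, ..., x_j⟩`, `H_i = Hn H g i = g^i H g^(-i)`,
`Arc H g i j = H_i ⊓ ... ⊓ H_j`.  Basic API: `TutBasic.lean` (mem_Hn, mem_Arc, Arc_mono, Arc_split,
conj_Arc, card_Arc_shift, xs_conj, xs_mul_self, xs_inv, xs_comm_shift, xs_mem_Xint, Xint_le,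
Xint_mono, Xint_empty, Xint_succ, Xint_pred, conj_Xint, card_Xint_shift, commute_Xint). -/

set_option autoImplicit false

namespace Cfsg.Agent.Lib.Helper55.TUT

open scoped Pointwise

variable {G : Type*} [Group G]

/-- The induction step of `exists_rev`: a reversal of `a_0 .. a_m` gives one of
`a_0 .. a_(m+1)`. -/
theorem gRev_step [Finite G] {H : Subgroup G} {g : G} (hyp : Hyp H g) (m : ℕ) (hm1 : 1 ≤ m)
    (hstrict : Arc H g 0 ((m : ℤ) + 1) ≠ Arc H g 0 m)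
    (ρ : G) (hρ : ∀ i : ℕ, i ≤ m → (g ^ (m - i))⁻¹ * ρ * g ^ i ∈ H) :
    ∃ ρ' : G, ∀ i : ℕ, i ≤ m + 1 → (g ^ (m + 1 - i))⁻¹ * ρ' * g ^ i ∈ H := by
  have hA : ∀ i : ℕ, i ≤ m → (g ^ (m + 1 - i))⁻¹ * (g * ρ) * g ^ i ∈ H := by
    intro i hi
    have e : m + 1 - i = (m - i) + 1 := by omega
    have e2 : (g ^ (m + 1 - i))⁻¹ * (g * ρ) * g ^ i = (g ^ (m - i))⁻¹ * ρ * g ^ i := by
      rw [e, pow_succ', mul_inv_rev]
      simp only [mul_assoc, inv_mul_cancel_left]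
    rw [e2]
    exact hρ i hi
  have hu : ρ * g ^ m ∈ H := by
    have h0 := hρ m le_rfl
    rw [Nat.sub_self, pow_zero, inv_one, one_mul] at h0
    exact h0
  by_cases h1 : g * (ρ * g ^ m) * g ∈ H
  · refine ⟨g * ρ, fun i hi => ?_⟩
    rcases Nat.lt_or_ge i (m + 1) with hlt | hge
    · exact hA i (by omega)
    · have hi' : i = m + 1 := by omega
      subst hi'
      have e2 : (g ^ (m + 1 - (m + 1)))⁻¹ * (g * ρ) * g ^ (m + 1) = g * (ρ * g ^ m) * g := by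
        rw [Nat.sub_self, pow_zero, inv_one, one_mul, pow_succ]
        simp only [mul_assoc]
      rw [e2]
      exact h1
  · have h2 : g⁻¹ * (ρ * g ^ m) * g ∉ H := by
      intro h2
      have h3 := hρ (m - 1) (by omega)
      have e1 : m - (m - 1) = 1 := by omega
      rw [e1, pow_one] at h3
      apply hyp.sq
      have e2 : g ^ 2 = (g⁻¹ * ρ * g ^ (m - 1))⁻¹ * (g⁻¹ * (ρ * g ^ m) * g) := by
        obtain ⟨n, rfl⟩ : ∃ n, m = n + 1 := ⟨m - 1, by omega⟩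
        rw [Nat.add_sub_cancel, pow_succ g n, pow_two]
        simp only [mul_inv_rev, inv_inv, mul_assoc, inv_mul_cancel_left, mul_inv_cancel_left]
      rw [e2]
      exact H.mul_mem (H.inv_mem h3) h2
    have hk : ∃ k ∈ Arc H g 1 ((m : ℤ) + 1), k ∉ H := by
      by_contra hcon
      push_neg at hcon
      apply hstrict
      have hle : Arc H g 1 ((m : ℤ) + 1) ≤ Arc H g 0 ((m : ℤ) + 1) := by
        intro x hx
        have hxH := hcon x hx
        rw [mem_Arc] at hx ⊢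
        intro l hl1 hl2
        rcases eq_or_lt_of_le hl1 with h0 | h0
        · rw [← h0, Hn_zero]
          exact hxH
        · exact hx l (by omega) hl2
      have heq : Arc H g 1 ((m : ℤ) + 1) = Arc H g 0 ((m : ℤ) + 1) :=
        le_antisymm hle (Arc_mono (by norm_num) le_rfl)
      have hcard : Nat.card (Arc H g 0 ((m : ℤ) + 1)) = Nat.card (Arc H g 0 (m : ℤ)) := by
        rw [← heq]
        have h5 := card_Arc_shift H g 0 (m : ℤ) 1
        rw [zero_add] at h5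
        exact h5
      exact Subgroup.eq_of_le_of_card_ge (Arc_mono le_rfl (by omega)) hcard.ge
    obtain ⟨k, hkA, hkH⟩ := hk
    have hkj : ∀ j : ℕ, 1 ≤ j → j ≤ m + 1 → (g ^ j)⁻¹ * k * g ^ j ∈ H := by
      intro j hj1 hj2
      have h5 := mem_Arc.1 hkA (j : ℤ) (by exact_mod_cast hj1) (by exact_mod_cast hj2)
      rw [mem_Hn, zpow_natCast] at h5
      exact h5
    have hk0 : g⁻¹ * k * g ∈ H ⊓ Hn H g 1 := by
      refine Subgroup.mem_inf.2 ⟨?_, ?_⟩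
      · have h5 := hkj 1 le_rfl (by omega)
        rw [pow_one] at h5
        exact h5
      · rw [mem_Hn, zpow_one]
        have h5 := hkj 2 (by norm_num) (by omega)
        have e : g⁻¹ * (g⁻¹ * k * g) * g = (g ^ 2)⁻¹ * k * g ^ 2 := by
          rw [pow_two, mul_inv_rev]
          simp only [mul_assoc]
        rw [e]
        exact h5
    have hk0' : g⁻¹ * k * g ∉ Hn H g (-1) := by
      rw [mem_Hn]
      have e : (g ^ (-1 : ℤ))⁻¹ * (g⁻¹ * k * g) * g ^ (-1 : ℤ) = k := by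
        rw [zpow_neg_one, inv_inv]
        simp only [mul_assoc, mul_inv_cancel_left, mul_inv_cancel, mul_one]
      rw [e]
      exact hkH
    have h3 := third_coset hyp (ρ * g ^ m) (g⁻¹ * k * g) hu h1 h2 hk0 hk0'
    refine ⟨k * (g * ρ), fun i hi => ?_⟩
    rcases Nat.lt_or_ge i (m + 1) with hlt | hge
    · have hi' : i ≤ m := by omega
      have e2 : (g ^ (m + 1 - i))⁻¹ * (k * (g * ρ)) * g ^ i =
          ((g ^ (m + 1 - i))⁻¹ * k * g ^ (m + 1 - i)) *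
            ((g ^ (m + 1 - i))⁻¹ * (g * ρ) * g ^ i) := by
        simp only [mul_assoc, mul_inv_cancel_left]
      rw [e2]
      exact H.mul_mem (hkj _ (by omega) (by omega)) (hA i hi')
    · have hi' : i = m + 1 := by omega
      subst hi'
      have e2 : (g ^ (m + 1 - (m + 1)))⁻¹ * (k * (g * ρ)) * g ^ (m + 1) =
          g * (g⁻¹ * k * g * (ρ * g ^ m)) * g := by
        rw [Nat.sub_self, pow_zero, inv_one, one_mul, pow_succ]
        simp only [mul_assoc, mul_inv_cancel_left]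
      rw [e2]
      exact h3

/-- Reversal of the arc `a_0 .. a_m` (`1 ≤ m ≤ s`): some `ρ` maps `a_i = g^i H` to
`a_(m-i) = g^(m-i) H` for all `0 ≤ i ≤ m`.
Proof: induction on `m`.  `m = 1`: `hyp.rev` gives `h ∈ H` with `g h g ∈ H`; `ρ := g * h`
(`i = 0`: `g⁻¹ (g h) = h`; `i = 1`: `g h g`).  Step `m → m+1` (`1 ≤ m`, `m + 1 ≤ s`): let `ρ` work for
`m` and `ρ' := g * ρ`; for `i ≤ m`, `(g^(m+1-i))⁻¹ ρ' g^i = (g^(m-i))⁻¹ ρ g^i ∈ H`.  Put
`u := ρ * g^m ∈ H` (case `i = m`); the remaining condition (`i = m+1`) is `ρ' g^(m+1) = g u g ∈ H`.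
If `g u g ∈ H`, take `ρ'`.  Otherwise: `g⁻¹ u g ∉ H`, for `g⁻¹ u g ∈ H` means `ρ g^(m+1) ∈ g H`, while
`ρ g^(m-1) ∈ g H` (case `i = m-1`), which would give `g^2 ∈ H` (`hyp.sq`).  Choose
`k ∈ Arc 1 (m+1)`, `k ∉ Hn 0 = H`: it exists, else `Arc 1 (m+1) ≤ Arc 0 (m+1)`, and comparing orders
(`card_Arc_shift`: `Nat.card (Arc 1 (m+1)) = Nat.card (Arc 0 m)`) `Arc 0 (m+1) = Arc 0 m`,
contradicting `hstrict m`.  `k₀ := g⁻¹ k g ∈ H ⊓ Hn 1` (as `k ∈ Hn 1 ⊓ Hn 2`; `mem_Hn`) and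
`k₀ ∉ Hn (-1)` (as `k ∉ H`).  `third_coset hyp u k₀` gives `g (k₀ u) g ∈ H`, i.e.
`k * ρ' * g^(m+1) = g k₀ u g ∈ H`.  Take `ρ'' := k * ρ'`: for `i ≤ m`,
`(g^j)⁻¹ k ρ' g^i = ((g^j)⁻¹ k g^j) ((g^j)⁻¹ ρ' g^i) ∈ H` with `j = m+1-i ∈ [1, m+1]`, since
`k ∈ Hn j`. -/
theorem exists_rev [Finite G] {H : Subgroup G} {g : G} (hyp : Hyp H g) (s : ℕ)
    (hstrict : ∀ m : ℕ, 1 ≤ m → m < s → Arc H g 0 ((m : ℤ) + 1) ≠ Arc H g 0 m)
    (m : ℕ) (hm1 : 1 ≤ m) (hm : m ≤ s) :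
    ∃ ρ : G, ∀ i : ℕ, i ≤ m → (g ^ (m - i))⁻¹ * ρ * g ^ i ∈ H := by
  induction m, hm1 using Nat.le_induction with
  | base =>
    obtain ⟨h, hh, hgh⟩ := hyp.rev
    refine ⟨g * h, fun i hi => ?_⟩
    interval_cases i
    · have e : (g ^ (1 - 0))⁻¹ * (g * h) * g ^ 0 = h := by
        simp
      rw [e]
      exact hh
    · have e : (g ^ (1 - 1))⁻¹ * (g * h) * g ^ 1 = g * h * g := by
        simp
      rw [e]
      exact hgh
  | succ n hn ih =>
    obtain ⟨ρ, hρ⟩ := ih (by omega)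
    exact gRev_step hyp n hn (hstrict n hn (by omega)) ρ hρ

end Cfsg.Agent.Lib.Helper55.TUT
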