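import Cfsg.Agent.Lib.Helper55.TutBasic
/-! Project TUT (Part II of S3385, Tutte's theorem in group form), piece TUT-GXmem.
FILLED IN (lead): statement(s), names and namespace kept
exactly.  You may add auxiliary lemmas above the main theorem(s) in this file (same namespace,
names prefixed `gXmem_`).  Notation: `x_i = xs g x₀ i = g^i x₀ g^(-i)`,
`X[i,j] = Xint g x₀ i j = ⟨x_i, ..., x_j⟩`, `H_i = Hn H g i = g^i H g^(-i)`,
`Arc H g i j = H_i ⊓ ... ⊓ H_j`.  Basic API: `TutBasic.lean` (mem_Hn, mem_Arc, Arc_mono, Arc_split,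
conj_Arc, card_Arc_shift, xs_conj, xs_mul_self, xs_inv, xs_comm_shift, xs_mem_Xint, Xint_le,
Xint_mono, Xint_empty, Xint_succ, Xint_pred, conj_Xint, card_Xint_shift, commute_Xint). -/

set_option autoImplicit false

namespace Cfsg.Agent.Lib.Helper55.TUT

open scoped Pointwise

variable {G : Type*} [Group G]

/-- `x_l` fixes the arc `a_l .. a_(l+s-1)`.
Proof: `xs g x₀ l = g^l x₀ g^(-l)` and `conj_mem_Arc` (indices `0 + l`, `(s - 1) + l`). -/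
theorem xs_mem_Arc {H : Subgroup G} {g x₀ : G} (s : ℕ)
    (hx : x₀ ∈ Arc H g 0 ((s : ℤ) - 1)) (l : ℤ) : xs g x₀ l ∈ Arc H g l (l + s - 1) := by
  have h := (conj_mem_Arc (H := H) (g := g) (i := 0) (j := (s : ℤ) - 1) (k := l) (x := x₀)).2 hx
  have e1 : (0 : ℤ) + l = l := by ring
  have e2 : (s : ℤ) - 1 + l = l + s - 1 := by ring
  rw [e1, e2] at h
  exact h

/-- `x_l` fixes neither `a_(l-1)` nor `a_(l+s)`.
Proof: if `x_l ∈ Hn (l+s)` then `x_l ∈ Arc l (l+s)` (`Arc_split`, `xs_mem_Arc`), so by `conj_mem_Arc`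
`x₀ ∈ Arc 0 s = ⊥`, `x₀ = 1`.  If `x_l ∈ Hn (l-1)` then `x_l ∈ Arc (l-1) (l+s-1)` (`mem_Arc`), and
`x_l = g^(l-1) x_1 g^(-(l-1))` (`xs_conj`), so `x_1 ∈ Arc 0 s = ⊥`, `x_1 = 1`, hence `x₀ = 1`. -/
theorem xs_not_mem_Hn {H : Subgroup G} {g x₀ : G} (s : ℕ) (hs : 1 ≤ s) (hbot : Arc H g 0 s = ⊥)
    (hx1 : x₀ ≠ 1) (hx : x₀ ∈ Arc H g 0 ((s : ℤ) - 1)) (l : ℤ) :
    xs g x₀ l ∉ Hn H g (l - 1) ∧ xs g x₀ l ∉ Hn H g (l + s) := by
  have hmem := xs_mem_Arc (H := H) (g := g) (x₀ := x₀) s hx l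
  constructor
  · intro h
    -- `x_l ∈ Arc (l-1) (l+s-1)`
    have h1 : xs g x₀ l ∈ Arc H g (l - 1) (l + s - 1) := by
      rw [mem_Arc]
      intro k hk1 hk2
      by_cases hk : k = l - 1
      · rw [hk]; exact h
      · exact mem_Arc.1 hmem k (by omega) hk2
    have h2 : g ^ (l - 1) * xs g x₀ 1 * (g ^ (l - 1))⁻¹ = xs g x₀ l := by
      rw [xs_conj]
      congr 1
      ring
    rw [← h2] at h1
    have e1 : l - 1 = (0 : ℤ) + (l - 1) := by ring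
    have e2 : l + (s : ℤ) - 1 = (s : ℤ) + (l - 1) := by ring
    rw [e2] at h1
    have h3 : g ^ (l - 1) * xs g x₀ 1 * (g ^ (l - 1))⁻¹ ∈ Arc H g (0 + (l - 1)) ((s : ℤ) + (l - 1)) := by
      rw [← e1]
      exact h1
    have h4 : xs g x₀ 1 ∈ Arc H g 0 (s : ℤ) := conj_mem_Arc.1 h3
    rw [hbot, Subgroup.mem_bot] at h4
    apply hx1
    unfold xs at h4
    have h5 : x₀ = (g ^ (1 : ℤ))⁻¹ * (g ^ (1 : ℤ) * x₀ * (g ^ (1 : ℤ))⁻¹) * g ^ (1 : ℤ) := by group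
    rw [h5, h4]
    group
  · intro h
    have h1 : xs g x₀ l ∈ Arc H g l (l + s) := by
      rw [mem_Arc]
      intro k hk1 hk2
      by_cases hk : k = l + s
      · rw [hk]; exact h
      · exact mem_Arc.1 hmem k hk1 (by omega)
    have e1 : l = (0 : ℤ) + l := by ring
    have e2 : l + (s : ℤ) = (s : ℤ) + l := by ring
    have h3 : g ^ l * x₀ * (g ^ l)⁻¹ ∈ Arc H g (0 + l) ((s : ℤ) + l) := by
      rw [← e1, ← e2]
      exact h1
    have h4 : x₀ ∈ Arc H g 0 (s : ℤ) := conj_mem_Arc.1 h3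
    rw [hbot, Subgroup.mem_bot] at h4
    exact hx1 h4

/-- An involution generating the stabiliser of an `(s-1)`-arc.
Proof: a group of order 2 contains an element `x₀ ≠ 1`, and `x₀ ^ 2 = 1` (order divides 2). -/
theorem exists_x0 [Finite G] {H : Subgroup G} {g : G} (s : ℕ)
    (hcard : Nat.card (Arc H g 0 ((s : ℤ) - 1)) = 2) :
    ∃ x₀ : G, x₀ ≠ 1 ∧ x₀ * x₀ = 1 ∧ x₀ ∈ Arc H g 0 ((s : ℤ) - 1) := by
  have hnt : Nontrivial ↥(Arc H g 0 ((s : ℤ) - 1)) := by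
    rw [← Finite.one_lt_card_iff_nontrivial, hcard]
    norm_num
  obtain ⟨x, hx⟩ := exists_ne (1 : ↥(Arc H g 0 ((s : ℤ) - 1)))
  refine ⟨(x : G), ?_, ?_, x.2⟩
  · intro h
    apply hx
    exact Subtype.ext h
  · have h2 : x ^ Nat.card ↥(Arc H g 0 ((s : ℤ) - 1)) = 1 := pow_card_eq_one'
    rw [hcard] at h2
    have h3 : ((x ^ 2 : ↥(Arc H g 0 ((s : ℤ) - 1))) : G) = 1 := by rw [h2]; rfl
    rw [← pow_two]
    simpa using h3

end Cfsg.Agent.Lib.Helper55.TUT
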