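import Cfsg.Agent.Lib.Helper55.TutBasic
import Cfsg.Agent.Lib.Helper55.TutGRev
import Cfsg.Agent.Lib.Helper55.TutGXmem
/-! Project TUT (Part II of S3385, Tutte's theorem in group form), piece TUT-GHrev.
Proved by helper60 (job 4152); statement(s), names and namespace kept
exactly.  You may add auxiliary lemmas above the main theorem(s) in this file (same namespace,
names prefixed `gHrev_`).  Notation: `x_i = xs g x₀ i = g^i x₀ g^(-i)`,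
`X[i,j] = Xint g x₀ i j = ⟨x_i, ..., x_j⟩`, `H_i = Hn H g i = g^i H g^(-i)`,
`Arc H g i j = H_i ⊓ ... ⊓ H_j`.  Basic API: `TutBasic.lean` (mem_Hn, mem_Arc, Arc_mono, Arc_split,
conj_Arc, card_Arc_shift, xs_conj, xs_mul_self, xs_inv, xs_comm_shift, xs_mem_Xint, Xint_le,
Xint_mono, Xint_empty, Xint_succ, Xint_pred, conj_Xint, card_Xint_shift, commute_Xint). -/

set_option autoImplicit false

namespace Cfsg.Agent.Lib.Helper55.TUT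

open scoped Pointwise

variable {G : Type*} [Group G]

/-- An element of the vertex stabiliser `H_(s-1)` conjugating `x_1` to `x_(s-2)` (reversal of the
arc `a_1 .. a_(2s-3)` about its midpoint `a_(s-1)`).
Proof: `hstrict` for `exists_rev` follows from `hcard` (`2^(s-m-1) ≠ 2^(s-m)` for `1 ≤ m < s`).  Let
`ρ` be the reversal for `m = s - 1`: `(g^(s-1-i))⁻¹ ρ g^i ∈ H` for `i ≤ s-1`, i.e.
`ρ H_i ρ⁻¹ = H_(s-1-i)` (`mem_Hn`); hence `ρ (Arc 0 (s-1)) ρ⁻¹ = Arc 0 (s-1)`, so `ρ x₀ ρ⁻¹` is a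
nontrivial element of `Arc 0 (s-1)`, which has order 2 (`hcard (s-1)`) and contains `x₀ ≠ 1`: thus
`ρ x₀ ρ⁻¹ = x₀`.  Put `h := g^(s-2) * ρ * g⁻¹`.  `h ∈ Hn (s-1)`:
`(g^(s-1))⁻¹ h g^(s-1) = g⁻¹ ρ g^(s-2) ∈ H` (case `i = s-2`).  `h x_1 h⁻¹ = g^(s-2) ρ (g⁻¹ x_1 g) ρ⁻¹
g^(-(s-2)) = g^(s-2) (ρ x₀ ρ⁻¹) g^(-(s-2)) = x_(s-2)` (`xs`, `xs_conj`). -/
theorem exists_h_rev [Finite G] {H : Subgroup G} {g : G} (hyp : Hyp H g) (s : ℕ) (hs : 3 ≤ s)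
    (hbot : Arc H g 0 s = ⊥)
    (hcard : ∀ m : ℕ, 1 ≤ m → m ≤ s → Nat.card (Arc H g 0 m) = 2 ^ (s - m))
    (x₀ : G) (hx1 : x₀ ≠ 1) (hx : x₀ ∈ Arc H g 0 ((s : ℤ) - 1)) :
    ∃ h ∈ Hn H g ((s : ℤ) - 1), h * xs g x₀ 1 * h⁻¹ = xs g x₀ ((s : ℤ) - 2) := by
  obtain ⟨t, rfl⟩ : ∃ t, s = t + 3 := ⟨s - 3, by omega⟩
  have hc1 : ((t + 3 : ℕ) : ℤ) - 1 = ((t + 2 : ℕ) : ℤ) := by
    push_cast
    ring
  have hc2 : ((t + 3 : ℕ) : ℤ) - 2 = ((t + 1 : ℕ) : ℤ) := by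
    push_cast
    ring
  rw [hc1] at hx ⊢
  rw [hc2]
  -- strictness of the chain of arc stabilisers
  have hstrict : ∀ m : ℕ, 1 ≤ m → m < t + 3 → Arc H g 0 ((m : ℤ) + 1) ≠ Arc H g 0 m := by
    intro m hm1 hm hEq
    have h1 := hcard m hm1 hm.le
    have h2 := hcard (m + 1) (by omega) (by omega)
    rw [Nat.cast_add, Nat.cast_one, hEq, h1] at h2
    have h3 : t + 3 - m = t + 3 - (m + 1) := Nat.pow_right_injective (le_refl 2) h2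
    omega
  obtain ⟨ρ, hρ⟩ := exists_rev hyp (t + 3) hstrict (t + 2) (by omega) (by omega)
  -- `ρ` maps `H_i` to `H_(t+2-i)`
  have hconj : ∀ i : ℕ, i ≤ t + 2 → ∀ y ∈ Hn H g (i : ℤ),
      ρ * y * ρ⁻¹ ∈ Hn H g ((t + 2 - i : ℕ) : ℤ) := by
    intro i hi y hy
    rw [mem_Hn, zpow_natCast] at hy ⊢
    have h1 := hρ i hi
    have h2 := H.mul_mem (H.mul_mem h1 hy) (H.inv_mem h1)
    have h3 : (g ^ (t + 2 - i))⁻¹ * ρ * g ^ i * ((g ^ i)⁻¹ * y * g ^ i) *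
        ((g ^ (t + 2 - i))⁻¹ * ρ * g ^ i)⁻¹ =
        (g ^ (t + 2 - i))⁻¹ * (ρ * y * ρ⁻¹) * g ^ (t + 2 - i) := by group
    rw [h3] at h2
    exact h2
  have hmem : ρ * x₀ * ρ⁻¹ ∈ Arc H g 0 ((t + 2 : ℕ) : ℤ) := by
    rw [mem_Arc]
    intro l hl0 hl1
    obtain ⟨j, rfl⟩ : ∃ j : ℕ, l = (j : ℤ) := ⟨l.toNat, by omega⟩
    have hj : j ≤ t + 2 := by exact_mod_cast hl1
    have h1 := hconj (t + 2 - j) (by omega) x₀
      (mem_Arc.1 hx _ (Int.natCast_nonneg _) (by exact_mod_cast Nat.sub_le _ _))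
    have h2 : t + 2 - (t + 2 - j) = j := by omega
    rw [h2] at h1
    exact h1
  have hcard2 : Nat.card (Arc H g 0 ((t + 2 : ℕ) : ℤ)) = 2 := by
    have h1 := hcard (t + 2) (by omega) (by omega)
    have h2 : t + 3 - (t + 2) = 1 := by omega
    rw [h2, pow_one] at h1
    exact h1
  have hfix : ρ * x₀ * ρ⁻¹ = x₀ := by
    obtain ⟨z, hz1, hz2⟩ := (Nat.card_eq_two_iff' (1 : Arc H g 0 ((t + 2 : ℕ) : ℤ))).mp hcard2
    have ha : (⟨ρ * x₀ * ρ⁻¹, hmem⟩ : Arc H g 0 ((t + 2 : ℕ) : ℤ)) ≠ 1 := by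
      intro h
      have h' : ρ * x₀ * ρ⁻¹ = 1 := congrArg Subtype.val h
      apply hx1
      have h4 : x₀ = ρ⁻¹ * (ρ * x₀ * ρ⁻¹) * ρ := by group
      rw [h4, h']
      group
    have hb : (⟨x₀, hx⟩ : Arc H g 0 ((t + 2 : ℕ) : ℤ)) ≠ 1 := by
      intro h
      exact hx1 (congrArg Subtype.val h)
    have h5 := (hz2 _ ha).trans (hz2 _ hb).symm
    exact congrArg Subtype.val h5
  refine ⟨g ^ (t + 1) * ρ * g⁻¹, ?_, ?_⟩
  · rw [mem_Hn, zpow_natCast]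
    have h1 := hρ (t + 1) (by omega)
    have h2 : t + 2 - (t + 1) = 1 := by omega
    rw [h2, pow_one] at h1
    have h3 : (g ^ (t + 2))⁻¹ * (g ^ (t + 1) * ρ * g⁻¹) * g ^ (t + 2) =
        g⁻¹ * ρ * g ^ (t + 1) := by
      rw [pow_succ g (t + 1)]
      group
    rw [h3]
    exact h1
  · unfold xs
    simp only [zpow_natCast, zpow_one]
    calc g ^ (t + 1) * ρ * g⁻¹ * (g * x₀ * g⁻¹) * (g ^ (t + 1) * ρ * g⁻¹)⁻¹
        = g ^ (t + 1) * (ρ * x₀ * ρ⁻¹) * (g ^ (t + 1))⁻¹ := by group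
      _ = g ^ (t + 1) * x₀ * (g ^ (t + 1))⁻¹ := by rw [hfix]

end Cfsg.Agent.Lib.Helper55.TUT
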