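import Cfsg.Agent.Lib.Helper55.TutBasic
import Cfsg.Agent.Lib.Helper55.TutGCore
/-! Project TUT (Part II of S3385, Tutte's theorem in group form), piece TUT-GIdx.
Proved by helper86 (statements, names and namespace as in the placeholder; auxiliary lemma
`gIdx_aux`).  Notation: `x_i = xs g x₀ i = g^i x₀ g^(-i)`,
`X[i,j] = Xint g x₀ i j = ⟨x_i, ..., x_j⟩`, `H_i = Hn H g i = g^i H g^(-i)`,
`Arc H g i j = H_i ⊓ ... ⊓ H_j`.  Basic API: `TutBasic.lean` (mem_Hn, mem_Arc, Arc_mono, Arc_split,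
conj_Arc, card_Arc_shift, xs_conj, xs_mul_self, xs_inv, xs_comm_shift, xs_mem_Xint, Xint_le,
Xint_mono, Xint_empty, Xint_succ, Xint_pred, conj_Xint, card_Xint_shift, commute_Xint). -/

set_option autoImplicit false

namespace Cfsg.Agent.Lib.Helper55.TUT

open scoped Pointwise

variable {G : Type*} [Group G]

/-- if `A ≤ C` and `B` has index `≤ 2` in `C`, then `A ⊓ B` has index `≤ 2` in `A` -/
theorem gIdx_aux [Finite G] {A B C : Subgroup G} (hAC : A ≤ C) (hB : B.relIndex C ≤ 2) :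
    (A ⊓ B).relIndex A ≤ 2 := by
  rw [Subgroup.inf_relIndex_left]
  have h0 : B.relIndex C ≠ 0 := Subgroup.FiniteIndex.index_ne_zero (H := B.subgroupOf C)
  exact (Subgroup.relIndex_le_of_le_right hAC h0).trans hB

/-- Extending an arc (with at least two vertices) by one vertex at the right end costs index `≤ 2`.
Proof: `Arc i (j+1) = Arc i j ⊓ Hn (j+1)` (`Arc_split`) `= Arc i j ⊓ Arc (j-1) (j+1)` because
`Arc i j ≤ Arc (j-1) j` (`Arc_mono`, `i ≤ j-1`).  `Arc (j-1) (j+1)` and `Arc (j-1) j` are the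
`g^j`-conjugates of `Arc (-1) 1` and `Arc (-1) 0` (`conj_Arc`), so by `core_index_left`
`(Arc (j-1) (j+1)).relIndex (Arc (j-1) j) ≤ 2`; and for `A ≤ C`: `(A ⊓ B).relIndex A = B.relIndex A ≤
B.relIndex C` (`Subgroup.inf_relIndex_right`/`relIndex_inf...`, `Subgroup.relIndex_le_of_le_right`-type
lemmas; all groups finite). -/
theorem arc_index_right [Finite G] {H : Subgroup G} {g : G} (hyp : Hyp H g) (i j : ℤ) (hij : i < j) :
    (Arc H g i (j + 1)).relIndex (Arc H g i j) ≤ 2 := by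
  have h1 : Arc H g i (j + 1) = Arc H g i j ⊓ Arc H g (j - 1) (j + 1) := by
    ext x
    rw [Subgroup.mem_inf, mem_Arc, mem_Arc, mem_Arc]
    constructor
    · intro h
      exact ⟨fun l h1 h2 => h l h1 (by omega), fun l h1 h2 => h l (by omega) h2⟩
    · rintro ⟨ha, hb⟩ l h1 h2
      by_cases hl : l ≤ j
      · exact ha l h1 hl
      · exact hb l (by omega) h2
  rw [h1]
  apply gIdx_aux (C := Arc H g (j - 1) j) (Arc_mono (by omega) le_rfl)
  have h2 := core_index_left hyp
  have e1 : (-1 : ℤ) + j = j - 1 := by ring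
  have e2 : (1 : ℤ) + j = j + 1 := by ring
  have e3 : (0 : ℤ) + j = j := by ring
  have h3 : Arc H g (j - 1) (j + 1) = MulAut.conj (g ^ j) • Arc H g (-1) 1 := by
    rw [conj_Arc, e1, e2]
  have h4 : Arc H g (j - 1) j = MulAut.conj (g ^ j) • Arc H g (-1) 0 := by
    rw [conj_Arc, e1, e3]
  rw [h3, h4, Subgroup.relIndex_pointwise_smul]
  exact h2

/-- The same at the left end, using `core_index_right` (translate by `g^i`:
`Arc (i-1) j = Arc i j ⊓ Arc (i-1) (i+1)`, `Arc i j ≤ Arc i (i+1)`). -/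
theorem arc_index_left [Finite G] {H : Subgroup G} {g : G} (hyp : Hyp H g) (i j : ℤ) (hij : i < j) :
    (Arc H g (i - 1) j).relIndex (Arc H g i j) ≤ 2 := by
  have h1 : Arc H g (i - 1) j = Arc H g i j ⊓ Arc H g (i - 1) (i + 1) := by
    ext x
    rw [Subgroup.mem_inf, mem_Arc, mem_Arc, mem_Arc]
    constructor
    · intro h
      exact ⟨fun l h1 h2 => h l (by omega) h2, fun l h1 h2 => h l h1 (by omega)⟩
    · rintro ⟨ha, hb⟩ l h1 h2
      by_cases hl : i ≤ l
      · exact ha l hl h2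
      · exact hb l h1 (by omega)
  rw [h1]
  apply gIdx_aux (C := Arc H g i (i + 1)) (Arc_mono le_rfl (by omega))
  have h2 := core_index_right hyp
  have e1 : (-1 : ℤ) + i = i - 1 := by ring
  have e2 : (1 : ℤ) + i = i + 1 := by ring
  have e3 : (0 : ℤ) + i = i := by ring
  have h3 : Arc H g (i - 1) (i + 1) = MulAut.conj (g ^ i) • Arc H g (-1) 1 := by
    rw [conj_Arc, e1, e2]
  have h4 : Arc H g i (i + 1) = MulAut.conj (g ^ i) • Arc H g 0 1 := by
    rw [conj_Arc, e3, e2]
  rw [h3, h4, Subgroup.relIndex_pointwise_smul]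
  exact h2

end Cfsg.Agent.Lib.Helper55.TUT
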