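import Cfsg.Agent.Lib.Helper55.TutBasic
import Cfsg.Agent.Lib.Helper55.TutGFlip
import Cfsg.Agent.Lib.Helper55.TutGXmem
/-! Project TUT (Part II of S3385, Tutte's theorem in group form), piece TUT-GNc.
PLACEHOLDER: replace the `sorry`(s) in this ONE file; keep the statement(s), names and namespace
exactly.  You may add auxiliary lemmas above the main theorem(s) in this file (same namespace,
names prefixed `gNc_`).  Notation: `x_i = xs g x₀ i = g^i x₀ g^(-i)`,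
`X[i,j] = Xint g x₀ i j = ⟨x_i, ..., x_j⟩`, `H_i = Hn H g i = g^i H g^(-i)`,
`Arc H g i j = H_i ⊓ ... ⊓ H_j`.  Basic API: `TutBasic.lean` (mem_Hn, mem_Arc, Arc_mono, Arc_split,
conj_Arc, card_Arc_shift, xs_conj, xs_mul_self, xs_inv, xs_comm_shift, xs_mem_Xint, Xint_le,
Xint_mono, Xint_empty, Xint_succ, Xint_pred, conj_Xint, card_Xint_shift, commute_Xint). -/

set_option autoImplicit false

namespace Cfsg.Agent.Lib.Helper55.TUT

open scoped Pointwise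

variable {G : Type*} [Group G]

/-- a subgroup of a finite group mapped into itself by conjugation with `c⁻¹` is fixed by `c` -/
theorem gNc_conj_eq [Finite G] (K : Subgroup G) (c : G) (h : ∀ n ∈ K, c⁻¹ * n * c ∈ K) :
    MulAut.conj c • K = K := by
  symm
  apply Subgroup.eq_of_le_of_card_ge
  · intro n hn
    rw [Subgroup.mem_smul_pointwise_iff_exists]
    refine ⟨c⁻¹ * n * c, h n hn, ?_⟩
    rw [MulAut.smul_def, MulAut.conj_apply]
    group
  · exact le_of_eq (Nat.card_congr (Subgroup.equivSMul _ _).toEquiv.symm)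

/-- No `x_l` (`1 ≤ l ≤ s-1`) commutes with all of `x_0, ..., x_s`.
Proof: suppose it does.  `Xint 1 s = conj g • Xint 0 (s-1) = Hn s` (`conj_Xint`, `conj_Hn` with `k = 1`,
`hX`).  So `z := x_l` centralises `A := Hn (s-1)` and `B := Hn s` (`commute_Xint`), and
`z ∈ A ⊓ B` (`xs_mem_Arc`: `l ≤ s-1 ≤ l+s-1` and `l ≤ s ≤ l+s-1`).  Let `M := A ⊔ B` and
`N := Subgroup.centralizer (M : Set G) ⊓ A ⊓ B`; `z ∈ N`, `z ≠ 1` (as `x₀ ≠ 1`).
(1) `conj g • M = M`: `conj g • M = Hn s ⊔ Hn (s+1)`; by `exists_flip_at hyp s` there is `y ∈ Hn s ≤ M`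
with `conj y • Hn (s-1) = Hn (s+1)`, so `Hn (s+1) ≤ M`; thus `conj g • M ≤ M`, and equality by orders.
Hence `conj g • centralizer M = centralizer M`.
(2) `N ≤ conj g • N = centralizer M ⊓ Hn s ⊓ Hn (s+1)`: for `n ∈ N`, `n = y n y⁻¹ ∈ conj y • Hn (s-1) =
Hn (s+1)`.  Equal orders, so `conj g • N = N`.
(3) `N ≤ A = Hn (s-1)` and `N` is centralised, hence normalised, by `A`.  Put
`N' := conj (g^(-(s-1))) • N ≤ H` (`conj_Hn`, `Hn_zero`): it is normalised by `H` and by `g` (`g`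
commutes with its powers), so `N' = ⊥` by `hyp.core`, hence `N = ⊥`, contradicting `z ≠ 1`. -/
theorem xs_not_central [Finite G] {H : Subgroup G} {g : G} (hyp : Hyp H g) (s : ℕ) (hs : 2 ≤ s) (x₀ : G)
    (hx1 : x₀ ≠ 1) (hx : x₀ ∈ Arc H g 0 ((s : ℤ) - 1))
    (hX : Xint g x₀ 0 ((s : ℤ) - 1) = Hn H g ((s : ℤ) - 1))
    (l : ℤ) (hl1 : 1 ≤ l) (hl2 : l ≤ (s : ℤ) - 1) :
    ∃ i : ℤ, 0 ≤ i ∧ i ≤ (s : ℤ) ∧ xs g x₀ l * xs g x₀ i ≠ xs g x₀ i * xs g x₀ l := by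
  by_contra hcon0
  have hcon : ∀ i : ℤ, 0 ≤ i → i ≤ (s : ℤ) → xs g x₀ l * xs g x₀ i = xs g x₀ i * xs g x₀ l := by
    intro i h1 h2
    by_contra h
    exact hcon0 ⟨i, h1, h2, h⟩
  obtain ⟨k, hk⟩ : ∃ k : ℤ, k = (s : ℤ) - 1 := ⟨_, rfl⟩
  have hsk : (s : ℤ) = k + 1 := by omega
  have hz := xs_mem_Arc (H := H) (g := g) s hx l
  rw [← hk] at hX hl2
  obtain ⟨z, hzdef⟩ : ∃ z : G, z = xs g x₀ l := ⟨_, rfl⟩
  rw [← hzdef] at hz
  have hcon' : ∀ i : ℤ, 0 ≤ i → i ≤ k + 1 → z * xs g x₀ i = xs g x₀ i * z := by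
    intro i h1 h2
    rw [hzdef]
    exact hcon i h1 (by omega)
  -- the two vertex stabilisers as `Xint`s
  have hB : Xint g x₀ 1 (k + 1) = Hn H g (k + 1) := by
    have h1 := conj_Xint g x₀ 0 k 1
    rw [hX, conj_Hn, zero_add] at h1
    exact h1.symm
  have hzA : ∀ a ∈ Hn H g k, a * z = z * a := by
    intro a ha
    rw [← hX] at ha
    exact (commute_Xint (y := z) (i := 0) (j := k)
      (fun i h1 h2 => hcon' i h1 (by omega)) a ha).symm
  have hzB : ∀ b ∈ Hn H g (k + 1), b * z = z * b := by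
    intro b hb
    rw [← hB] at hb
    exact (commute_Xint (y := z) (i := 1) (j := k + 1)
      (fun i h1 h2 => hcon' i (by omega) h2) b hb).symm
  have hzmA : z ∈ Hn H g k := mem_Arc.1 hz k (by omega) (by omega)
  have hzmB : z ∈ Hn H g (k + 1) := mem_Arc.1 hz (k + 1) (by omega) (by omega)
  have hz1 : z ≠ 1 := by
    intro h
    apply hx1
    rw [hzdef] at h
    unfold xs at h
    calc x₀ = (g ^ l)⁻¹ * (g ^ l * x₀ * (g ^ l)⁻¹) * g ^ l := by group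
      _ = 1 := by rw [h]; group
  -- the flip at the vertex `a_s`
  obtain ⟨y, hyB, hyD⟩ := exists_flip_at hyp (k + 1)
  have e1 : k + 1 - 1 = k := by ring
  rw [e1] at hyD
  have hyD1 : ∀ a ∈ Hn H g k, y * a * y⁻¹ ∈ Hn H g (k + 1 + 1) := by
    intro a ha
    rw [← hyD, Subgroup.mem_smul_pointwise_iff_exists]
    exact ⟨a, ha, by rw [MulAut.smul_def, MulAut.conj_apply]⟩
  have hyD2 : ∀ w ∈ Hn H g (k + 1 + 1), ∃ a ∈ Hn H g k, w = y * a * y⁻¹ := by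
    intro w hw
    rw [← hyD, Subgroup.mem_smul_pointwise_iff_exists] at hw
    obtain ⟨a, ha, haw⟩ := hw
    refine ⟨a, ha, ?_⟩
    rw [← haw, MulAut.smul_def, MulAut.conj_apply]
  -- the subgroup `N`
  obtain ⟨N, hN⟩ : ∃ N : Subgroup G, ∀ n, n ∈ N ↔ ((∀ a ∈ Hn H g k, a * n = n * a) ∧
      (∀ b ∈ Hn H g (k + 1), b * n = n * b) ∧ n ∈ Hn H g k ∧ n ∈ Hn H g (k + 1)) := by
    refine ⟨Subgroup.centralizer (Hn H g k : Set G) ⊓ Subgroup.centralizer (Hn H g (k + 1) : Set G)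
      ⊓ Hn H g k ⊓ Hn H g (k + 1), fun n => ?_⟩
    simp only [Subgroup.mem_inf, Subgroup.mem_centralizer_iff, SetLike.mem_coe]
    tauto
  have hzN : z ∈ N := (hN z).2 ⟨hzA, hzB, hzmA, hzmB⟩
  have hcj : ∀ (i : ℤ) (w : G), w ∈ Hn H g i → g * w * g⁻¹ ∈ Hn H g (i + 1) := by
    intro i w hw
    have h1 := (conj_mem_Hn (H := H) (g := g) (i := i) (k := 1) (x := w)).2 hw
    rw [zpow_one] at h1
    exact h1
  have hcj' : ∀ (i : ℤ) (w : G), w ∈ Hn H g (i + 1) → g⁻¹ * w * g ∈ Hn H g i := by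
    intro i w hw
    apply (conj_mem_Hn (H := H) (g := g) (i := i) (k := 1) (x := g⁻¹ * w * g)).1
    have e : g ^ (1 : ℤ) * (g⁻¹ * w * g) * (g ^ (1 : ℤ))⁻¹ = w := by
      rw [zpow_one]
      group
    rw [e]
    exact hw
  -- (2) `N` is mapped into itself by conjugation with `g⁻¹`
  have hP2 : ∀ n ∈ N, g⁻¹ * n * g ∈ N := by
    intro n hn
    obtain ⟨hnA, hnB, hnA', hnB'⟩ := (hN n).1 hn
    have hy := hnB y hyB
    have hyi : y⁻¹ * n = n * y⁻¹ := by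
      calc y⁻¹ * n = y⁻¹ * (n * y) * y⁻¹ := by group
        _ = y⁻¹ * (y * n) * y⁻¹ := by rw [hy]
        _ = n * y⁻¹ := by group
    rw [hN]
    refine ⟨?_, ?_, ?_, ?_⟩
    · intro a ha
      have h2 := hnB _ (hcj k a ha)
      calc a * (g⁻¹ * n * g) = g⁻¹ * (g * a * g⁻¹ * n) * g := by group
        _ = g⁻¹ * (n * (g * a * g⁻¹)) * g := by rw [h2]
        _ = g⁻¹ * n * g * a := by group
    · intro b hb
      obtain ⟨a, ha, hab⟩ := hyD2 _ (hcj (k + 1) b hb)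
      have ha' := hnA a ha
      have h2 : g * b * g⁻¹ * n = n * (g * b * g⁻¹) := by
        rw [hab]
        calc y * a * y⁻¹ * n = y * a * (y⁻¹ * n) := by group
          _ = y * a * (n * y⁻¹) := by rw [hyi]
          _ = y * (a * n) * y⁻¹ := by group
          _ = y * (n * a) * y⁻¹ := by rw [ha']
          _ = (y * n) * a * y⁻¹ := by group
          _ = (n * y) * a * y⁻¹ := by rw [hy]
          _ = n * (y * a * y⁻¹) := by group
      calc b * (g⁻¹ * n * g) = g⁻¹ * (g * b * g⁻¹ * n) * g := by group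
        _ = g⁻¹ * (n * (g * b * g⁻¹)) * g := by rw [h2]
        _ = g⁻¹ * n * g * b := by group
    · exact hcj' k n hnB'
    · apply hcj' (k + 1) n
      have h1 := hyD1 n hnA'
      have e : y * n * y⁻¹ = n := by
        rw [hy]
        group
      rwa [e] at h1
  -- (3) the translate of `N` into `H`
  obtain ⟨N', hN'⟩ : ∃ N' : Subgroup G, ∀ x, x ∈ N' ↔ g ^ k * x * (g ^ k)⁻¹ ∈ N :=
    ⟨N.comap (MulAut.conj (g ^ k)).toMonoidHom, fun x => by
      rw [Subgroup.mem_comap]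
      rfl⟩
  have hmemH : ∀ x : G, g ^ k * x * (g ^ k)⁻¹ ∈ Hn H g k ↔ x ∈ H := by
    intro x
    have h2 := conj_mem_Hn (H := H) (g := g) (i := 0) (k := k) (x := x)
    rw [zero_add, Hn_zero] at h2
    exact h2
  have hQ1 : N' ≤ H := by
    intro x hx
    exact (hmemH x).1 ((hN _).1 ((hN' x).1 hx)).2.2.1
  have hQ2 : ∀ h ∈ H, ∀ x ∈ N', h⁻¹ * x * h ∈ N' := by
    intro h hh x hx
    rw [hN'] at hx ⊢
    have ha : g ^ k * h * (g ^ k)⁻¹ ∈ Hn H g k := (hmemH h).2 hh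
    have hc := ((hN _).1 hx).1 _ ha
    have e : g ^ k * (h⁻¹ * x * h) * (g ^ k)⁻¹
        = (g ^ k * h * (g ^ k)⁻¹)⁻¹ * (g ^ k * x * (g ^ k)⁻¹) * (g ^ k * h * (g ^ k)⁻¹) := by
      group
    rw [e, mul_assoc, ← hc, inv_mul_cancel_left]
    exact hx
  have hQ3 : ∀ x ∈ N', g⁻¹ * x * g ∈ N' := by
    intro x hx
    rw [hN'] at hx ⊢
    have h1 := hP2 _ hx
    have e : g ^ k * (g⁻¹ * x * g) * (g ^ k)⁻¹ = g⁻¹ * (g ^ k * x * (g ^ k)⁻¹) * g := by
      group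
    rw [e]
    exact h1
  have hbot : N' = ⊥ :=
    hyp.core N' hQ1 (fun h hh => gNc_conj_eq N' h (hQ2 h hh)) (gNc_conj_eq N' g hQ3)
  have hz' : (g ^ k)⁻¹ * z * g ^ k ∈ N' := by
    rw [hN']
    have e : g ^ k * ((g ^ k)⁻¹ * z * g ^ k) * (g ^ k)⁻¹ = z := by group
    rw [e]
    exact hzN
  rw [hbot, Subgroup.mem_bot] at hz'
  apply hz1
  calc z = g ^ k * ((g ^ k)⁻¹ * z * g ^ k) * (g ^ k)⁻¹ := by group
    _ = 1 := by rw [hz']; group

end Cfsg.Agent.Lib.Helper55.TUT
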