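import Cfsg.Agent.Lib.Helper55.TutBasic
/-! Project TUT (Part II of S3385, Tutte's theorem in group form), piece TUT-GReg1.
PLACEHOLDER: replace the `sorry`(s) in this ONE file; keep the statement(s), names and namespace
exactly.  You may add auxiliary lemmas above the main theorem(s) in this file (same namespace,
names prefixed `gReg1_`).  Notation: `x_i = xs g x₀ i = g^i x₀ g^(-i)`,
`X[i,j] = Xint g x₀ i j = ⟨x_i, ..., x_j⟩`, `H_i = Hn H g i = g^i H g^(-i)`,
`Arc H g i j = H_i ⊓ ... ⊓ H_j`.  Basic API: `TutBasic.lean` (mem_Hn, mem_Arc, Arc_mono, Arc_split,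
conj_Arc, card_Arc_shift, xs_conj, xs_mul_self, xs_inv, xs_comm_shift, xs_mem_Xint, Xint_le,
Xint_mono, Xint_empty, Xint_succ, Xint_pred, conj_Xint, card_Xint_shift, commute_Xint). -/

set_option autoImplicit false

namespace Cfsg.Agent.Lib.Helper55.TUT

open scoped Pointwise

variable {G : Type*} [Group G]

/-- If the arc stabilisers stop decreasing at `s`, then `X := Arc H g 0 s` is `g`-invariant.
Proof: `conj g • X = Arc 1 (s+1)` (`conj_Arc` with `k = 1`, `zpow_one`), and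
`X = Arc 0 (s+1) ≤ Arc 1 (s+1)` (`Arc_mono`); equal orders (`card_Arc_shift`), so equality
(`Subgroup.eq_of_le_of_card_ge`). -/
theorem arc_stable_conj [Finite G] {H : Subgroup G} {g : G} (s : ℕ)
    (hX : Arc H g 0 ((s : ℤ) + 1) = Arc H g 0 s) : MulAut.conj g • Arc H g 0 s = Arc H g 0 s := by
  have h1 := conj_Arc H g 0 (s : ℤ) 1
  rw [zpow_one] at h1
  rw [h1]
  have h2 : Arc H g 0 (s : ℤ) ≤ Arc H g (0 + 1) ((s : ℤ) + 1) := by
    rw [← hX]
    exact Arc_mono (by omega) le_rfl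
  have h3 : Nat.card (Arc H g (0 + 1) ((s : ℤ) + 1)) ≤ Nat.card (Arc H g 0 (s : ℤ)) :=
    le_of_eq (card_Arc_shift H g 0 (s : ℤ) 1)
  exact (Subgroup.eq_of_le_of_card_ge h2 h3).symm

theorem gReg1_zpow [Finite G] {H : Subgroup G} {g : G} (s : ℕ)
    (hX : Arc H g 0 ((s : ℤ) + 1) = Arc H g 0 s) (k : ℤ) :
    MulAut.conj (g ^ k) • Arc H g 0 s = Arc H g 0 s := by
  have h1 : MulAut.conj g ∈ MulAction.stabilizer (MulAut G) (Arc H g 0 (s : ℤ)) :=
    MulAction.mem_stabilizer_iff.2 (arc_stable_conj s hX)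
  have h2 : (MulAut.conj g) ^ k ∈ MulAction.stabilizer (MulAut G) (Arc H g 0 (s : ℤ)) :=
    Subgroup.zpow_mem _ h1 k
  rw [map_zpow]
  exact MulAction.mem_stabilizer_iff.1 h2

/-- Consequently `X` lies in every `H_l`, hence in every arc stabiliser.
Proof: from `arc_stable_conj`, `MulAut.conj (g ^ k) • X = X` for all `k : ℤ` (induction both ways;
`MulAut.conj` is a hom, `map_zpow`), so `X = Arc k (k + s) ≤ Hn k` (`conj_Arc`, `Arc_le_Hn`); then
`mem_Arc`. -/
theorem arc_stable_le [Finite G] {H : Subgroup G} {g : G} (s : ℕ)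
    (hX : Arc H g 0 ((s : ℤ) + 1) = Arc H g 0 s) (i j : ℤ) : Arc H g 0 s ≤ Arc H g i j := by
  intro x hx
  rw [mem_Arc]
  intro l _ _
  have h1 := gReg1_zpow s hX l
  rw [conj_Arc] at h1
  have h2 : x ∈ Arc H g (0 + l) ((s : ℤ) + l) := by
    rw [h1]
    exact hx
  exact Arc_le_Hn (by omega) (by omega) h2

end Cfsg.Agent.Lib.Helper55.TUT
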