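import Cfsg.Agent.Lib.Helper55.TutBasic
import Cfsg.Agent.Lib.Helper55.TutGReg1
import Cfsg.Agent.Lib.Helper55.TutGCore
/-! Project TUT (Part II of S3385, Tutte's theorem in group form), piece TUT-GReg2.
Filled by helper97 (statement, names and namespace kept
exactly).  You may add auxiliary lemmas above the main theorem(s) in this file (same namespace,
names prefixed `gReg2_`).  Notation: `x_i = xs g x₀ i = g^i x₀ g^(-i)`,
`X[i,j] = Xint g x₀ i j = ⟨x_i, ..., x_j⟩`, `H_i = Hn H g i = g^i H g^(-i)`,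
`Arc H g i j = H_i ⊓ ... ⊓ H_j`.  Basic API: `TutBasic.lean` (mem_Hn, mem_Arc, Arc_mono, Arc_split,
conj_Arc, card_Arc_shift, xs_conj, xs_mul_self, xs_inv, xs_comm_shift, xs_mem_Xint, Xint_le,
Xint_mono, Xint_empty, Xint_succ, Xint_pred, conj_Xint, card_Xint_shift, commute_Xint). -/

set_option autoImplicit false

namespace Cfsg.Agent.Lib.Helper55.TUT

open scoped Pointwise

variable {G : Type*} [Group G]

/-- `X := Arc H g 0 s` is normalised by the stabiliser of the arc `a_0 .. a_(s-1)`.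
Proof: `X ≤ Q := Arc (-1) 1` (`arc_stable_le`) and `Q` is normalised by `H` (`core_normal`);
`y ∈ Arc 0 (s-1) ≤ H` (`Arc_le_Hn`, `Hn_zero`).  So `conj y • X ≤ conj y • Q = Q ≤ Hn (-1)`; and for
`0 ≤ l ≤ s-1`, `conj y • X ≤ conj y • Hn l = Hn l` since `y ∈ Hn l` and `X ≤ Hn l`.  Hence
`conj y • X ≤ Arc (-1) (s-1)`.  By `arc_stable_conj` (conjugating with `g⁻¹`), `Arc (-1) (s-1)` has the
same order as `X = Arc 0 s` (`card_Arc_shift`), and `conj y • X` has the order of `X`; so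
`conj y • X = Arc (-1) (s-1)`; the same for `y = 1` gives `X = Arc (-1) (s-1)` (or use
`arc_stable_le` + orders).  Hence `conj y • X = X`. -/
theorem arc_stable_norm [Finite G] {H : Subgroup G} {g : G} (hyp : Hyp H g) (s : ℕ) (hs : 1 ≤ s)
    (hX : Arc H g 0 ((s : ℤ) + 1) = Arc H g 0 s) :
    ∀ y ∈ Arc H g 0 ((s : ℤ) - 1), MulAut.conj y • Arc H g 0 s = Arc H g 0 s := by
  intro y hy
  have hle : Arc H g 0 s ≤ Arc H g (-1) ((s : ℤ) - 1) := arc_stable_le s hX (-1) ((s : ℤ) - 1)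
  have hcard : Nat.card (Arc H g (-1) ((s : ℤ) - 1)) = Nat.card (Arc H g 0 s) := by
    have h := card_Arc_shift H g (-1) ((s : ℤ) - 1) 1
    have e1 : (-1 : ℤ) + 1 = 0 := by norm_num
    have e2 : (s : ℤ) - 1 + 1 = s := by ring
    rw [e1, e2] at h
    exact h.symm
  have hXeq : Arc H g 0 s = Arc H g (-1) ((s : ℤ) - 1) :=
    Subgroup.eq_of_le_of_card_ge hle (le_of_eq hcard)
  have hyH : y ∈ H := by
    have h1 := (Arc_le_Hn (H := H) (g := g) (i := 0) (j := (s : ℤ) - 1) (l := 0) le_rfl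
      (by omega)) hy
    rwa [Hn_zero] at h1
  have hQ := core_normal hyp y hyH
  have hXQ : Arc H g 0 s ≤ Arc H g (-1) 1 := arc_stable_le s hX (-1) 1
  have hconj : MulAut.conj y • Arc H g 0 s ≤ Arc H g (-1) ((s : ℤ) - 1) := by
    intro z hz
    rw [Subgroup.mem_smul_pointwise_iff_exists] at hz
    obtain ⟨x, hx, rfl⟩ := hz
    rw [mem_Arc]
    intro l hl1 hl2
    by_cases hl0 : 0 ≤ l
    · have h1 : y ∈ Hn H g l := mem_Arc.1 hy l hl0 hl2
      have h2 : x ∈ Hn H g l := mem_Arc.1 hx l hl0 (by omega)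
      rw [MulAut.smul_def, MulAut.conj_apply]
      exact (Hn H g l).mul_mem ((Hn H g l).mul_mem h1 h2) ((Hn H g l).inv_mem h1)
    · have hl : l = -1 := by omega
      subst hl
      have h1 : MulAut.conj y • x ∈ MulAut.conj y • Arc H g (-1) 1 :=
        Subgroup.smul_mem_pointwise_smul x (MulAut.conj y) _ (hXQ hx)
      rw [hQ] at h1
      exact mem_Arc.1 h1 (-1) le_rfl (by norm_num)
  have hcard2 : Nat.card (MulAut.conj y • Arc H g 0 s : Subgroup G) = Nat.card (Arc H g 0 s) :=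
    Nat.card_congr (Subgroup.equivSMul _ _).toEquiv.symm
  rw [← hXeq] at hconj
  exact Subgroup.eq_of_le_of_card_ge hconj (le_of_eq hcard2.symm)

end Cfsg.Agent.Lib.Helper55.TUT
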