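import Cfsg.Agent.Lib.Helper55.TutBasic
import Cfsg.Agent.Lib.Helper55.TutGIdx
/-! Project TUT (Part II of S3385, Tutte's theorem in group form), piece TUT-GReg3.
Filled by helper97 (statement, names and namespace kept
exactly).  You may add auxiliary lemmas above the main theorem(s) in this file (same namespace,
names prefixed `gReg3_`).  Notation: `x_i = xs g x₀ i = g^i x₀ g^(-i)`,
`X[i,j] = Xint g x₀ i j = ⟨x_i, ..., x_j⟩`, `H_i = Hn H g i = g^i H g^(-i)`,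
`Arc H g i j = H_i ⊓ ... ⊓ H_j`.  Basic API: `TutBasic.lean` (mem_Hn, mem_Arc, Arc_mono, Arc_split,
conj_Arc, card_Arc_shift, xs_conj, xs_mul_self, xs_inv, xs_comm_shift, xs_mem_Xint, Xint_le,
Xint_mono, Xint_empty, Xint_succ, Xint_pred, conj_Xint, card_Xint_shift, commute_Xint). -/

set_option autoImplicit false

namespace Cfsg.Agent.Lib.Helper55.TUT

open scoped Pointwise

variable {G : Type*} [Group G]

/-- a subgroup of index at most 3 and an element outside it generate the overgroup. -/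
theorem gReg3_index_gen [Finite G] {B T S : Subgroup G} (hBT : B ≤ T) (hBS : B ≤ S) (a : G)
    (haT : a ∈ T) (haS : a ∈ S) (haB : a ∉ B) (hidx : B.relIndex T ≤ 3) : T ≤ S := by
  have hBS' : B ≤ S ⊓ T := le_inf hBS hBT
  have h1 := Subgroup.relIndex_mul_relIndex B (S ⊓ T) T hBS' inf_le_right
  have hd1 : B.relIndex (S ⊓ T) ≠ 1 := by
    intro h
    rw [Subgroup.relIndex_eq_one] at h
    exact haB (h ⟨haS, haT⟩)
  have hd0 : B.relIndex (S ⊓ T) ≠ 0 := by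
    unfold Subgroup.relIndex
    exact Subgroup.index_ne_zero_of_finite
  have he0 : (S ⊓ T).relIndex T ≠ 0 := by
    unfold Subgroup.relIndex
    exact Subgroup.index_ne_zero_of_finite
  have he1 : (S ⊓ T).relIndex T = 1 := by
    by_contra hne
    have h2 : 2 ≤ B.relIndex (S ⊓ T) := by omega
    have h3 : 2 ≤ (S ⊓ T).relIndex T := by omega
    have h4 : 4 ≤ B.relIndex (S ⊓ T) * (S ⊓ T).relIndex T := by nlinarith
    omega
  rw [Subgroup.relIndex_eq_one] at he1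
  exact fun x hx => (he1 hx).1

/-- The stabilisers of the `(s-1)`-arcs `a_i .. a_(i+s-1)` through `a_0` generate `H`.
Proof: let `Y m := ⨆ i ∈ Finset.Icc (-(m:ℤ)) 0, Arc H g i (i + s - 1)`.  Claim: for `m ≤ s - 1`,
`Arc H g 0 (s - 1 - m) ≤ Y m` (then `m = s - 1` gives `H = Arc 0 0 ≤ Y (s-1)`, which is the statement;
`Arc_self`, `Hn_zero`).  `m = 0`: the term `i = 0`.  Step `m → m+1 ≤ s-1`: `T := Arc 0 (s-2-m)`,
`B := Arc 0 (s-1-m) ≤ Y m ≤ Y (m+1)`, `A' := Arc (-(m+1)) (s-2-m) ≤ Y (m+1)` (term `i = -(m+1)`),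
`A' ≤ T` (`Arc_mono`).  `A' ≰ Hn (s-1-m)`: otherwise `Arc (-(m+1)) (s-2-m) = Arc (-(m+1)) (s-1-m)`
(`Arc_split`), and translating by `m+1` (`conj_Arc`/`card_Arc_shift` + `Arc_mono`)
`Arc 0 (s-1) = Arc 0 s`, contradicting `hstrict (s-1)` (note `s - 1 ≥ 1` here since `m + 1 ≤ s - 1`).
So some `a ∈ A'`, `a ∈ T`, `a ∉ B`.  If `s-2-m ≥ 1`: `B.relIndex T ≤ 2` (`arc_index_right hyp 0 (s-2-m)`),
so `T = B ⊔ ⟨a⟩ ≤ Y (m+1)`.  If `s-2-m = 0`: `T = H`, `B = Arc 0 1 = H ⊓ Hn 1` has `relIndex 3` in `H`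
(`hyp.idx`), a prime, so a subgroup of `H` properly containing `B` is `H`: again `T ≤ Y (m+1)`. -/
theorem arc_gen [Finite G] {H : Subgroup G} {g : G} (hyp : Hyp H g) (s : ℕ) (hs : 1 ≤ s)
    (hstrict : ∀ m : ℕ, 1 ≤ m → m < s → Arc H g 0 ((m : ℤ) + 1) ≠ Arc H g 0 m) :
    H ≤ ⨆ i ∈ Finset.Icc (1 - (s : ℤ)) 0, Arc H g i (i + s - 1) := by
  -- the subgroups `Y m`
  have hYmono : ∀ m m' : ℕ, m ≤ m' →
      (⨆ i ∈ Finset.Icc (-(m : ℤ)) 0, Arc H g i (i + s - 1)) ≤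
        ⨆ i ∈ Finset.Icc (-(m' : ℤ)) 0, Arc H g i (i + s - 1) := by
    intro m m' hmm
    refine iSup₂_le fun i hi => ?_
    rw [Finset.mem_Icc] at hi
    exact le_iSup₂_of_le i (Finset.mem_Icc.2 ⟨by omega, hi.2⟩) le_rfl
  have key : ∀ m : ℕ, (m : ℤ) ≤ (s : ℤ) - 1 →
      Arc H g 0 ((s : ℤ) - 1 - m) ≤ ⨆ i ∈ Finset.Icc (-(m : ℤ)) 0, Arc H g i (i + s - 1) := by
    intro m
    induction m with
    | zero =>
      intro _
      have e : (s : ℤ) - 1 - ((0 : ℕ) : ℤ) = 0 + (s : ℤ) - 1 := by push_cast; ring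
      rw [e]
      exact le_iSup₂_of_le (0 : ℤ) (Finset.mem_Icc.2 ⟨by simp, le_rfl⟩) le_rfl
    | succ m ih =>
      intro hm
      push_cast at hm
      have ihm := ih (by omega)
      -- notation
      obtain ⟨j, hj⟩ : ∃ j : ℤ, j = (s : ℤ) - 2 - m := ⟨_, rfl⟩
      have hj0 : 0 ≤ j := by omega
      have eB : (s : ℤ) - 1 - (m : ℤ) = j + 1 := by omega
      have eT : (s : ℤ) - 1 - ((m + 1 : ℕ) : ℤ) = j := by push_cast; omega
      rw [eT]
      rw [eB] at ihm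
      have hB : Arc H g 0 (j + 1) ≤
          ⨆ i ∈ Finset.Icc (-((m + 1 : ℕ) : ℤ)) 0, Arc H g i (i + s - 1) :=
        ihm.trans (hYmono m (m + 1) (Nat.le_succ m))
      have hA' : Arc H g (-((m + 1 : ℕ) : ℤ)) j ≤
          ⨆ i ∈ Finset.Icc (-((m + 1 : ℕ) : ℤ)) 0, Arc H g i (i + s - 1) := by
        have e : -((m + 1 : ℕ) : ℤ) + (s : ℤ) - 1 = j := by push_cast; omega
        have h1 : Arc H g (-((m + 1 : ℕ) : ℤ)) j =
            Arc H g (-((m + 1 : ℕ) : ℤ)) (-((m + 1 : ℕ) : ℤ) + (s : ℤ) - 1) := by rw [e]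
        rw [h1]
        exact le_iSup₂_of_le (-((m + 1 : ℕ) : ℤ))
          (Finset.mem_Icc.2 ⟨le_rfl, by push_cast; omega⟩) le_rfl
      have hA'T : Arc H g (-((m + 1 : ℕ) : ℤ)) j ≤ Arc H g 0 j :=
        Arc_mono (by push_cast; omega) le_rfl
      have hnot : ¬ Arc H g (-((m + 1 : ℕ) : ℤ)) j ≤ Hn H g (j + 1) := by
        intro hle
        have h1 : Arc H g (-((m + 1 : ℕ) : ℤ)) (j + 1) = Arc H g (-((m + 1 : ℕ) : ℤ)) j := by
          rw [Arc_split (by push_cast; omega)]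
          exact inf_eq_left.mpr hle
        have h2 := conj_Arc H g (-((m + 1 : ℕ) : ℤ)) (j + 1) ((m + 1 : ℕ) : ℤ)
        have h3 := conj_Arc H g (-((m + 1 : ℕ) : ℤ)) j ((m + 1 : ℕ) : ℤ)
        rw [h1, h3] at h2
        have e1 : -((m + 1 : ℕ) : ℤ) + ((m + 1 : ℕ) : ℤ) = 0 := by ring
        have e2 : j + ((m + 1 : ℕ) : ℤ) = (((s - 1 : ℕ)) : ℤ) := by
          rw [Nat.cast_sub hs]; push_cast; omega
        have e3 : j + 1 + ((m + 1 : ℕ) : ℤ) = (((s - 1 : ℕ)) : ℤ) + 1 := by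
          rw [Nat.cast_sub hs]; push_cast; omega
        rw [e1, e2, e3] at h2
        have hs1 : 1 ≤ s - 1 := by omega
        exact hstrict (s - 1) hs1 (by omega) h2.symm
      obtain ⟨a, haA', haH⟩ := SetLike.not_le_iff_exists.mp hnot
      have haB : a ∉ Arc H g 0 (j + 1) := fun h => haH (Arc_le_Hn (by omega) le_rfl h)
      have hidx : (Arc H g 0 (j + 1)).relIndex (Arc H g 0 j) ≤ 3 := by
        by_cases hj1 : 0 < j
        · have := arc_index_right hyp 0 j hj1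
          omega
        · have hj00 : j = 0 := by omega
          rw [hj00, zero_add, Arc_zero_one, Arc_self, Hn_zero, hyp.idx]
      exact gReg3_index_gen (Arc_mono le_rfl (by omega)) hB a (hA'T haA') (hA' haA') haB hidx
  have h1 := key (s - 1) (by rw [Nat.cast_sub hs]; push_cast; omega)
  have e1 : (s : ℤ) - 1 - ((s - 1 : ℕ) : ℤ) = 0 := by rw [Nat.cast_sub hs]; push_cast; ring
  have e2 : -((s - 1 : ℕ) : ℤ) = 1 - (s : ℤ) := by rw [Nat.cast_sub hs]; push_cast; ring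
  rw [e1, e2, Arc_self, Hn_zero] at h1
  exact h1

end Cfsg.Agent.Lib.Helper55.TUT
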