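import Cfsg.Agent.Lib.Helper55.TutBasic
import Cfsg.Agent.Lib.Helper55.TutGReg1
import Cfsg.Agent.Lib.Helper55.TutGReg2
import Cfsg.Agent.Lib.Helper55.TutGReg3
/-! Project TUT (Part II of S3385, Tutte's theorem in group form), piece TUT-GReg4.
Filled by helper82 (job 4145); statement(s), names and namespace are those of the placeholder,
unchanged.  You may add auxiliary lemmas above the main theorem(s) in this file (same namespace,
names prefixed `gReg4_`).  Notation: `x_i = xs g x₀ i = g^i x₀ g^(-i)`,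
`X[i,j] = Xint g x₀ i j = ⟨x_i, ..., x_j⟩`, `H_i = Hn H g i = g^i H g^(-i)`,
`Arc H g i j = H_i ⊓ ... ⊓ H_j`.  Basic API: `TutBasic.lean` (mem_Hn, mem_Arc, Arc_mono, Arc_split,
conj_Arc, card_Arc_shift, xs_conj, xs_mul_self, xs_inv, xs_comm_shift, xs_mem_Xint, Xint_le,
Xint_mono, Xint_empty, Xint_succ, Xint_pred, conj_Xint, card_Xint_shift, commute_Xint). -/

set_option autoImplicit false

namespace Cfsg.Agent.Lib.Helper55.TUT

open scoped Pointwise

variable {G : Type*} [Group G]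

/-- Regularity: the stabiliser of an `s`-arc is trivial.
Proof: `X := Arc H g 0 s ≤ H` (`Arc_le_Hn`, `Hn_zero`).  `conj g • X = X` (`arc_stable_conj`), hence
`conj (g^i) • X = X` for all `i : ℤ`.  Every `y ∈ Arc 0 (s-1)` normalises `X` (`arc_stable_norm`); an
element of `Arc i (i+s-1) = conj (g^i) • Arc 0 (s-1)` (`conj_Arc`) is `g^i y g^(-i)` and so normalises
`X` too.  The normaliser of `X` therefore contains `⨆ i, Arc i (i+s-1) ≥ H` (`arc_gen`), i.e.
`conj h • X = X` for all `h ∈ H`.  `hyp.core X` gives `X = ⊥`. -/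
theorem arc_trivial [Finite G] {H : Subgroup G} {g : G} (hyp : Hyp H g) (s : ℕ) (hs : 1 ≤ s)
    (hX : Arc H g 0 ((s : ℤ) + 1) = Arc H g 0 s)
    (hstrict : ∀ m : ℕ, 1 ≤ m → m < s → Arc H g 0 ((m : ℤ) + 1) ≠ Arc H g 0 m) :
    Arc H g 0 s = ⊥ := by
  obtain ⟨N, hN⟩ : ∃ N : Subgroup G,
      N = (MulAction.stabilizer (MulAut G) (Arc H g 0 (s : ℤ))).comap
        (MulAut.conj : G →* MulAut G) := ⟨_, rfl⟩
  have hmemN : ∀ y : G, y ∈ N ↔ MulAut.conj y • Arc H g 0 (s : ℤ) = Arc H g 0 (s : ℤ) := by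
    intro y
    rw [hN, Subgroup.mem_comap, MulAction.mem_stabilizer_iff]
  have hXH : Arc H g 0 (s : ℤ) ≤ H := by
    have h1 : Arc H g 0 (s : ℤ) ≤ Hn H g 0 := Arc_le_Hn le_rfl (by positivity)
    rwa [Hn_zero] at h1
  have hg : MulAut.conj g • Arc H g 0 (s : ℤ) = Arc H g 0 (s : ℤ) := arc_stable_conj s hX
  have hgN : g ∈ N := (hmemN g).mpr hg
  have hle : (⨆ i ∈ Finset.Icc (1 - (s : ℤ)) 0, Arc H g i (i + s - 1)) ≤ N := by
    refine iSup₂_le fun i _ => ?_
    intro z hz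
    have h1 : g ^ i * ((g ^ i)⁻¹ * z * g ^ i) * (g ^ i)⁻¹ = z := by group
    have h2 : (g ^ i)⁻¹ * z * g ^ i ∈ Arc H g 0 ((s : ℤ) - 1) := by
      rw [← conj_mem_Arc (k := i), h1]
      have e1 : (0 : ℤ) + i = i := zero_add i
      have e2 : (s : ℤ) - 1 + i = i + s - 1 := by ring
      rw [e1, e2]
      exact hz
    have h3 : (g ^ i)⁻¹ * z * g ^ i ∈ N := (hmemN _).mpr (arc_stable_norm hyp s hs hX _ h2)
    rw [← h1]
    exact N.mul_mem (N.mul_mem (N.zpow_mem hgN i) h3) (N.inv_mem (N.zpow_mem hgN i))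
  have hHN : H ≤ N := (arc_gen hyp s hs hstrict).trans hle
  exact hyp.core _ hXH (fun h hh => (hmemN h).mp (hHN hh)) hg

end Cfsg.Agent.Lib.Helper55.TUT
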