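import Cfsg.Agent.Lib.Helper55.TutBasic
import Cfsg.Agent.Lib.Helper55.TutGReg4
import Cfsg.Agent.Lib.Helper55.TutGIdx
/-! Project TUT (Part II of S3385, Tutte's theorem in group form), piece TUT-GReg5.
Filled by helper36 (job 4146); statement, names and namespace unchanged.  Notation: `x_i = xs g x₀ i = g^i x₀ g^(-i)`,
`X[i,j] = Xint g x₀ i j = ⟨x_i, ..., x_j⟩`, `H_i = Hn H g i = g^i H g^(-i)`,
`Arc H g i j = H_i ⊓ ... ⊓ H_j`.  Basic API: `TutBasic.lean` (mem_Hn, mem_Arc, Arc_mono, Arc_split,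
conj_Arc, card_Arc_shift, xs_conj, xs_mul_self, xs_inv, xs_comm_shift, xs_mem_Xint, Xint_le,
Xint_mono, Xint_empty, Xint_succ, Xint_pred, conj_Xint, card_Xint_shift, commute_Xint). -/

set_option autoImplicit false

namespace Cfsg.Agent.Lib.Helper55.TUT

open scoped Pointwise

variable {G : Type*} [Group G]

theorem gReg5_card_rel [Finite G] {A B : Subgroup G} (hAB : A ≤ B) :
    Nat.card A * A.relIndex B = Nat.card B := by
  have h := Subgroup.card_mul_index (A.subgroupOf B)
  rw [Nat.card_congr (Subgroup.subgroupOfEquivOfLe hAB).toEquiv] at h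
  exact h

/-- Existence of the regularity parameter `s` and the orders of the arc stabilisers.
Proof: `m ↦ Nat.card (Arc H g 0 m)` is antitone with positive values (`Arc_mono`,
`Subgroup.card_le_of_le`), so `Arc 0 (m+1) = Arc 0 m` for some `m ≥ 1`; let `s ≥ 1` be the least such
(`Nat.find`).  `arc_trivial` gives `Arc 0 s = ⊥`.  For `1 ≤ m < s`: `Arc 0 (m+1) < Arc 0 m` and
`(Arc 0 (m+1)).relIndex (Arc 0 m) ≤ 2` (`arc_index_right hyp 0 m`), and it is `≠ 1`, so `= 2`:
`Nat.card (Arc 0 m) = 2 * Nat.card (Arc 0 (m+1))` (`Subgroup.relIndex_mul_card`-type lemma).  Downward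
induction from `Nat.card (Arc 0 s) = 1` gives `Nat.card (Arc 0 m) = 2 ^ (s - m)`. -/
theorem exists_reg [Finite G] {H : Subgroup G} {g : G} (hyp : Hyp H g) :
    ∃ s : ℕ, 1 ≤ s ∧ Arc H g 0 s = ⊥ ∧
      ∀ m : ℕ, 1 ≤ m → m ≤ s → Nat.card (Arc H g 0 m) = 2 ^ (s - m) := by
  classical
  have hmono : ∀ m : ℕ, Arc H g 0 ((m : ℤ) + 1) ≤ Arc H g 0 m := fun m =>
    Arc_mono le_rfl (by omega)
  have hex : ∃ m : ℕ, 1 ≤ m ∧ Arc H g 0 ((m : ℤ) + 1) = Arc H g 0 m := by
    by_contra hcon
    have hlt : ∀ m : ℕ, 1 ≤ m →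
        Nat.card (Arc H g 0 ((m : ℤ) + 1)) < Nat.card (Arc H g 0 m) := by
      intro m hm
      by_contra hge
      exact hcon ⟨m, hm, Subgroup.eq_of_le_of_card_ge (hmono m) (Nat.le_of_not_lt hge)⟩
    have hdec : ∀ n : ℕ, Nat.card (Arc H g 0 ((1 + n : ℕ) : ℤ)) + n ≤
        Nat.card (Arc H g 0 ((1 : ℕ) : ℤ)) := by
      intro n
      induction n with
      | zero => exact le_refl _
      | succ n ih =>
        have h1 := hlt (1 + n) (by omega)
        have e : (((1 + n : ℕ) : ℤ) + 1) = ((1 + (n + 1) : ℕ) : ℤ) := by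
          push_cast
          ring
        rw [e] at h1
        omega
    have h2 := hdec (Nat.card (Arc H g 0 ((1 : ℕ) : ℤ)))
    have h3 : 0 < Nat.card (Arc H g 0 ((1 + Nat.card (Arc H g 0 ((1 : ℕ) : ℤ)) : ℕ) : ℤ)) :=
      Nat.card_pos
    omega
  obtain ⟨hs1, hX⟩ := Nat.find_spec hex
  have hstrict : ∀ m : ℕ, 1 ≤ m → m < Nat.find hex →
      Arc H g 0 ((m : ℤ) + 1) ≠ Arc H g 0 m := by
    intro m hm hlt heq
    exact Nat.find_min hex hlt ⟨hm, heq⟩
  have hbot := arc_trivial hyp (Nat.find hex) hs1 hX hstrict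
  refine ⟨Nat.find hex, hs1, hbot, ?_⟩
  have hdown : ∀ k m : ℕ, 1 ≤ m → m + k = Nat.find hex →
      Nat.card (Arc H g 0 m) = 2 ^ k := by
    intro k
    induction k with
    | zero =>
      intro m hm hmk
      have hms : m = Nat.find hex := by omega
      rw [hms, hbot, Subgroup.card_bot, pow_zero]
    | succ k ih =>
      intro m hm hmk
      have h1 := ih (m + 1) (by omega) (by omega)
      push_cast at h1
      have hne := hstrict m hm (by omega)
      have hidx := arc_index_right hyp 0 (m : ℤ) (by omega)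
      have hrel := gReg5_card_rel (hmono m)
      have hpos : 0 < Nat.card (Arc H g 0 (m : ℤ)) := Nat.card_pos
      have hne1 : (Arc H g 0 ((m : ℤ) + 1)).relIndex (Arc H g 0 m) ≠ 1 := by
        intro h
        exact hne (le_antisymm (hmono m) (Subgroup.relIndex_eq_one.1 h))
      have hne0 : (Arc H g 0 ((m : ℤ) + 1)).relIndex (Arc H g 0 m) ≠ 0 := by
        intro h
        rw [h, mul_zero] at hrel
        omega
      have h2 : (Arc H g 0 ((m : ℤ) + 1)).relIndex (Arc H g 0 m) = 2 := by omega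
      rw [h2, h1] at hrel
      rw [← hrel, pow_succ]
  intro m hm hms
  exact hdown (Nat.find hex - m) m hm (by omega)

end Cfsg.Agent.Lib.Helper55.TUT
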