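import Cfsg.Agent.Lib.Helper55.TutBasic
/-! Project TUT (Part II of S3385, Tutte's theorem in group form), piece TUT-GTop.
FILLED IN (lead): statement(s), names and namespace kept
exactly.  You may add auxiliary lemmas above the main theorem(s) in this file (same namespace,
names prefixed `gTop_`).  Notation: `x_i = xs g x₀ i = g^i x₀ g^(-i)`,
`X[i,j] = Xint g x₀ i j = ⟨x_i, ..., x_j⟩`, `H_i = Hn H g i = g^i H g^(-i)`,
`Arc H g i j = H_i ⊓ ... ⊓ H_j`.  Basic API: `TutBasic.lean` (mem_Hn, mem_Arc, Arc_mono, Arc_split,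
conj_Arc, card_Arc_shift, xs_conj, xs_mul_self, xs_inv, xs_comm_shift, xs_mem_Xint, Xint_le,
Xint_mono, Xint_empty, Xint_succ, Xint_pred, conj_Xint, card_Xint_shift, commute_Xint). -/

set_option autoImplicit false

namespace Cfsg.Agent.Lib.Helper55.TUT

open scoped Pointwise

variable {G : Type*} [Group G]

/-- From the edge-reversing element `t` to the standing hypotheses for `g := t * h₀`.
Proof: `K ≠ H` (`relIndex 3`), pick `h₀ ∈ H`, `h₀ ∉ K`; `g := t * h₀`.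
`Hn H g 1 = conj (t h₀) • H = conj t • (conj h₀ • H) = conj t • H` (`zpow_one`, `map_mul`,
`Subgroup.smul_eq`-type: `conj h₀ • H = H` for `h₀ ∈ H`).  `idx`: rewrite with `hK`.
`sq`: `t^2 ∈ K ≤ H`; if `g^2 = t h₀ t h₀ ∈ H` then `t h₀ t ∈ H`, so `h₀ ∈ t⁻¹ H t⁻¹ = t⁻¹ H t`
(as `t^(-2) ∈ H`), i.e. `t h₀ t⁻¹ ∈ H`... precisely: `t h₀ t⁻¹ = (t h₀ t) (t^2)⁻¹ ∈ H`, hence
`h₀ ∈ conj t⁻¹ • H`; we need `h₀ ∈ conj t • H`, i.e. `t⁻¹ h₀ t ∈ H`: `t⁻¹ h₀ t = (t^2)⁻¹ (t h₀ t) ∈ H`.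
So `h₀ ∈ H ⊓ conj t • H = K`, contradiction.
`rev`: `h := h₀⁻¹`, `g h₀⁻¹ g = t^2 h₀ ∈ H`.
`core`: if `N ≤ H` is normalised by `H` and `conj g • N = N`, then
`conj t • N = conj t • (conj h₀ • N) = conj g • N = N`, so `N = ⊥` by `hcore`. -/
theorem hyp_of_t [Finite G] (H K : Subgroup G) (t : G) (hK : K = H ⊓ MulAut.conj t • H)
    (hidx : K.relIndex H = 3) (ht2 : t ^ 2 ∈ K)
    (hcore : ∀ N : Subgroup G, N ≤ H → (∀ h ∈ H, MulAut.conj h • N = N) →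
      MulAut.conj t • N = N → N = ⊥) :
    ∃ g : G, Hyp H g ∧ Hn H g 1 = MulAut.conj t • H := by
  classical
  have hKH : K ≤ H := by rw [hK]; exact inf_le_left
  -- pick `h₀ ∈ H`, `h₀ ∉ K`
  have hne : ¬ H ≤ K := by
    intro hle
    have h1 : K.relIndex H = 1 := Subgroup.relIndex_eq_one.2 hle
    rw [hidx] at h1
    norm_num at h1
  obtain ⟨h₀, hh₀, hh₀K⟩ := SetLike.not_le_iff_exists.1 hne
  have ht2H : t ^ 2 ∈ H := hKH ht2
  -- membership in `conj t • H`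
  have hmem : ∀ x : G, x ∈ MulAut.conj t • H ↔ t⁻¹ * x * t ∈ H := by
    intro x
    rw [Subgroup.mem_pointwise_smul_iff_inv_smul_mem, MulAut.smul_def, MulAut.conj_inv_apply]
  have hHn : Hn H (t * h₀) 1 = MulAut.conj t • H := by
    ext x
    rw [mem_Hn, hmem, zpow_one]
    have e : (t * h₀)⁻¹ * x * (t * h₀) = h₀⁻¹ * (t⁻¹ * x * t) * h₀ := by group
    rw [e]
    constructor
    · intro h
      have h2 := H.mul_mem (H.mul_mem hh₀ h) (H.inv_mem hh₀)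
      have e2 : h₀ * (h₀⁻¹ * (t⁻¹ * x * t) * h₀) * h₀⁻¹ = t⁻¹ * x * t := by group
      rw [e2] at h2
      exact h2
    · intro h
      exact H.mul_mem (H.mul_mem (H.inv_mem hh₀) h) hh₀
  refine ⟨t * h₀, ⟨?_, ?_, ?_, ?_⟩, hHn⟩
  · rw [hHn, ← hK]
    exact hidx
  · intro hg
    apply hh₀K
    rw [hK]
    refine Subgroup.mem_inf.2 ⟨hh₀, ?_⟩
    rw [hmem]
    have e : (t * h₀) ^ 2 = t * h₀ * t * h₀ := by rw [pow_two]; group
    rw [e] at hg
    have h1 : t * h₀ * t ∈ H := by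
      have := H.mul_mem hg (H.inv_mem hh₀)
      have e2 : t * h₀ * t * h₀ * h₀⁻¹ = t * h₀ * t := by group
      rw [e2] at this
      exact this
    have h2 := H.mul_mem (H.inv_mem ht2H) h1
    have e3 : (t ^ 2)⁻¹ * (t * h₀ * t) = t⁻¹ * h₀ * t := by rw [pow_two]; group
    rw [e3] at h2
    exact h2
  · refine ⟨h₀⁻¹, H.inv_mem hh₀, ?_⟩
    have e : t * h₀ * h₀⁻¹ * (t * h₀) = t ^ 2 * h₀ := by rw [pow_two]; group
    rw [e]
    exact H.mul_mem ht2H hh₀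
  · intro N hN hNH hNg
    apply hcore N hN hNH
    have h1 : MulAut.conj (t * h₀) • N = MulAut.conj t • (MulAut.conj h₀ • N) := by
      rw [map_mul, mul_smul]
    rw [h1, hNH h₀ hh₀] at hNg
    exact hNg

end Cfsg.Agent.Lib.Helper55.TUT
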