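import Cfsg.Agent.Lib.Helper55.TutBasic
import Cfsg.Agent.Lib.Helper55.TutGXmem
/-! Project TUT (Part II of S3385, Tutte's theorem in group form), piece TUT-GXa.
Filled by helper31 (was a placeholder: keep the statement(s), names and namespace
exactly.  You may add auxiliary lemmas above the main theorem(s) in this file (same namespace,
names prefixed `gXa_`).  Notation: `x_i = xs g x₀ i = g^i x₀ g^(-i)`,
`X[i,j] = Xint g x₀ i j = ⟨x_i, ..., x_j⟩`, `H_i = Hn H g i = g^i H g^(-i)`,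
`Arc H g i j = H_i ⊓ ... ⊓ H_j`.  Basic API: `TutBasic.lean` (mem_Hn, mem_Arc, Arc_mono, Arc_split,
conj_Arc, card_Arc_shift, xs_conj, xs_mul_self, xs_inv, xs_comm_shift, xs_mem_Xint, Xint_le,
Xint_mono, Xint_empty, Xint_succ, Xint_pred, conj_Xint, card_Xint_shift, commute_Xint). -/

set_option autoImplicit false

namespace Cfsg.Agent.Lib.Helper55.TUT

open scoped Pointwise

variable {G : Type*} [Group G]

/-- `⟨x_0, ..., x_m⟩` is the stabiliser of the arc `a_m .. a_(s-1)` (`m ≤ s - 2`).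
Proof: induction on `m`.  `x_l ∈ Arc l (l+s-1) ≤ Arc m (s-1)` for `0 ≤ l ≤ m` (`xs_mem_Arc`, `Arc_mono`),
so `Xint g x₀ 0 m ≤ Arc m (s-1)` (`Xint_le`).  `m = 0`: `Nat.card (Arc 0 (s-1)) = 2` (`hcard (s-1)`) and
`x₀ ≠ 1`, `x₀ ∈ Xint 0 0` (`xs_zero`), so `Xint 0 0` has at least 2 elements: equality
(`Subgroup.eq_of_le_of_card_ge`).  Step `m → m+1` (`m + 3 ≤ s`): `Xint 0 (m+1) ≥ Xint 0 m = Arc m (s-1)`
and `∋ x_(m+1) ∉ Hn m` (`xs_not_mem_Hn`), so `Xint 0 (m+1)` properly contains `Arc m (s-1)`, which has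
`relIndex ≤ 2` in `Arc (m+1) (s-1)` (`arc_index_left hyp (m+1) (s-1)`, as `m + 1 < s - 1`); hence
`Xint 0 (m+1) = Arc (m+1) (s-1)`.  (Alternatively compare orders: `card_Arc_shift` and `hcard` give
`Nat.card (Arc m (s-1)) = 2 ^ (m+1)`.) -/
theorem Xint_eq_Arc [Finite G] {H : Subgroup G} {g : G} (hyp : Hyp H g) (s : ℕ) (hs : 2 ≤ s)
    (hbot : Arc H g 0 s = ⊥)
    (hcard : ∀ m : ℕ, 1 ≤ m → m ≤ s → Nat.card (Arc H g 0 m) = 2 ^ (s - m))
    (x₀ : G) (hx1 : x₀ ≠ 1) (hx : x₀ ∈ Arc H g 0 ((s : ℤ) - 1)) (m : ℕ) (hm : m + 2 ≤ s) :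
    Xint g x₀ 0 m = Arc H g m ((s : ℤ) - 1) := by
  have hle : ∀ m : ℕ, Xint g x₀ 0 m ≤ Arc H g m ((s : ℤ) - 1) := by
    intro m
    refine Xint_le fun l h1 h2 => ?_
    exact Arc_mono (H := H) (g := g) h2 (by omega) (xs_mem_Arc s hx l)
  have hcA : ∀ m : ℕ, m + 2 ≤ s → Nat.card (Arc H g m ((s : ℤ) - 1)) = 2 ^ (m + 1) := by
    intro m hm
    have h1 := card_Arc_shift H g 0 ((s : ℤ) - 1 - m) m
    have e1 : (0 : ℤ) + m = m := by omega
    have e2 : (s : ℤ) - 1 - m + m = (s : ℤ) - 1 := by omega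
    have e3 : (s : ℤ) - 1 - m = ((s - 1 - m : ℕ) : ℤ) := by omega
    rw [e1, e2, e3, hcard (s - 1 - m) (by omega) (by omega)] at h1
    rw [h1]
    congr 1
    omega
  induction m with
  | zero =>
    apply Subgroup.eq_of_le_of_card_ge (hle 0)
    rw [hcA 0 hm]
    have hmem : x₀ ∈ Xint g x₀ 0 ((0 : ℕ) : ℤ) := by
      have h := xs_mem_Xint (g := g) (x₀ := x₀) (i := 0) (j := ((0 : ℕ) : ℤ)) (l := 0)
        le_rfl (by simp)
      rw [xs_zero] at h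
      exact h
    have hne : Xint g x₀ 0 ((0 : ℕ) : ℤ) ≠ ⊥ := by
      intro h
      rw [h, Subgroup.mem_bot] at hmem
      exact hx1 hmem
    have h2 : 1 < Nat.card (Xint g x₀ 0 ((0 : ℕ) : ℤ)) := (Subgroup.one_lt_card_iff_ne_bot _).2 hne
    have e : 2 ^ (0 + 1) = 2 := by norm_num
    rw [e]
    exact h2
  | succ m ih =>
    have ih' := ih (by omega)
    apply Subgroup.eq_of_le_of_card_ge (hle (m + 1))
    rw [hcA (m + 1) hm]
    have hsub : Xint g x₀ 0 (m : ℤ) ≤ Xint g x₀ 0 ((m + 1 : ℕ) : ℤ) :=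
      Xint_mono le_rfl (by push_cast; omega)
    have hdvd := Subgroup.card_dvd_of_le hsub
    rw [ih', hcA m (by omega)] at hdvd
    obtain ⟨k, hk⟩ := hdvd
    have hk0 : k ≠ 0 := by
      intro h
      rw [h, mul_zero] at hk
      exact (Nat.card_pos (α := ↥(Xint g x₀ 0 ((m + 1 : ℕ) : ℤ)))).ne' hk
    have hk1 : k ≠ 1 := by
      intro h
      rw [h, mul_one] at hk
      have heq : Xint g x₀ 0 (m : ℤ) = Xint g x₀ 0 ((m + 1 : ℕ) : ℤ) :=
        Subgroup.eq_of_le_of_card_ge hsub (by rw [hk, ih', hcA m (by omega)])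
      have hmem : xs g x₀ ((m + 1 : ℕ) : ℤ) ∈ Xint g x₀ 0 ((m + 1 : ℕ) : ℤ) :=
        xs_mem_Xint (by positivity) le_rfl
      rw [← heq, ih'] at hmem
      have hHn := Arc_le_Hn (H := H) (g := g) (i := (m : ℤ)) (j := (s : ℤ) - 1) (l := (m : ℤ))
        le_rfl (by omega) hmem
      have hnot := (xs_not_mem_Hn s (by omega) hbot hx1 hx ((m + 1 : ℕ) : ℤ)).1
      apply hnot
      have e : ((m + 1 : ℕ) : ℤ) - 1 = m := by push_cast; ring
      rw [e]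
      exact hHn
    rw [hk]
    have h2 : 2 ≤ k := by omega
    calc 2 ^ (m + 1 + 1) = 2 ^ (m + 1) * 2 := by ring
      _ ≤ 2 ^ (m + 1) * k := Nat.mul_le_mul_left _ h2

end Cfsg.Agent.Lib.Helper55.TUT
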