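import Cfsg.Agent.Lib.Helper55.TutBasic
import Cfsg.Agent.Lib.Helper55.TutGXa
import Cfsg.Agent.Lib.Helper55.TutGXmem
/-! Project TUT (Part II of S3385, Tutte's theorem in group form), piece TUT-GXb.
FILLED by helper41 (job 4149). Board conventions: keep the statement(s), names and namespace
exactly.  You may add auxiliary lemmas above the main theorem(s) in this file (same namespace,
names prefixed `gXb_`).  Notation: `x_i = xs g x₀ i = g^i x₀ g^(-i)`,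
`X[i,j] = Xint g x₀ i j = ⟨x_i, ..., x_j⟩`, `H_i = Hn H g i = g^i H g^(-i)`,
`Arc H g i j = H_i ⊓ ... ⊓ H_j`.  Basic API: `TutBasic.lean` (mem_Hn, mem_Arc, Arc_mono, Arc_split,
conj_Arc, card_Arc_shift, xs_conj, xs_mul_self, xs_inv, xs_comm_shift, xs_mem_Xint, Xint_le,
Xint_mono, Xint_empty, Xint_succ, Xint_pred, conj_Xint, card_Xint_shift, commute_Xint). -/

set_option autoImplicit false

namespace Cfsg.Agent.Lib.Helper55.TUT

open scoped Pointwise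

variable {G : Type*} [Group G]

/-- `⟨x_0, ..., x_(s-1)⟩` is the vertex stabiliser `H_(s-1)`.
Proof: `Xint 0 (s-1) ≤ Hn (s-1)`: `x_l ∈ Arc l (l+s-1) ≤ Hn (s-1)` for `0 ≤ l ≤ s-1`.
`Xint 0 (s-1) ≥ Xint 0 (s-2) = Arc (s-2) (s-1)` (`Xint_eq_Arc` with `m = s-2`), which is the
`g^(s-2)`-conjugate of `Arc 0 1 = H ⊓ Hn 1`, of `relIndex 3` (a prime) in `Hn (s-1) = conj (g^(s-2)) •
Hn 1`... precisely: `Arc (s-2) (s-1) = Hn (s-2) ⊓ Hn (s-1)` has index 3 in `Hn (s-1)`: by the flip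
(`hyp.rev`) or simply by orders: `Nat.card (Hn (s-1)) = Nat.card H = 3 * Nat.card (Arc 0 1)` (`hyp.idx`,
`Subgroup.relIndex_mul_card`-type lemma, `Arc_zero_one`) `= 3 * 2^(s-1)` and
`Nat.card (Arc (s-2) (s-1)) = Nat.card (Arc 0 1) = 2^(s-1)` (`card_Arc_shift`, `hcard 1`).
`x_(s-1) ∈ Xint 0 (s-1)` and `x_(s-1) ∉ Hn (s-2)` (`xs_not_mem_Hn`), so `Xint 0 (s-1)` properly
contains a subgroup of prime index 3 of `Hn (s-1)`; its order is a multiple of `2^(s-1)`, bigger, and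
divides `3 * 2^(s-1)`: so it is `3 * 2^(s-1)` and equality holds. -/
theorem Xint_eq_Hn [Finite G] {H : Subgroup G} {g : G} (hyp : Hyp H g) (s : ℕ) (hs : 2 ≤ s)
    (hbot : Arc H g 0 s = ⊥)
    (hcard : ∀ m : ℕ, 1 ≤ m → m ≤ s → Nat.card (Arc H g 0 m) = 2 ^ (s - m))
    (x₀ : G) (hx1 : x₀ ≠ 1) (hx : x₀ ∈ Arc H g 0 ((s : ℤ) - 1)) :
    Xint g x₀ 0 ((s : ℤ) - 1) = Hn H g ((s : ℤ) - 1) := by
  have hs2 : ((s - 2 : ℕ) : ℤ) = (s : ℤ) - 2 := by omega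
  have hle : Xint g x₀ 0 ((s : ℤ) - 1) ≤ Hn H g ((s : ℤ) - 1) := by
    refine Xint_le fun l h1 h2 => ?_
    exact Arc_le_Hn (by omega) (by omega) (xs_mem_Arc s hx l)
  have hA : Xint g x₀ 0 ((s : ℤ) - 2) = Arc H g ((s : ℤ) - 2) ((s : ℤ) - 1) := by
    have h1 := Xint_eq_Arc hyp s hs hbot hcard x₀ hx1 hx (s - 2) (by omega)
    rw [hs2] at h1
    exact h1
  have hAK : Xint g x₀ 0 ((s : ℤ) - 2) ≤ Xint g x₀ 0 ((s : ℤ) - 1) :=
    Xint_mono le_rfl (by omega)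
  have hc1 : Nat.card (Arc H g 0 1) = 2 ^ (s - 1) := by
    have h2 := hcard 1 le_rfl (by omega)
    rw [Nat.cast_one] at h2
    exact h2
  have hcardA : Nat.card (Xint g x₀ 0 ((s : ℤ) - 2)) = 2 ^ (s - 1) := by
    rw [hA]
    have h1 := card_Arc_shift H g 0 1 ((s : ℤ) - 2)
    have e1 : (0 : ℤ) + ((s : ℤ) - 2) = (s : ℤ) - 2 := by ring
    have e2 : (1 : ℤ) + ((s : ℤ) - 2) = (s : ℤ) - 1 := by ring
    rw [e1, e2] at h1
    rw [h1]
    exact hc1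
  have hcardHn : Nat.card (Hn H g ((s : ℤ) - 1)) = 3 * 2 ^ (s - 1) := by
    have h1 := card_Arc_shift H g 0 0 ((s : ℤ) - 1)
    rw [zero_add, Arc_self, Arc_self, Hn_zero] at h1
    rw [h1]
    have h2 := hc1
    rw [Arc_zero_one] at h2
    have h3 := hyp.idx
    have h4 := Subgroup.relIndex_mul_relIndex ⊥ (H ⊓ Hn H g 1) H bot_le inf_le_left
    rw [Subgroup.relIndex_bot_left, Subgroup.relIndex_bot_left, h3, h2] at h4
    rw [← h4, mul_comm]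
  have hdvd1 : Nat.card (Xint g x₀ 0 ((s : ℤ) - 2)) ∣ Nat.card (Xint g x₀ 0 ((s : ℤ) - 1)) :=
    Subgroup.card_dvd_of_le hAK
  have hdvd2 : Nat.card (Xint g x₀ 0 ((s : ℤ) - 1)) ∣ Nat.card (Hn H g ((s : ℤ) - 1)) :=
    Subgroup.card_dvd_of_le hle
  rw [hcardA] at hdvd1
  rw [hcardHn] at hdvd2
  obtain ⟨k, hk⟩ := hdvd1
  rw [hk] at hdvd2
  have hpos : 0 < 2 ^ (s - 1) := by positivity
  have hk3 : k ∣ 3 := by
    rw [mul_comm 3] at hdvd2
    exact (Nat.mul_dvd_mul_iff_left hpos).mp hdvd2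
  have hk' : k = 1 ∨ k = 3 := (Nat.dvd_prime Nat.prime_three).mp hk3
  rcases hk' with rfl | rfl
  · exfalso
    have hEq : Xint g x₀ 0 ((s : ℤ) - 2) = Xint g x₀ 0 ((s : ℤ) - 1) :=
      Subgroup.eq_of_le_of_card_ge hAK (by rw [hk, hcardA, mul_one])
    have hmem : xs g x₀ ((s : ℤ) - 1) ∈ Xint g x₀ 0 ((s : ℤ) - 1) :=
      xs_mem_Xint (by omega) le_rfl
    rw [← hEq, hA] at hmem
    have hnot := (xs_not_mem_Hn s (by omega) hbot hx1 hx ((s : ℤ) - 1)).1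
    apply hnot
    have e : (s : ℤ) - 1 - 1 = (s : ℤ) - 2 := by ring
    rw [e]
    exact Arc_le_Hn le_rfl (by omega) hmem
  · exact Subgroup.eq_of_le_of_card_ge hle (by rw [hk, hcardHn]; exact (mul_comm _ _).le)

end Cfsg.Agent.Lib.Helper55.TUT
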