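import Cfsg.Agent.Lib.Helper55.TutBasic
import Cfsg.Agent.Lib.Helper55.TutCalcCard
import Cfsg.Agent.Lib.Helper55.TutCalcIdxL
import Cfsg.Agent.Lib.Helper55.TutCalcIdxR
import Cfsg.Agent.Lib.Helper55.TutCalcInt
import Cfsg.Agent.Lib.Helper55.TutCalcComm
import Cfsg.Agent.Lib.Helper55.TutCalcLam
import Cfsg.Agent.Lib.Helper55.TutCalcC
import Cfsg.Agent.Lib.Helper55.TutCalcMu
import Cfsg.Agent.Lib.Helper55.TutCalcNu
import Cfsg.Agent.Lib.Helper55.TutCalcAsm
import Cfsg.Agent.Lib.Helper55.TutCalcE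
import Cfsg.Agent.Lib.Helper55.TutCalcFinal
import Cfsg.Agent.Lib.Helper55.TutGFlip
import Cfsg.Agent.Lib.Helper55.TutGCore
import Cfsg.Agent.Lib.Helper55.TutGThree
import Cfsg.Agent.Lib.Helper55.TutGIdx
import Cfsg.Agent.Lib.Helper55.TutGReg1
import Cfsg.Agent.Lib.Helper55.TutGReg2
import Cfsg.Agent.Lib.Helper55.TutGReg3
import Cfsg.Agent.Lib.Helper55.TutGReg4
import Cfsg.Agent.Lib.Helper55.TutGReg5
import Cfsg.Agent.Lib.Helper55.TutGXmem
import Cfsg.Agent.Lib.Helper55.TutGXa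
import Cfsg.Agent.Lib.Helper55.TutGXb
import Cfsg.Agent.Lib.Helper55.TutGNc
import Cfsg.Agent.Lib.Helper55.TutGRev
import Cfsg.Agent.Lib.Helper55.TutGHrev
import Cfsg.Agent.Lib.Helper55.TutGTop

/-!
# Project TUT (Part II of S3385): Tutte's theorem in group form -- assembly

`tutte_group_form`: if `K = H ∩ tHt⁻¹` has index 3 in `H`, `t² ∈ K`, and no nontrivial subgroup of `H`
is normalised by `H` and `t`, then `|K| = 2^k` with `k ≤ 4`.
-/

set_option autoImplicit false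

namespace Cfsg.Agent.Lib.Helper55.TUT

open scoped Pointwise

variable {G : Type*} [Group G]

/-- Tutte's bound for the pair `(H, g)`. -/
theorem hyp_bound [Finite G] {H : Subgroup G} {g : G} (hyp : Hyp H g) :
    ∃ k : ℕ, k ≤ 4 ∧ Nat.card (H ⊓ Hn H g 1 : Subgroup G) = 2 ^ k := by
  obtain ⟨s, hs1, hbot, hcard⟩ := exists_reg hyp
  have hK : Nat.card (H ⊓ Hn H g 1 : Subgroup G) = 2 ^ (s - 1) := by
    rw [← Arc_zero_one]
    have h1 := hcard 1 le_rfl hs1
    rw [Nat.cast_one] at h1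
    exact h1
  by_cases h5 : s ≤ 5
  · exact ⟨s - 1, by omega, hK⟩
  · exfalso
    have hs6 : 6 ≤ s := by omega
    have hc2 : Nat.card (Arc H g 0 ((s : ℤ) - 1)) = 2 := by
      have h1 := hcard (s - 1) (by omega) (by omega)
      have e : ((s - 1 : ℕ) : ℤ) = (s : ℤ) - 1 := by omega
      rw [e] at h1
      rw [h1]
      have e2 : s - (s - 1) = 1 := by omega
      rw [e2, pow_one]
    obtain ⟨x₀, hx1, hxx, hx⟩ := exists_x0 s hc2
    have hXH := Xint_eq_Hn hyp s (by omega) hbot hcard x₀ hx1 hx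
    have C : Calc g x₀ s :=
      { inv := hxx
        card := by
          intro m hm
          rw [Xint_eq_Arc hyp s (by omega) hbot hcard x₀ hx1 hx m hm]
          have h1 := card_Arc_shift H g 0 ((s : ℤ) - 1 - m) m
          rw [zero_add, sub_add_cancel] at h1
          rw [h1]
          have h2 := hcard (s - 1 - m) (by omega) (by omega)
          have e : ((s - 1 - m : ℕ) : ℤ) = (s : ℤ) - 1 - m := by omega
          rw [e] at h2
          rw [h2]
          congr 1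
          omega
        nc := fun l hl1 hl2 => xs_not_central hyp s (by omega) x₀ hx1 hx hXH l hl1 hl2 }
    obtain ⟨h7, hcomm, h4⟩ := seven_struct C hs6
    subst h7
    obtain ⟨h, hh, hconj⟩ := exists_h_rev hyp 7 (by omega) hbot hcard x₀ hx1 hx
    have e6 : ((7 : ℕ) : ℤ) - 1 = 6 := by norm_num
    have e5 : ((7 : ℕ) : ℤ) - 2 = 5 := by norm_num
    rw [e6] at hXH hh
    rw [e5] at hconj
    exact seven_false C hcomm h4 (e_mem C hcomm h4) ⟨h, by rw [hXH]; exact hh, hconj⟩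

/-- **Tutte's theorem in group form** (Part II of S3385). -/
theorem tutte_group_form {G : Type*} [Group G] [Finite G] (H K : Subgroup G) (t : G)
    (hK : K = H ⊓ MulAut.conj t • H) (hidx : K.relIndex H = 3) (ht2 : t ^ 2 ∈ K)
    (hcore : ∀ N : Subgroup G, N ≤ H → (∀ h ∈ H, MulAut.conj h • N = N) →
      MulAut.conj t • N = N → N = ⊥) :
    ∃ k : ℕ, k ≤ 4 ∧ Nat.card K = 2 ^ k := by
  obtain ⟨g, hyp, hg⟩ := hyp_of_t H K t hK hidx ht2 hcore
  obtain ⟨k, hk, hc⟩ := hyp_bound hyp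
  refine ⟨k, hk, ?_⟩
  rw [hK, ← hg]
  exact hc

end Cfsg.Agent.Lib.Helper55.TUT
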